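import Cfsg.Prelude.Def_Classification2
import Cfsg.Prelude.Def_LieTypeChar
import Cfsg.Agent.H383.Dg.RedA
import Cfsg.Agent.H408.EngStr_m3
import Cfsg.Agent.Lib.LocalCore
import Cfsg.Agent.Lib.GoldschmidtFusion
import Cfsg.Agent.Lib.NormalAbelian
import Cfsg.Agent.Lib.CoprimeCommutator
import Cfsg.Agent.S0023
import Cfsg.Agent.S0058
import Cfsg.Agent.S0126
import Cfsg.Agent.H565.RankTwo
import Cfsg.Agent.FastGrp
import Cfsg.Agent.Prune
set_option linter.all false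

section
prune_inst 0x7ffcfefbaffc3ddfffff7e7ffffddffe3bd4dfffffdfff4bfffdfbffbfff23ef3be5fbaf1de4d8ff9ff7e2be30b87853f97eceffef6bdc7ffffd5ff45ffbee1ff7ffbfad71d6bc340ffe6ffffbf17fce7f3fffffffffffffffffffffffffffffffffffffffff

-- part: T44/Basic
section
prune_inst 0x10000100140000000018000000001c42b2000002000b00002040000004810c41a0040e21b06002000110006400380068120000090030000020008a0041180080040000029008a100000000008800000000000000000000000000000000000000000000000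
set_option linter.all false
open scoped Cfsg.Agent.FastGrp

-- part: T44/Defs
section
/-!
# S3544 (coprime subdegrees), global proof of the local case: interface (helper36)

`H` is a core-free maximal subgroup of `G`, `T` a normal subgroup, `M = T ⊓ H` has characteristic `r`, `Q = O_r(M)`.
A direction `Dr T H Y d` is a set `Y ⊆ T \ H` closed under inversion and conjugation by `H`, such that the orbit of the
point `y H` under `M` has length dividing `d`.  `Cfg` : two directions with `da`, `db`, `r` pairwise coprime.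
`AS` : moreover `G` is almost simple with socle `T`.  `Row P` : no `AS` configuration with socle in the family `P`.
See `notes/T44/helper36.md`.
-/

set_option autoImplicit false

namespace Cfsg.Agent.T44

open Subgroup Cfsg

/-- the conjugate `g A g⁻¹` -/
abbrev cj {G : Type*} [Group G] (g : G) (A : Subgroup G) : Subgroup G := H851.Sims.cjS g A

section defs

variable {G : Type*} [Group G]

/-- `Q = O_r(M)` -/
structure IsO (r : ℕ) (Q M : Subgroup G) : Prop where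
  le : Q ≤ M
  pg : IsPGroup r Q
  norm : M ≤ normalizer (Q : Set G)
  max : ∀ X : Subgroup G, X ≤ M → IsPGroup r X → M ≤ normalizer (X : Set G) → X ≤ Q

/-- a direction -/
structure Dr (T H : Subgroup G) (Y : Set G) (d : ℕ) : Prop where
  ne : Y.Nonempty
  mem : ∀ y ∈ Y, y ∈ T
  notMem : ∀ y ∈ Y, y ∉ H
  inv : ∀ y ∈ Y, y⁻¹ ∈ Y
  conj : ∀ h ∈ H, ∀ y ∈ Y, h * y * h⁻¹ ∈ Y
  idx : ∀ y ∈ Y, (cj y H).relIndex (T ⊓ H) ∣ d

/-- two coprime directions of degree prime to `r`, `T ⊓ H` of characteristic `r` -/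
structure Cfg (T H Q : Subgroup G) (r : ℕ) (Ya Yb : Set G) (da db : ℕ) : Prop where
  normal : T.Normal
  coatom : IsCoatom H
  core : H.normalCore = ⊥
  prime : r.Prime
  isO : IsO r Q (T ⊓ H)
  Q_ne : Q ≠ ⊥
  cent : T ⊓ H ⊓ centralizer (Q : Set G) ≤ Q
  A : Dr T H Ya da
  B : Dr T H Yb db
  cop : da.Coprime db
  ra : ¬ r ∣ da
  rb : ¬ r ∣ db

/-- the almost simple configuration -/
structure AS (T H Q : Subgroup G) (r : ℕ) (Ya Yb : Set G) (da db : ℕ) : Prop extends Cfg T H Q r Ya Yb da db where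
  simple : IsSimpleGroup T
  noncomm : ¬ IsMulCommutative T
  centT : centralizer (T : Set G) = ⊥

/-- `L_Y = ⟨y Q y⁻¹ : y ∈ Y⟩` -/
def Lg (Q : Subgroup G) (Y : Set G) : Subgroup G := ⨆ y ∈ Y, cj y Q

/-- `O^{t'}(X)`, generated by the `t`-elements of `X` -/
def Gen (t : ℕ) (X : Subgroup G) : Subgroup G := closure {x | x ∈ X ∧ ∃ k : ℕ, x ^ t ^ k = 1}

end defs

/-- a family of groups, which may depend on the prime `r` -/
abbrev Fam := ℕ → ∀ (T : Type) [Group T], Prop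

/-- no almost simple configuration of characteristic `r` with socle in the family `P r` -/
def Row (P : Fam) : Prop :=
  ∀ (G : Type) [Group G] [Finite G] (T H Q : Subgroup G) (r : ℕ) (Ya Yb : Set G) (da db : ℕ),
    AS T H Q r Ya Yb da db → P r T → False

/-- the classification, in `Type` -/
def CF : Prop := ∀ (T : Type) [Group T] [Finite T] [IsSimpleGroup T], IsKnownSimple' T

/-! ### The boxes.  Every box may use the classification `CF`. -/

/-- alternating groups -/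
def BoxAlt : Prop := CF → Row fun _ T _ => IsAlternating T

/-- groups of Lie type in the defining characteristic -/
def BoxPar : Prop := CF → Row fun r T _ => IsLieTypeChar r T

/-- classical groups in cross characteristic -/
def BoxPSL : Prop := CF → Row fun r T _ => ∃ p, p ≠ r ∧ IsPSLChar p T
def BoxPSp : Prop := CF → Row fun r T _ => ∃ p, p ≠ r ∧ IsPSpChar p T
def BoxPSU : Prop := CF → Row fun r T _ => ∃ p, p ≠ r ∧ IsPSUChar p T
def BoxOOdd : Prop := CF → Row fun r T _ => ∃ p, p ≠ r ∧ IsPOmegaOddChar p T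
def BoxOPlus : Prop := CF → Row fun r T _ => ∃ p, p ≠ r ∧ IsPOmegaPlusChar p T
def BoxOMinus : Prop := CF → Row fun r T _ => ∃ p, p ≠ r ∧ IsPOmegaMinusChar p T

/-- exceptional groups in cross characteristic -/
def BoxChev : Prop := CF → Row fun r T _ => ∃ p, p ≠ r ∧ IsExceptionalChevChar p T
def BoxTw : Prop := CF → Row fun r T _ => ∃ p, p ≠ r ∧ IsTwistedE6D4Char p T
def BoxSz : Prop := CF → Row fun r T _ => r ≠ 2 ∧ Lie.IsoSuzuki T
def Box2F4 : Prop := CF → Row fun r T _ => r ≠ 2 ∧ Lie.Iso2F4 T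
def BoxRee : Prop := CF → Row fun r T _ => r ≠ 3 ∧ Lie.IsoRee T

/-- the Tits group and the sporadic groups -/
def BoxTits : Prop := CF → Row fun _ T _ => Lie.IsoTits T
def BoxSpor : Prop := CF → Row fun _ T _ => IsSporadicGroup T

/-- no almost simple configuration at all -/
def NoAS : Prop := Row fun _ _ _ => True

theorem noAS_of (cf : CF) (hAlt : BoxAlt) (hPar : BoxPar) (hPSL : BoxPSL) (hPSp : BoxPSp) (hPSU : BoxPSU)
    (hOOdd : BoxOOdd) (hOPlus : BoxOPlus) (hOMinus : BoxOMinus) (hChev : BoxChev) (hTw : BoxTw) (hSz : BoxSz)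
    (h2F4 : Box2F4) (hRee : BoxRee) (hTits : BoxTits) (hSpor : BoxSpor) : NoAS := by
  intro G _ _ T H Q r Ya Yb da db h _
  have := h.simple
  have par := hPar cf G T H Q r Ya Yb da db h
  rcases cf T with hT | hT | hT | hT | hT | hT | hT | hT | hT | hT
  · apply h.noncomm
    have h1 : Fact (Nat.card T).Prime := ⟨hT⟩
    have h2 : IsCyclic T := isCyclic_of_prime_card (p := Nat.card T) rfl
    exact IsCyclic.isMulCommutative
  · exact hAlt cf G T H Q r Ya Yb da db h hT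
  · obtain ⟨F, _, _, n, h1⟩ := hT
    have hc : IsPSLChar (ringChar F) T := ⟨F, inferInstance, inferInstance, inferInstance, n, h1⟩
    by_cases e : ringChar F = r
    · exact par (Or.inl (e ▸ hc))
    · exact hPSL cf G T H Q r Ya Yb da db h ⟨_, e, hc⟩
  · obtain ⟨F, _, _, n, h1⟩ := hT
    have hc : IsPSpChar (ringChar F) T := ⟨F, inferInstance, inferInstance, inferInstance, n, h1⟩
    by_cases e : ringChar F = r
    · exact par (Or.inr (Or.inl (e ▸ hc)))
    · exact hPSp cf G T H Q r Ya Yb da db h ⟨_, e, hc⟩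
  · obtain ⟨F, _, _, n, q, h1⟩ := hT
    have hc : IsPSUChar (ringChar F) T := ⟨F, inferInstance, inferInstance, inferInstance, n, q, h1⟩
    by_cases e : ringChar F = r
    · exact par (Or.inr (Or.inr (Or.inl (e ▸ hc))))
    · exact hPSU cf G T H Q r Ya Yb da db h ⟨_, e, hc⟩
  · obtain ⟨F, _, _, n, h1⟩ := hT
    have hc : IsPOmegaOddChar (ringChar F) T := ⟨F, inferInstance, inferInstance, inferInstance, n, h1⟩
    by_cases e : ringChar F = r
    · exact par (Or.inr (Or.inr (Or.inr (Or.inl (e ▸ hc)))))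
    · exact hOOdd cf G T H Q r Ya Yb da db h ⟨_, e, hc⟩
  · obtain ⟨F, _, _, n, h1⟩ := hT
    have hc : IsPOmegaPlusChar (ringChar F) T := ⟨F, inferInstance, inferInstance, inferInstance, n, h1⟩
    by_cases e : ringChar F = r
    · exact par (Or.inr (Or.inr (Or.inr (Or.inr (Or.inl (e ▸ hc))))))
    · exact hOPlus cf G T H Q r Ya Yb da db h ⟨_, e, hc⟩
  · obtain ⟨F, _, _, n, a, b, h1⟩ := hT
    have hc : IsPOmegaMinusChar (ringChar F) T := ⟨F, inferInstance, inferInstance, inferInstance, n, a, b, h1⟩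
    by_cases e : ringChar F = r
    · exact par (Or.inr (Or.inr (Or.inr (Or.inr (Or.inr (Or.inl (e ▸ hc)))))))
    · exact hOMinus cf G T H Q r Ya Yb da db h ⟨_, e, hc⟩
  · have chev : ∀ p, IsExceptionalChevChar p T → False := by
      intro p hc
      by_cases e : p = r
      · exact par (Or.inr (Or.inr (Or.inr (Or.inr (Or.inr (Or.inr (Or.inl (e ▸ hc))))))))
      · exact hChev cf G T H Q r Ya Yb da db h ⟨_, e, hc⟩
    have tw : ∀ p, IsTwistedE6D4Char p T → False := by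
      intro p hc
      by_cases e : p = r
      · exact par (Or.inr (Or.inr (Or.inr (Or.inr (Or.inr (Or.inr (Or.inr (Or.inl (e ▸ hc)))))))))
      · exact hTw cf G T H Q r Ya Yb da db h ⟨_, e, hc⟩
    rcases hT with hT | hT | hT | hT | hT | hT | hT | hT | hT | hT | hT
    · obtain ⟨F, _, _, h1⟩ := hT
      exact chev (ringChar F) ⟨F, inferInstance, inferInstance, inferInstance, Or.inl h1⟩
    · obtain ⟨F, _, _, h1⟩ := hT
      exact chev (ringChar F) ⟨F, inferInstance, inferInstance, inferInstance, Or.inr (Or.inl h1)⟩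
    · obtain ⟨F, _, _, h1⟩ := hT
      exact chev (ringChar F) ⟨F, inferInstance, inferInstance, inferInstance, Or.inr (Or.inr (Or.inl h1))⟩
    · obtain ⟨F, _, _, h1⟩ := hT
      exact chev (ringChar F) ⟨F, inferInstance, inferInstance, inferInstance, Or.inr (Or.inr (Or.inr (Or.inl h1)))⟩
    · obtain ⟨F, _, _, h1⟩ := hT
      exact chev (ringChar F) ⟨F, inferInstance, inferInstance, inferInstance, Or.inr (Or.inr (Or.inr (Or.inr h1)))⟩
    · obtain ⟨F, _, _, q, h1, h2⟩ := hT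
      exact tw (ringChar F) ⟨F, inferInstance, inferInstance, inferInstance, q, h1, Or.inl h2⟩
    · obtain ⟨F, _, _, q, h1, h2⟩ := hT
      exact tw (ringChar F) ⟨F, inferInstance, inferInstance, inferInstance, q, h1, Or.inr h2⟩
    · by_cases e : r = 2
      · exact par (Or.inr (Or.inr (Or.inr (Or.inr (Or.inr (Or.inr (Or.inr (Or.inr (Or.inl ⟨e, hT⟩)))))))))
      · exact hSz cf G T H Q r Ya Yb da db h ⟨e, hT⟩
    · by_cases e : r = 3
      · exact par (Or.inr (Or.inr (Or.inr (Or.inr (Or.inr (Or.inr (Or.inr (Or.inr (Or.inr (Or.inr ⟨e, hT⟩))))))))))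
      · exact hRee cf G T H Q r Ya Yb da db h ⟨e, hT⟩
    · by_cases e : r = 2
      · exact par (Or.inr (Or.inr (Or.inr (Or.inr (Or.inr (Or.inr (Or.inr (Or.inr (Or.inr (Or.inl ⟨e, hT⟩))))))))))
      · exact h2F4 cf G T H Q r Ya Yb da db h ⟨e, hT⟩
    · exact hTits cf G T H Q r Ya Yb da db h hT
  · exact hSpor cf G T H Q r Ya Yb da db h hT

end Cfsg.Agent.T44
end

-- part: T44/Basic
section
/-!
# S3544, local case: the basic facts on a configuration (helper36)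

`M = T ⊓ H`, `La = Lg Q Ya`, `Lb = Lg Q Yb`.  `La`, `Lb` are subgroups of `M` normalised by `H`, `⁅La, Lb⁆ ≤ Q`,
`Lb ≤ y H y⁻¹` and `La ≰ y H y⁻¹` for `y ∈ Ya`.
-/

set_option autoImplicit false

namespace Cfsg.Agent.T44

open Subgroup Cfsg
open scoped commutatorElement

variable {G : Type*} [Group G]

/-! ### Conjugates -/

theorem mem_cj {g x : G} {A : Subgroup G} : x ∈ cj g A ↔ g⁻¹ * x * g ∈ A := H717.Sims.mem_cjS

theorem conj_mem_cj {x : G} {A : Subgroup G} (hx : x ∈ A) (g : G) : g * x * g⁻¹ ∈ cj g A := ⟨x, hx, rfl⟩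

theorem cj_mul (g h : G) (A : Subgroup G) : cj (g * h) A = cj g (cj h A) := H717.Sims.cjS_mul g h A

theorem cj_one (A : Subgroup G) : cj 1 A = A := by
  ext x; rw [mem_cj]; simp

theorem cj_inv_cj (g : G) (A : Subgroup G) : cj g⁻¹ (cj g A) = A := by rw [← cj_mul, inv_mul_cancel, cj_one]

theorem cj_cj_inv (g : G) (A : Subgroup G) : cj g (cj g⁻¹ A) = A := by rw [← cj_mul, mul_inv_cancel, cj_one]

theorem cj_mono (g : G) {A B : Subgroup G} (h : A ≤ B) : cj g A ≤ cj g B := Subgroup.map_mono h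

theorem cj_of_mem {g : G} {A : Subgroup G} (hg : g ∈ A) : cj g A = A := H717.Sims.cjS_of_mem hg

theorem card_cj (g : G) (A : Subgroup G) : Nat.card (cj g A) = Nat.card A :=
  (Nat.card_congr (A.equivMapOfInjective _ (MulAut.conj g).injective).toEquiv).symm

theorem cj_le_iff {g : G} {A B : Subgroup G} : cj g A ≤ B ↔ A ≤ cj g⁻¹ B := by
  constructor
  · intro h
    have := cj_mono g⁻¹ h
    rwa [cj_inv_cj] at this
  · intro h
    have := cj_mono g h
    rwa [cj_cj_inv] at this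

theorem cj_inf (g : G) (A B : Subgroup G) : cj g (A ⊓ B) = cj g A ⊓ cj g B := by
  ext x; simp only [mem_cj, mem_inf]

theorem cj_sup (g : G) (A B : Subgroup G) : cj g (A ⊔ B) = cj g A ⊔ cj g B := Subgroup.map_sup _ _ _

theorem cj_eq_iff {g : G} {A : Subgroup G} : cj g A = A ↔ g ∈ normalizer (A : Set G) :=
  Lib.GoldschmidtFusion.mem_normalizer_iff_map_conj.symm

theorem cj_normal (g : G) (N : Subgroup G) [hN : N.Normal] : cj g N = N :=
  cj_eq_iff.2 (by rw [normalizer_eq_top]; trivial)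

theorem cj_normalizer (g : G) (A : Subgroup G) : cj g (normalizer (A : Set G)) = normalizer (cj g A : Set G) :=
  Lib.GoldschmidtFusion.map_conj_normalizer A g

theorem cj_centralizer (g : G) (A : Subgroup G) : cj g (centralizer (A : Set G)) = centralizer (cj g A : Set G) := by
  ext x; rw [mem_cj, Lib.GoldschmidtFusion.mem_centralizer_map_conj]

theorem cj_bot (g : G) : cj g (⊥ : Subgroup G) = ⊥ := Subgroup.map_bot _

theorem cj_ne_bot (g : G) {A : Subgroup G} (h : A ≠ ⊥) : cj g A ≠ ⊥ := by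
  intro h'
  apply h
  rw [← cj_inv_cj g A, h', cj_bot]

theorem isPGroup_cj {r : ℕ} (g : G) {A : Subgroup G} (h : IsPGroup r A) : IsPGroup r (cj g A) := h.map _

theorem relIndex_cj (g : G) (A B : Subgroup G) : (cj g A).relIndex (cj g B) = A.relIndex B :=
  Subgroup.relIndex_map_map_of_injective A B (MulAut.conj g).injective

theorem cj_norm (g : G) {A X : Subgroup G} (h : A ≤ normalizer (X : Set G)) :
    cj g A ≤ normalizer (cj g X : Set G) := by
  rw [← cj_normalizer]; exact cj_mono g h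

theorem cj_commutator (g : G) (A B : Subgroup G) : cj g ⁅A, B⁆ = ⁅cj g A, cj g B⁆ := Subgroup.map_commutator _ _ _

/-! ### Normalizers -/

theorem conj_mem_of_norm {A X : Subgroup G} (h : A ≤ normalizer (X : Set G)) {a x : G} (ha : a ∈ A) (hx : x ∈ X) :
    a * x * a⁻¹ ∈ X := (mem_normalizer_iff.1 (h ha) x).1 hx

theorem conj_mem_of_norm' {A X : Subgroup G} (h : A ≤ normalizer (X : Set G)) {a x : G} (ha : a ∈ A) (hx : x ∈ X) :
    a⁻¹ * x * a ∈ X := by
  have := conj_mem_of_norm h (A.inv_mem ha) hx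
  rwa [inv_inv] at this

theorem norm_of_conj {A X : Subgroup G} (h : ∀ a ∈ A, ∀ x ∈ X, a * x * a⁻¹ ∈ X) : A ≤ normalizer (X : Set G) := by
  intro a ha
  rw [mem_normalizer_iff]
  intro x
  refine ⟨h a ha x, fun hx => ?_⟩
  have := h _ (A.inv_mem ha) _ hx
  have e : a⁻¹ * (a * x * a⁻¹) * a⁻¹⁻¹ = x := by group
  rwa [e] at this

theorem norm_inf {A X Y : Subgroup G} (hX : A ≤ normalizer (X : Set G)) (hY : A ≤ normalizer (Y : Set G)) :
    A ≤ normalizer ((X ⊓ Y : Subgroup G) : Set G) :=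
  norm_of_conj fun _ ha _ hx => ⟨conj_mem_of_norm hX ha hx.1, conj_mem_of_norm hY ha hx.2⟩

theorem norm_sup {A X Y : Subgroup G} (hX : A ≤ normalizer (X : Set G)) (hY : A ≤ normalizer (Y : Set G)) :
    A ≤ normalizer ((X ⊔ Y : Subgroup G) : Set G) := by
  intro a ha
  rw [← cj_eq_iff, cj_sup, cj_eq_iff.2 (hX ha), cj_eq_iff.2 (hY ha)]

theorem norm_commutator {A X Y : Subgroup G} (hX : A ≤ normalizer (X : Set G)) (hY : A ≤ normalizer (Y : Set G)) :
    A ≤ normalizer ((⁅X, Y⁆ : Subgroup G) : Set G) := by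
  intro a ha
  rw [← cj_eq_iff, cj_commutator, cj_eq_iff.2 (hX ha), cj_eq_iff.2 (hY ha)]

theorem norm_centralizer {A X : Subgroup G} (hX : A ≤ normalizer (X : Set G)) :
    A ≤ normalizer ((centralizer (X : Set G) : Subgroup G) : Set G) := by
  intro a ha
  rw [← cj_eq_iff, cj_centralizer, cj_eq_iff.2 (hX ha)]

theorem norm_normal (A N : Subgroup G) [N.Normal] : A ≤ normalizer (N : Set G) := by
  rw [normalizer_eq_top]; exact le_top

theorem commutator_le_left_of_norm {X Y : Subgroup G} (h : Y ≤ normalizer (X : Set G)) : ⁅X, Y⁆ ≤ X := by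
  rw [commutator_le]
  intro x hx y hy
  have : ⁅x, y⁆ = x * (y * x⁻¹ * y⁻¹) := by rw [commutatorElement_def]; group
  rw [this]
  exact X.mul_mem hx (conj_mem_of_norm h hy (X.inv_mem hx))

theorem commutator_le_right_of_norm {X Y : Subgroup G} (h : X ≤ normalizer (Y : Set G)) : ⁅X, Y⁆ ≤ Y := by
  rw [commutator_comm]; exact commutator_le_left_of_norm h

/-- the elements of `M` which centralise `X` modulo `Q` -/
def cmod (M Q X : Subgroup G) (hQ : M ≤ normalizer (Q : Set G)) : Subgroup G where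
  carrier := {m | m ∈ M ∧ ∀ x ∈ X, ⁅x, m⁆ ∈ Q}
  one_mem' := ⟨M.one_mem, fun x _ => by simp⟩
  mul_mem' := by
    rintro a b ⟨ha, ha'⟩ ⟨hb, hb'⟩
    refine ⟨M.mul_mem ha hb, fun x hx => ?_⟩
    have : ⁅x, a * b⁆ = ⁅x, a⁆ * (a * ⁅x, b⁆ * a⁻¹) := by simp only [commutatorElement_def]; group
    rw [this]
    exact Q.mul_mem (ha' x hx) (conj_mem_of_norm hQ ha (hb' x hx))
  inv_mem' := by
    rintro a ⟨ha, ha'⟩
    refine ⟨M.inv_mem ha, fun x hx => ?_⟩
    have : ⁅x, a⁻¹⁆ = a⁻¹ * ⁅x, a⁆⁻¹ * a := by simp only [commutatorElement_def]; group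
    rw [this]
    exact conj_mem_of_norm' hQ ha (Q.inv_mem (ha' x hx))

theorem le_cmod {M Q X Y : Subgroup G} {hQ : M ≤ normalizer (Q : Set G)} :
    Y ≤ cmod M Q X hQ ↔ Y ≤ M ∧ ⁅X, Y⁆ ≤ Q := by
  rw [commutator_le]
  exact ⟨fun h => ⟨fun y hy => (h hy).1, fun x hx y hy => (h hy).2 x hx⟩,
    fun h y hy => ⟨h.1 hy, fun x hx => h.2 x hx y hy⟩⟩

/-! ### Indices -/

section idx

variable [Finite G]

theorem relIndex_ne_zero' (A B : Subgroup G) : A.relIndex B ≠ 0 := by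
  rw [relIndex]; exact index_ne_zero_of_finite

/-- a normal `r`-subgroup of `D` lies in every subgroup of index prime to `r` -/
theorem pg_le_of_idx {r : ℕ} (hr : r.Prime) {X D K : Subgroup G} (hXD : X ≤ D) (hn : D ≤ normalizer (X : Set G))
    (hX : IsPGroup r X) (hK : ¬ r ∣ K.relIndex D) : X ≤ K := by
  have : Fact r.Prime := ⟨hr⟩
  have h1 := H408.Core.relIndex_dvd_of_le_normalizer K hXD hn
  obtain ⟨k, hk⟩ := hX.index (K.subgroupOf X)
  rw [← relIndex_eq_one]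
  cases k with
  | zero => exact hk
  | succ k =>
    exfalso
    apply hK
    refine Dvd.dvd.trans ?_ h1
    change r ∣ (K.subgroupOf X).index
    rw [hk]
    exact dvd_pow_self r (Nat.succ_ne_zero k)

/-- coprime indices -/
theorem relIndex_inf_eq {M A B : Subgroup G} (h : (A.relIndex M).Coprime (B.relIndex M)) :
    B.relIndex (M ⊓ A) = B.relIndex M := by
  have h1 := H408.Core.relIndex_eq (H := B.subgroupOf M) (M := A.subgroupOf M) h.symm
  have e : A.subgroupOf M = (M ⊓ A).subgroupOf M := by rw [inf_comm, inf_subgroupOf_right]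
  rw [e, relIndex_subgroupOf inf_le_left] at h1
  exact h1

/-- coprime indices: factorisation -/
theorem exists_mul_of_coprime {M A B : Subgroup G} (h : (A.relIndex M).Coprime (B.relIndex M)) {m : G}
    (hm : m ∈ M) : ∃ a ∈ M ⊓ A, ∃ b ∈ M ⊓ B, m = a * b := by
  obtain ⟨a, ha, b, hb, e⟩ := H408.Core.exists_mul (H := A.subgroupOf M) (M := B.subgroupOf M) h ⟨m, hm⟩
  exact ⟨a, ⟨a.2, ha⟩, b, ⟨b.2, hb⟩, congrArg Subtype.val e⟩

end idx

/-! ### `O_r` -/

theorem isO_pCore (r : ℕ) (X : Subgroup G) : IsO r ((pCore r X).map X.subtype) X :=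
  ⟨map_subtype_le _, Lib.LocalCore.isPGroup_map_pCore r X, Lib.LocalCore.le_normalizer_map_pCore r X,
    fun _ h1 h2 h3 => Lib.LocalCore.le_map_pCore h1 h2 h3⟩

namespace IsO

variable {r : ℕ} {Q M : Subgroup G}

theorem unique {Q' : Subgroup G} (h : IsO r Q M) (h' : IsO r Q' M) : Q = Q' :=
  le_antisymm (h'.max Q h.le h.pg h.norm) (h.max Q' h'.le h'.pg h'.norm)

theorem cj (h : IsO r Q M) (g : G) : IsO r (T44.cj g Q) (T44.cj g M) := by
  refine ⟨cj_mono g h.le, isPGroup_cj g h.pg, cj_norm g h.norm, fun X h1 h2 h3 => ?_⟩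
  have h4 := cj_norm g⁻¹ h3
  rw [cj_inv_cj] at h4
  have h5 := cj_mono g⁻¹ h1
  rw [cj_inv_cj] at h5
  have := cj_mono g (h.max _ h5 (isPGroup_cj _ h2) h4)
  rwa [cj_cj_inv] at this

theorem norm_le (h : IsO r Q M) : normalizer (M : Set G) ≤ normalizer (Q : Set G) := by
  intro g hg
  have h1 := h.cj g
  rw [cj_eq_iff.2 hg] at h1
  exact cj_eq_iff.1 (h1.unique h)

/-- a normal `r`-subgroup of a normal subgroup of `M` lies in `O_r(M)` -/
theorem le_of_sub (h : IsO r Q M) {L X : Subgroup G} (hL : L ≤ M) (hn : M ≤ normalizer (L : Set G)) (hX : X ≤ L)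
    (hp : IsPGroup r X) (hLX : L ≤ normalizer (X : Set G)) : X ≤ Q := by
  have h0 := isO_pCore r L
  exact (h0.max X hX hp hLX).trans (h.max _ (h0.le.trans hL) h0.pg (hn.trans h0.norm_le))

/-- `O_r(L) = L ⊓ O_r(M)` for `L` normal in `M` -/
theorem inf (h : IsO r Q M) {L : Subgroup G} (hL : L ≤ M) (hn : M ≤ normalizer (L : Set G)) : IsO r (L ⊓ Q) L :=
  ⟨inf_le_left, h.pg.to_inf_right, norm_inf le_normalizer (hL.trans h.norm),
    fun _ h1 h2 h3 => le_inf h1 (h.le_of_sub hL hn h1 h2 h3)⟩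

end IsO

/-! ### Directions -/

namespace Dr

variable {T H : Subgroup G} {Y : Set G} {d : ℕ}

theorem of_dvd (h : Dr T H Y d) {d' : ℕ} (hd : d ∣ d') : Dr T H Y d' :=
  ⟨h.ne, h.mem, h.notMem, h.inv, h.conj, fun y hy => (h.idx y hy).trans hd⟩

end Dr

theorem cj_le_Lg {Q : Subgroup G} {Y : Set G} {y : G} (hy : y ∈ Y) : cj y Q ≤ Lg Q Y :=
  le_iSup₂_of_le (f := fun y (_ : y ∈ Y) => cj y Q) y hy le_rfl

theorem Lg_le {Q X : Subgroup G} {Y : Set G} : Lg Q Y ≤ X ↔ ∀ y ∈ Y, cj y Q ≤ X := iSup₂_le_iff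

/-! ### Configurations -/

namespace Cfg

variable {T H Q : Subgroup G} {r : ℕ} {Ya Yb : Set G} {da db : ℕ} (h : Cfg T H Q r Ya Yb da db)

include h

theorem symm : Cfg T H Q r Yb Ya db da :=
  ⟨h.normal, h.coatom, h.core, h.prime, h.isO, h.Q_ne, h.cent, h.B, h.A, h.cop.symm, h.rb, h.ra⟩

/-- `N_G(X) = H` for `1 ≠ X ≤ H` normal in `H` -/
theorem norm_le {X : Subgroup G} (hX : X ≤ H) (hne : X ≠ ⊥) (hn : H ≤ normalizer (X : Set G)) :
    normalizer (X : Set G) ≤ H := by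
  rcases eq_or_lt_of_le hn with e | e
  · exact e.ge
  · exfalso
    have h1 := h.coatom.2 _ e
    have : X.Normal := normalizer_eq_top_iff.1 h1
    apply hne
    rw [eq_bot_iff, ← h.core]
    exact normal_le_normalCore.2 hX

theorem cent_le {X : Subgroup G} (hX : X ≤ H) (hne : X ≠ ⊥) (hn : H ≤ normalizer (X : Set G)) :
    centralizer (X : Set G) ≤ H := (centralizer_le_normalizer _).trans (h.norm_le hX hne hn)

/-- `y X y⁻¹ ≠ X` -/
theorem cj_ne {X : Subgroup G} (hX : X ≤ H) (hne : X ≠ ⊥) (hn : H ≤ normalizer (X : Set G)) {y : G} (hy : y ∉ H) :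
    cj y X ≠ X := fun e => hy (h.norm_le hX hne hn (cj_eq_iff.1 e))

theorem not_cj_le [Finite G] {X : Subgroup G} (hX : X ≤ H) (hne : X ≠ ⊥) (hn : H ≤ normalizer (X : Set G)) {y : G}
    (hy : y ∉ H) : ¬ cj y X ≤ X := fun e =>
  h.cj_ne hX hne hn hy (eq_of_le_of_card_ge e (by rw [card_cj]))

theorem not_le_cj [Finite G] {X : Subgroup G} (hX : X ≤ H) (hne : X ≠ ⊥) (hn : H ≤ normalizer (X : Set G)) {y : G}
    (hy : y ∉ H) : ¬ X ≤ cj y X := fun e =>
  h.cj_ne hX hne hn hy (eq_of_le_of_card_ge e (by rw [card_cj])).symm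

theorem H_norm_M : H ≤ normalizer ((T ⊓ H : Subgroup G) : Set G) :=
  have := h.normal
  norm_inf (norm_normal H T) le_normalizer

theorem cj_M (g : G) : cj g (T ⊓ H) = T ⊓ cj g H := by
  have := h.normal
  rw [cj_inf, cj_normal]

theorem H_norm_Q : H ≤ normalizer (Q : Set G) := h.H_norm_M.trans h.isO.norm_le

theorem Q_le_M : Q ≤ T ⊓ H := h.isO.le

theorem Q_le_T : Q ≤ T := h.isO.le.trans inf_le_left

theorem Q_le_H : Q ≤ H := h.isO.le.trans inf_le_right

theorem norm_Q : normalizer (Q : Set G) = H := le_antisymm (h.norm_le h.Q_le_H h.Q_ne h.H_norm_Q) h.H_norm_Q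

/-- `C_T(Q) ≤ Q` -/
theorem cent_Q : T ⊓ centralizer (Q : Set G) ≤ Q := fun _ hx =>
  h.cent ⟨⟨hx.1, h.cent_le h.Q_le_H h.Q_ne h.H_norm_Q hx.2⟩, hx.2⟩

theorem M_ne : T ⊓ H ≠ ⊥ := fun e => h.Q_ne (le_bot_iff.1 (e ▸ h.Q_le_M))

theorem not_T_le : ¬ T ≤ H := by
  obtain ⟨y, hy⟩ := h.A.ne
  exact fun e => h.A.notMem y hy (e (h.A.mem y hy))

theorem sup_eq : T ⊔ H = ⊤ := by
  apply h.coatom.2
  refine lt_of_le_of_ne le_sup_right fun e => h.not_T_le ?_
  rw [e]; exact le_sup_left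

theorem isO_cj (g : G) : IsO r (cj g Q) (T ⊓ cj g H) := by
  rw [← h.cj_M]; exact h.isO.cj g

theorem cj_Q_le_T (g : G) : cj g Q ≤ T := (h.isO_cj g).le.trans inf_le_left

theorem not_r_idx_a {y : G} (hy : y ∈ Ya) : ¬ r ∣ (cj y H).relIndex (T ⊓ H) := fun e =>
  h.ra (e.trans (h.A.idx y hy))

theorem cop_idx {y z : G} (hy : y ∈ Ya) (hz : z ∈ Yb) :
    ((cj y H).relIndex (T ⊓ H)).Coprime ((cj z H).relIndex (T ⊓ H)) :=
  Nat.Coprime.coprime_dvd_right (h.B.idx z hz) (Nat.Coprime.coprime_dvd_left (h.A.idx y hy) h.cop)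

theorem H_norm_La : H ≤ normalizer (Lg Q Ya : Set G) := by
  have key : ∀ a ∈ H, cj a (Lg Q Ya) ≤ Lg Q Ya := by
    intro a ha
    rw [cj_le_iff, Lg_le]
    intro y hy
    rw [← cj_le_iff, ← cj_mul]
    have e : a * y = (a * y * a⁻¹) * a := by group
    rw [e, cj_mul, cj_eq_iff.2 (h.H_norm_Q ha)]
    exact cj_le_Lg (h.A.conj a ha y hy)
  exact norm_of_conj fun a ha x hx => key a ha (conj_mem_cj hx a)

theorem H_norm_Lb : H ≤ normalizer (Lg Q Yb : Set G) := h.symm.H_norm_La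

theorem M_norm_La : T ⊓ H ≤ normalizer (Lg Q Ya : Set G) := inf_le_right.trans h.H_norm_La

theorem M_norm_Lb : T ⊓ H ≤ normalizer (Lg Q Yb : Set G) := h.symm.M_norm_La

variable [Finite G]

/-- (1) -/
theorem Q_le_cj {y : G} (hy : y ∈ Ya) : Q ≤ cj y H :=
  pg_le_of_idx h.prime h.isO.le h.isO.norm h.isO.pg (h.not_r_idx_a hy)

/-- (2) -/
theorem cj_Q_le {y : G} (hy : y ∈ Ya) : cj y Q ≤ T ⊓ H := by
  refine le_inf (h.cj_Q_le_T y) ?_
  rw [cj_le_iff]
  exact h.Q_le_cj (h.A.inv y hy)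

/-- `|M ∩ H^y : M ∩ H^y ∩ H^z| = |M : M ∩ H^z|` -/
theorem idx_inf {y z : G} (hy : y ∈ Ya) (hz : z ∈ Yb) :
    (cj z H).relIndex (T ⊓ H ⊓ cj y H) = (cj z H).relIndex (T ⊓ H) := relIndex_inf_eq (h.cop_idx hy hz)

/-- `M = (M ∩ H^y)(M ∩ H^z)` -/
theorem factor {y z : G} (hy : y ∈ Ya) (hz : z ∈ Yb) {m : G} (hm : m ∈ T ⊓ H) :
    ∃ a ∈ T ⊓ H ⊓ cj y H, ∃ b ∈ T ⊓ H ⊓ cj z H, m = a * b := exists_mul_of_coprime (h.cop_idx hy hz) hm

omit [Finite G] in
/-- `M ∩ H^y` normalises `Q^y` -/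
theorem D_norm_cj_Q (y : G) : T ⊓ H ⊓ cj y H ≤ normalizer (cj y Q : Set G) :=
  le_trans (le_inf (inf_le_left.trans inf_le_left) inf_le_right) (h.isO_cj y).norm

theorem cj_Q_le_D {y : G} (hy : y ∈ Ya) : cj y Q ≤ T ⊓ H ⊓ cj y H := le_inf (h.cj_Q_le hy) (cj_mono y h.Q_le_H)

theorem Q_le_D {y : G} (hy : y ∈ Ya) : Q ≤ T ⊓ H ⊓ cj y H := le_inf h.Q_le_M (h.Q_le_cj hy)

/-- (3) -/
theorem cj_Q_le_cj {y z : G} (hy : y ∈ Ya) (hz : z ∈ Yb) : cj y Q ≤ cj z H := by
  refine pg_le_of_idx h.prime (h.cj_Q_le_D hy) (h.D_norm_cj_Q y) (isPGroup_cj y h.isO.pg) ?_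
  rw [h.idx_inf hy hz]
  exact h.symm.not_r_idx_a hz

/-- (4) -/
theorem La_le_M : Lg Q Ya ≤ T ⊓ H := Lg_le.2 fun _ hy => h.cj_Q_le hy

theorem Lb_le_M : Lg Q Yb ≤ T ⊓ H := h.symm.La_le_M

theorem La_le_cj {z : G} (hz : z ∈ Yb) : Lg Q Ya ≤ cj z H := Lg_le.2 fun _ hy => h.cj_Q_le_cj hy hz

theorem Lb_le_cj {y : G} (hy : y ∈ Ya) : Lg Q Yb ≤ cj y H := h.symm.La_le_cj hy

theorem Lb_le_D {y : G} (hy : y ∈ Ya) : Lg Q Yb ≤ T ⊓ H ⊓ cj y H := le_inf h.Lb_le_M (h.Lb_le_cj hy)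

theorem La_norm_cj_Q {z : G} (hz : z ∈ Yb) : Lg Q Ya ≤ normalizer (cj z Q : Set G) :=
  (h.symm.Lb_le_D hz).trans (h.D_norm_cj_Q z)

theorem La_inf_cj_Q_le {z : G} (hz : z ∈ Yb) : Lg Q Ya ⊓ cj z Q ≤ Q :=
  h.isO.le_of_sub h.La_le_M h.M_norm_La inf_le_left (isPGroup_cj z h.isO.pg).to_inf_right
    (norm_inf le_normalizer (h.La_norm_cj_Q hz))

theorem comm_La_cj_Q {z : G} (hz : z ∈ Yb) : ⁅Lg Q Ya, cj z Q⁆ ≤ Q ⊓ cj z Q := by
  have h1 : ⁅Lg Q Ya, cj z Q⁆ ≤ cj z Q := commutator_le_right_of_norm (h.La_norm_cj_Q hz)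
  have h2 : ⁅Lg Q Ya, cj z Q⁆ ≤ Lg Q Ya := commutator_le_left_of_norm ((h.symm.cj_Q_le hz).trans h.M_norm_La)
  exact le_inf ((le_inf h2 h1).trans (h.La_inf_cj_Q_le hz)) h1

/-- `⁅La, Lb⁆ ≤ Q` -/
theorem comm_le : ⁅Lg Q Ya, Lg Q Yb⁆ ≤ Q := by
  have : Lg Q Yb ≤ cmod (T ⊓ H) Q (Lg Q Ya) h.isO.norm :=
    Lg_le.2 fun z hz => le_cmod.2 ⟨h.symm.cj_Q_le hz, (h.comm_La_cj_Q hz).trans inf_le_left⟩
  exact (le_cmod.1 this).2

theorem not_cj_Q_le {y : G} (hy : y ∉ H) : ¬ cj y Q ≤ Q := h.not_cj_le h.Q_le_H h.Q_ne h.H_norm_Q hy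

theorem not_Q_le_cj {y : G} (hy : y ∉ H) : ¬ Q ≤ cj y Q := h.not_le_cj h.Q_le_H h.Q_ne h.H_norm_Q hy

/-- a normal subgroup of `M` which contains `Q^y` is not inside `H^y` -/
theorem not_le_cj_of {L : Subgroup G} (hL : L ≤ T ⊓ H) (hn : T ⊓ H ≤ normalizer (L : Set G)) {y : G} (hy : y ∉ H)
    (hyL : cj y Q ≤ L) : ¬ L ≤ cj y H := fun e =>
  h.not_cj_Q_le hy (h.isO.le_of_sub hL hn hyL (isPGroup_cj y h.isO.pg)
    ((le_inf hL e).trans (h.D_norm_cj_Q y)))

/-- (5) -/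
theorem not_La_le {y : G} (hy : y ∈ Ya) : ¬ Lg Q Ya ≤ cj y H :=
  h.not_le_cj_of h.La_le_M h.M_norm_La (h.A.notMem y hy) (cj_le_Lg hy)

theorem not_La_le_Q : ¬ Lg Q Ya ≤ Q := by
  obtain ⟨y, hy⟩ := h.A.ne
  exact fun e => h.not_La_le hy (e.trans (h.Q_le_cj hy))

theorem not_Lb_le_Q : ¬ Lg Q Yb ≤ Q := h.symm.not_La_le_Q

/-- (6) -/
theorem cj_Lb_le {y : G} (hy : y ∈ Ya) : cj y (Lg Q Yb) ≤ T ⊓ H := by
  have := h.normal
  refine le_inf ?_ ?_
  · rw [← cj_normal y T]; exact cj_mono y (h.Lb_le_M.trans inf_le_left)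
  · rw [cj_le_iff]; exact h.Lb_le_cj (h.A.inv y hy)

theorem cj_Lb_le_D {y : G} (hy : y ∈ Ya) : cj y (Lg Q Yb) ≤ T ⊓ H ⊓ cj y H :=
  le_inf (h.cj_Lb_le hy) (cj_mono y (h.Lb_le_M.trans inf_le_right))

omit h [Finite G] in
/-- `M ∩ H^y` normalises `X^y` if `H` normalises `X` -/
theorem D_norm_cj {X : Subgroup G} (hX : H ≤ normalizer (X : Set G)) (y : G) :
    T ⊓ H ⊓ cj y H ≤ normalizer (cj y X : Set G) := inf_le_right.trans (cj_norm y hX)

/-- the index of `La ∩ H^y` in `La` divides `da` -/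
theorem idx_La_dvd {y : G} (hy : y ∈ Ya) : (cj y H).relIndex (Lg Q Ya) ∣ da :=
  (H408.Core.relIndex_dvd_of_le_normalizer _ h.La_le_M h.M_norm_La).trans (h.A.idx y hy)

/-- (N1) a prime divisor of `da` which divides `|La : La ∩ H^y|` -/
theorem exists_prime_a {y : G} (hy : y ∈ Ya) :
    ∃ s : ℕ, s.Prime ∧ s ∣ da ∧ s ≠ r ∧ s ∣ (cj y H).relIndex (Lg Q Ya) ∧ s ∣ Q.relIndex (Lg Q Ya) := by
  have h1 : (cj y H).relIndex (Lg Q Ya) ≠ 1 := fun e => h.not_La_le hy (relIndex_eq_one.1 e)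
  obtain ⟨s, hs, hsd⟩ := Nat.exists_prime_and_dvd h1
  have h2 := hsd.trans (h.idx_La_dvd hy)
  exact ⟨s, hs, h2, fun e => h.ra (e ▸ h2), hsd, hsd.trans (relIndex_dvd_of_le_left _ (h.Q_le_cj hy))⟩

/-- (N1) two different primes `s ∣ |La : La ∩ Q|`, `t ∣ |Lb : Lb ∩ Q|`, both different from `r` -/
theorem exists_primes : ∃ s t : ℕ, s.Prime ∧ t.Prime ∧ s ≠ t ∧ s ≠ r ∧ t ≠ r ∧ s ∣ da ∧ t ∣ db ∧
    s ∣ Q.relIndex (Lg Q Ya) ∧ t ∣ Q.relIndex (Lg Q Yb) := by
  obtain ⟨y, hy⟩ := h.A.ne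
  obtain ⟨z, hz⟩ := h.B.ne
  obtain ⟨s, hs, h1, h2, -, h3⟩ := h.exists_prime_a hy
  obtain ⟨t, ht, h4, h5, -, h6⟩ := h.symm.exists_prime_a hz
  refine ⟨s, t, hs, ht, ?_, h2, h5, h1, h4, h3, h6⟩
  rintro rfl
  exact hs.one_lt.ne' (Nat.eq_one_of_dvd_coprimes h.cop h1 h4)

end Cfg

namespace AS

variable {T H Q : Subgroup G} {r : ℕ} {Ya Yb : Set G} {da db : ℕ}

theorem symm (h : AS T H Q r Ya Yb da db) : AS T H Q r Yb Ya db da :=
  ⟨h.toCfg.symm, h.simple, h.noncomm, h.centT⟩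

end AS

end Cfsg.Agent.T44
end
end

-- part: T44/Syl
section
set_option linter.all false
open scoped Cfsg.Agent.FastGrp

/-!
# S3544, local case: Sylow `r`-subgroups of `M` and the transport argument (helper36)

* `Syl p P M` : `P` is a Sylow `p`-subgroup of `M`;
* `Cfg.exists_norm_syl` : a Sylow `r`-subgroup `R` of `M` is normalised by an element of `T` outside `H`;
* `Cfg.false_of_transport` : no `1 ≠ W ≤ H` is normalised by `N_T(R)` and has `|M : N_M(W)|` prime to `da`;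
* `Cfg.not_comm_syl` : `R` is not abelian.
-/

set_option autoImplicit false

namespace Cfsg.Agent.T44

open Subgroup Cfsg
open scoped commutatorElement

variable {G : Type*} [Group G]

/-- `P` is a Sylow `p`-subgroup of `M` -/
structure Syl (p : ℕ) (P M : Subgroup G) : Prop where
  le : P ≤ M
  pg : IsPGroup p P
  idx : ¬ p ∣ P.relIndex M

theorem exists_syl [Finite G] {p : ℕ} (hp : p.Prime) {M D : Subgroup G} (hD : D ≤ M) (hp' : IsPGroup p D) :
    ∃ P : Subgroup G, D ≤ P ∧ Syl p P M := by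
  have : Fact p.Prime := ⟨hp⟩
  obtain ⟨R, h1, h2, h3, h4⟩ := Lib.GoldschmidtFusion.exists_sylow_in hD hp'
  exact ⟨R, h1, h2, h3, h4⟩

theorem exists_syl' [Finite G] {p : ℕ} (hp : p.Prime) (M : Subgroup G) : ∃ P : Subgroup G, Syl p P M := by
  obtain ⟨P, -, h⟩ := exists_syl hp (bot_le : (⊥ : Subgroup G) ≤ M) IsPGroup.of_bot
  exact ⟨P, h⟩

namespace Syl

variable {p : ℕ} {P M : Subgroup G}

theorem cj (h : Syl p P M) (g : G) : Syl p (T44.cj g P) (T44.cj g M) :=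
  ⟨cj_mono g h.le, isPGroup_cj g h.pg, by rw [relIndex_cj]; exact h.idx⟩

variable [Finite G]

theorem exists_conj_le (hp : p.Prime) (h : Syl p P M) {D : Subgroup G} (hD : D ≤ M) (hp' : IsPGroup p D) :
    ∃ m ∈ M, T44.cj m D ≤ P := by
  have : Fact p.Prime := ⟨hp⟩
  exact Lib.GoldschmidtFusion.exists_conj_le_in h.pg h.idx hD hp'

theorem card (hp : p.Prime) (h : Syl p P M) : Nat.card P = p ^ (Nat.card M).factorization p := by
  have : Fact p.Prime := ⟨hp⟩
  have h1 : IsPGroup p (P.subgroupOf M) := h.pg.comap_subtype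
  have h2 : Nat.card (P.subgroupOf M) = _ := (h1.toSylow h.idx).card_eq_multiplicity
  rwa [Nat.card_congr (subgroupOfEquivOfLe h.le).toEquiv] at h2

theorem card_eq (hp : p.Prime) (h : Syl p P M) {P' M' : Subgroup G} (h' : Syl p P' M')
    (e : Nat.card M = Nat.card M') : Nat.card P = Nat.card P' := by rw [h.card hp, h'.card hp, e]

theorem exists_conj (hp : p.Prime) (h : Syl p P M) {P' : Subgroup G} (h' : Syl p P' M) :
    ∃ m ∈ M, T44.cj m P' = P := by
  obtain ⟨m, hm, e⟩ := h.exists_conj_le hp h'.le h'.pg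
  exact ⟨m, hm, eq_of_le_of_card_ge e (by rw [card_cj, h.card_eq hp h' rfl])⟩

/-- maximality -/
theorem eq_of_le (hp : p.Prime) (h : Syl p P M) {D : Subgroup G} (hD : D ≤ M) (hp' : IsPGroup p D) (hPD : P ≤ D) :
    D = P := by
  obtain ⟨P', h1, h2⟩ := exists_syl hp hD hp'
  have : P = P' := eq_of_le_of_card_ge (hPD.trans h1) (by rw [h.card_eq hp h2 rfl])
  exact le_antisymm (this ▸ h1) hPD

omit [Finite G] in
/-- a Sylow subgroup of `M` inside `D ≤ M` is a Sylow subgroup of `D` -/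
theorem of_le (h : Syl p P M) {D : Subgroup G} (hD : D ≤ M) (hPD : P ≤ D) : Syl p P D :=
  ⟨hPD, h.pg, fun e => h.idx (e.trans (by rw [← relIndex_mul_relIndex P D M hPD hD]; exact dvd_mul_right _ _))⟩

omit [Finite G] in
/-- a Sylow subgroup of a subgroup of index prime to `p` -/
theorem trans (hp : p.Prime) {D : Subgroup G} (h : Syl p P D) (hD : D ≤ M) (hi : ¬ p ∣ D.relIndex M) : Syl p P M :=
  ⟨h.le.trans hD, h.pg, by
    rw [← relIndex_mul_relIndex P D M h.le hD]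
    exact fun e => (hp.dvd_mul.1 e).elim h.idx hi⟩

/-- a `p`-subgroup of `M` with the order of a Sylow subgroup -/
theorem of_card (hp : p.Prime) (h : Syl p P M) {P' M' : Subgroup G} (hle : P' ≤ M') (hp' : IsPGroup p P')
    (e : Nat.card M = Nat.card M') (e' : Nat.card P ≤ Nat.card P') : Syl p P' M' := by
  obtain ⟨P'', h1, h2⟩ := exists_syl hp hle hp'
  have : P' = P'' := eq_of_le_of_card_ge h1 (by rw [← h.card_eq hp h2 e]; exact e')
  exact this ▸ h2

/-- a normal `p`-subgroup lies in every Sylow subgroup -/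
theorem le_of_norm (hp : p.Prime) (h : Syl p P M) {X : Subgroup G} (hX : X ≤ M) (hn : M ≤ normalizer (X : Set G))
    (hp' : IsPGroup p X) : X ≤ P := pg_le_of_idx hp hX hn hp' h.idx

/-- the intersection with a normal subgroup -/
theorem inf (h : Syl p P M) {L : Subgroup G} (hL : L ≤ M) (hn : M ≤ normalizer (L : Set G)) : Syl p (L ⊓ P) L :=
  ⟨inf_le_left, h.pg.to_inf_right, by
    rw [inf_relIndex_left]
    exact fun e => h.idx (e.trans (H408.Core.relIndex_dvd_of_le_normalizer P hL hn))⟩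

theorem dvd_card_iff (hp : p.Prime) (h : Syl p P M) {k : ℕ} : p ^ k ∣ Nat.card P ↔ p ^ k ∣ Nat.card M := by
  refine ⟨fun e => e.trans (card_dvd_of_le h.le), fun e => ?_⟩
  rw [h.card hp]
  exact pow_dvd_pow p ((hp.pow_dvd_iff_le_factorization Nat.card_pos.ne').1 e)

end Syl

namespace Cfg

variable {T H Q : Subgroup G} {r : ℕ} {Ya Yb : Set G} {da db : ℕ} (h : Cfg T H Q r Ya Yb da db) [Finite G]

include h

theorem Q_le_syl {R : Subgroup G} (hR : Syl r R (T ⊓ H)) : Q ≤ R :=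
  hR.le_of_norm h.prime h.isO.le h.isO.norm h.isO.pg

/-- a conjugate of `y` under `M` such that `R ≤ H^y` -/
theorem exists_syl_le {R : Subgroup G} (hR : Syl r R (T ⊓ H)) {y : G} (hy : y ∈ Ya) :
    ∃ m ∈ T ⊓ H, m * y * m⁻¹ ∈ Ya ∧ R ≤ cj (m * y * m⁻¹) H := by
  obtain ⟨P, hP⟩ := exists_syl' h.prime (T ⊓ H ⊓ cj y H)
  have hP' : Syl r P (T ⊓ H) := hP.trans h.prime inf_le_left (by
    rw [inf_relIndex_left]; exact h.not_r_idx_a hy)
  obtain ⟨m, hm, e⟩ := hR.exists_conj h.prime hP'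
  refine ⟨m, hm, h.A.conj m hm.2 y hy, ?_⟩
  rw [cj_mul, cj_of_mem (H.inv_mem hm.2), cj_mul, ← e]
  exact cj_mono m (hP.le.trans inf_le_right)

/-- if `R ≤ H^y` then `y H` contains an element of `N_T(R)` -/
theorem exists_norm_of_le {R : Subgroup G} (hR : Syl r R (T ⊓ H)) {y : G} (hy : y ∈ T) (hle : R ≤ cj y H) :
    ∃ n ∈ T, n ∈ normalizer (R : Set G) ∧ y⁻¹ * n ∈ H := by
  have h1 : Syl r (cj y R) (T ⊓ cj y H) := by rw [← h.cj_M]; exact hR.cj y
  have h2 : Syl r R (T ⊓ cj y H) :=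
    h1.of_card h.prime (le_inf (hR.le.trans inf_le_left) hle) hR.pg rfl (by rw [card_cj])
  obtain ⟨k, hk, e⟩ := h2.exists_conj h.prime h1
  refine ⟨k * y, T.mul_mem hk.1 hy, by rw [← cj_eq_iff, cj_mul, e], ?_⟩
  have := mem_cj.1 hk.2
  rwa [mul_assoc] at this

/-- **a Sylow `r`-subgroup of `M` is normalised by an element of `T` outside `H`** -/
theorem exists_norm_syl {R : Subgroup G} (hR : Syl r R (T ⊓ H)) :
    ∃ n ∈ T, n ∉ H ∧ n ∈ normalizer (R : Set G) := by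
  obtain ⟨y, hy⟩ := h.A.ne
  obtain ⟨m, -, hy', hle⟩ := h.exists_syl_le hR hy
  obtain ⟨n, hn, h1, h2⟩ := h.exists_norm_of_le hR (h.A.mem _ hy') hle
  refine ⟨n, hn, fun e => h.A.notMem _ hy' ?_, h1⟩
  have := H.mul_mem e (H.inv_mem h2)
  simpa using this

/-- **transport** -/
theorem false_of_transport {R W : Subgroup G} (hR : Syl r R (T ⊓ H)) (hW : W ≠ ⊥) (hWH : W ≤ H)
    (hn : T ⊓ normalizer (R : Set G) ≤ normalizer (W : Set G))
    (hc : ((normalizer (W : Set G)).relIndex (T ⊓ H)).Coprime da) : False := by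
  have hY : ∀ y ∈ Ya, ∃ n ∈ normalizer (W : Set G), ∃ a ∈ H, y = n * a := by
    intro y hy
    obtain ⟨m, hm, hy', hle⟩ := h.exists_syl_le hR hy
    obtain ⟨n, hnT, h1, h2⟩ := h.exists_norm_of_le hR (h.A.mem _ hy') hle
    obtain ⟨w, hw, c, hc', e⟩ := exists_mul_of_coprime (A := normalizer (W : Set G)) (B := cj (m * y * m⁻¹) H)
      (Nat.Coprime.coprime_dvd_right (h.A.idx _ hy') hc) ((T ⊓ H).inv_mem hm)
    have h3 := mem_cj.1 hc'.2
    refine ⟨w * n, mul_mem hw.2 (hn ⟨hnT, h1⟩),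
      ((m * y * m⁻¹)⁻¹ * n)⁻¹ * ((m * y * m⁻¹)⁻¹ * c * (m * y * m⁻¹)) * m,
      H.mul_mem (H.mul_mem (H.inv_mem h2) h3) hm.2, ?_⟩
    have e' : w = m⁻¹ * c⁻¹ := by rw [e]; group
    rw [e']; group
  obtain ⟨y0, hy0⟩ := h.A.ne
  have hgen : closure ((H : Set G) ∪ Ya) = ⊤ := by
    apply h.coatom.2
    refine lt_of_le_of_ne (fun a ha => subset_closure (Or.inl ha)) fun e => h.A.notMem y0 hy0 ?_
    rw [e]; exact subset_closure (Or.inr hy0)
  have hall : ∀ g : G, ∃ n ∈ normalizer (W : Set G), ∃ a ∈ H, g = n * a := by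
    intro g
    have hg : g ∈ closure ((H : Set G) ∪ Ya) := by rw [hgen]; trivial
    have step : ∀ x ∈ (H : Set G) ∪ Ya, ∀ g : G, (∃ n ∈ normalizer (W : Set G), ∃ a ∈ H, g = n * a) →
        ∃ n ∈ normalizer (W : Set G), ∃ a ∈ H, g * x = n * a := by
      rintro x (hx | hx) _ ⟨n, hn, a, ha, rfl⟩
      · exact ⟨n, hn, a * x, H.mul_mem ha hx, mul_assoc _ _ _⟩
      · obtain ⟨n', hn', a', ha', e⟩ := hY _ (h.A.conj a ha x hx)
        refine ⟨n * n', mul_mem hn hn', a' * a, H.mul_mem ha' ha, ?_⟩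
        calc n * a * x = n * (a * x * a⁻¹) * a := by group
          _ = n * n' * (a' * a) := by rw [e]; group
    induction hg using closure_induction_right with
    | one => exact ⟨1, one_mem _, 1, one_mem _, (mul_one _).symm⟩
    | mul_right g _ x hx ih => exact step x hx g ih
    | mul_inv_cancel g _ x hx ih =>
      refine step x⁻¹ ?_ g ih
      rcases hx with hx | hx
      · exact Or.inl (H.inv_mem hx)
      · exact Or.inr (h.A.inv x hx)
  apply hW
  rw [eq_bot_iff, ← h.core]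
  intro w hw b
  obtain ⟨n, hn, a, ha, e⟩ := hall b⁻¹
  have h1 : n⁻¹ * w * n ∈ W := conj_mem_of_norm' le_rfl hn hw
  have e2 : b * w * b⁻¹ = a⁻¹ * (n⁻¹ * w * n) * a := by
    have : b = (n * a)⁻¹ := by rw [← e, inv_inv]
    rw [this]; group
  rw [e2]
  exact H.mul_mem (H.mul_mem (H.inv_mem ha) (hWH h1)) ha

/-- no non-trivial subgroup of `H` is normalised by `M` and `N_T(R)` -/
theorem false_of_norm {R W : Subgroup G} (hR : Syl r R (T ⊓ H)) (hW : W ≠ ⊥) (hWH : W ≤ H)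
    (hn : T ⊓ normalizer (R : Set G) ≤ normalizer (W : Set G)) (hM : T ⊓ H ≤ normalizer (W : Set G)) : False :=
  h.false_of_transport hR hW hWH hn (by rw [relIndex_eq_one.2 hM]; exact Nat.coprime_one_left _)

theorem syl_ne_Q {R : Subgroup G} (hR : Syl r R (T ⊓ H)) : R ≠ Q := by
  rintro rfl
  exact h.false_of_norm hR h.Q_ne h.Q_le_H inf_le_right h.isO.norm

/-- a Sylow `r`-subgroup of `M` does not centralise `Q`; in particular it is not abelian -/
theorem not_syl_le_cent {R : Subgroup G} (hR : Syl r R (T ⊓ H)) : ¬ R ≤ centralizer (Q : Set G) := fun e =>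
  h.syl_ne_Q hR (le_antisymm ((le_inf hR.le e).trans h.cent) (h.Q_le_syl hR))

theorem not_comm_syl {R : Subgroup G} (hR : Syl r R (T ⊓ H)) : ¬ ∀ a ∈ R, ∀ b ∈ R, a * b = b * a := fun e =>
  h.not_syl_le_cent hR fun a ha => mem_centralizer_iff.2 fun q hq => e q (h.Q_le_syl hR hq) a ha

end Cfg

end Cfsg.Agent.T44
end

-- part: T44/Num
section
set_option linter.all false
open scoped Cfsg.Agent.FastGrp

/-!
# S3544, local case: the numerical lemmas (helper36)

`K = Gen t Lb` for a prime `t ≠ r` dividing `|Lb|`, `y ∈ Ya`, `D = M ∩ H^y`.  `K` and `K^y` are different normal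
subgroups of `D`, and `K^y` does not centralise `La` modulo `Q`.

* `Cfg.N0` : `r ^ 3 ∣ |M : Q|`;
* `Cfg.sq_dvd` : `t ^ 2 ∣ |D|`; `Cfg.mul_dvd` : `t |Lb|_t ∣ |D|`;
* `Cfg.exists_u` : an element of a Sylow `t`-subgroup `P` of `D` does not centralise `La` modulo `Q`;
* `Cfg.exists_u0` : an element of order `t` of `Z(P) ∩ K`; it centralises `La` modulo `Q`;
* `cover` : `X ≤ C_M(U) Q` if the `t`-group `U` centralises `X` modulo `Q`;
* `Cfg.cube_dvd` : `t ^ 3 ∣ |M|` if moreover `t` divides `|M : D|`.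
-/

set_option autoImplicit false

namespace Cfsg.Agent.T44

open Subgroup Cfsg
open scoped commutatorElement

variable {G : Type*} [Group G]

/-! ### `Gen t X` -/

section gen

variable {t : ℕ} {X Y : Subgroup G}

theorem Gen_le : Gen t X ≤ X := (closure_le _).2 fun _ hx => hx.1

theorem mem_Gen {x : G} (hx : x ∈ X) {k : ℕ} (hk : x ^ t ^ k = 1) : x ∈ Gen t X := subset_closure ⟨hx, k, hk⟩

theorem Gen_le_iff : Gen t X ≤ Y ↔ ∀ x ∈ X, ∀ k : ℕ, x ^ t ^ k = 1 → x ∈ Y :=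
  ⟨fun h _ hx _ hk => h (mem_Gen hx hk), fun h => (closure_le _).2 fun x ⟨hx, k, hk⟩ => h x hx k hk⟩

theorem Gen_mono (h : X ≤ Y) : Gen t X ≤ Gen t Y := Gen_le_iff.2 fun _ hx _ hk => mem_Gen (h hx) hk

theorem pg_le_Gen {P : Subgroup G} (hP : P ≤ X) (hp : IsPGroup t P) : P ≤ Gen t X := by
  intro x hx
  obtain ⟨k, hk⟩ := hp ⟨x, hx⟩
  exact mem_Gen (hP hx) (congrArg Subtype.val hk)

theorem Gen_Gen : Gen t (Gen t X) = Gen t X :=
  le_antisymm Gen_le (Gen_le_iff.2 fun _ hx _ hk => mem_Gen (mem_Gen hx hk) hk)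

theorem cj_Gen (g : G) : cj g (Gen t X) = Gen t (cj g X) := by
  have key : ∀ (g : G) (X : Subgroup G), cj g (Gen t X) ≤ Gen t (cj g X) := by
    intro g X
    rw [cj_le_iff, Gen_le_iff]
    intro x hx k hk
    rw [mem_cj, inv_inv]
    refine mem_Gen (conj_mem_cj hx g) (k := k) ?_
    rw [conj_pow, hk, mul_one, mul_inv_cancel]
  refine le_antisymm (key g X) ?_
  have := cj_mono g (key g⁻¹ (cj g X))
  rwa [cj_cj_inv, cj_inv_cj] at this

theorem norm_Gen {A : Subgroup G} (h : A ≤ normalizer (X : Set G)) : A ≤ normalizer (Gen t X : Set G) := by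
  intro a ha
  rw [← cj_eq_iff, cj_Gen, cj_eq_iff.2 (h ha)]

theorem isPGroup_zpowers {x : G} {k : ℕ} (hk : x ^ t ^ k = 1) : IsPGroup t (zpowers x) := by
  rintro ⟨_, j, rfl⟩
  refine ⟨k, Subtype.ext ?_⟩
  change (x ^ j) ^ t ^ k = 1
  rw [← zpow_natCast, ← zpow_mul, mul_comm, zpow_mul, zpow_natCast, hk, one_zpow]

variable [Finite G]

theorem Gen_ne_bot (ht : t.Prime) (h : t ∣ Nat.card X) : Gen t X ≠ ⊥ := by
  have : Fact t.Prime := ⟨ht⟩
  obtain ⟨x, hx⟩ := exists_prime_orderOf_dvd_card' t h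
  intro e
  have h1 : (x : G) ∈ Gen t X := mem_Gen x.2 (k := 1) (by
    rw [pow_one, ← hx, ← coe_pow, pow_orderOf_eq_one, coe_one])
  rw [e, mem_bot] at h1
  rw [show x = 1 from Subtype.ext h1, orderOf_one] at hx
  exact ht.one_lt.ne hx

/-- `Gen t X` is the normal closure of a Sylow `t`-subgroup -/
theorem Gen_le_of_syl (ht : t.Prime) {P : Subgroup G} (hP : Syl t P X) (hPY : P ≤ Y)
    (hn : X ≤ normalizer (Y : Set G)) : Gen t X ≤ Y := by
  rw [Gen_le_iff]
  intro x hx k hk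
  obtain ⟨m, hm, e⟩ := hP.exists_conj_le ht (zpowers_le.2 hx) (isPGroup_zpowers hk)
  have h1 := conj_mem_of_norm' hn hm (hPY (e (conj_mem_cj (mem_zpowers x) m)))
  have e2 : m⁻¹ * (m * x * m⁻¹) * m = x := by group
  rwa [e2] at h1

/-- the index of a normal subgroup `K` in `K E` for an `r`-group `E` is a power of `r` -/
theorem not_dvd_relIndex_sup {r : ℕ} (ht : t.Prime) (hr : r.Prime) (htr : t ≠ r) {K E : Subgroup G}
    (hE : IsPGroup r E) (hn : E ≤ normalizer (K : Set G)) : ¬ t ∣ K.relIndex (K ⊔ E) := by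
  have : Fact r.Prime := ⟨hr⟩
  have h1 : (K.subgroupOf (K ⊔ E)).Normal :=
    (normal_subgroupOf_iff_le_normalizer le_sup_left).2 (sup_le le_normalizer hn)
  have h2 : K.subgroupOf (K ⊔ E) ⊔ E.subgroupOf (K ⊔ E) = ⊤ := by
    rw [← subgroupOf_sup le_sup_left le_sup_right, subgroupOf_self]
  have h3 := relIndex_sup_left (E.subgroupOf (K ⊔ E)) (K.subgroupOf (K ⊔ E))
  rw [h2, relIndex_top_right, relIndex_subgroupOf le_sup_right] at h3
  obtain ⟨k, hk⟩ := hE.index (K.subgroupOf E)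
  intro e
  change t ∣ (K.subgroupOf (K ⊔ E)).index at e
  rw [h3] at e
  change t ∣ (K.subgroupOf E).index at e
  rw [hk] at e
  exact htr ((Nat.prime_dvd_prime_iff_eq ht hr).1 (ht.dvd_of_dvd_pow e))

theorem Gen_sup_le {r : ℕ} (ht : t.Prime) (hr : r.Prime) (htr : t ≠ r) {K E : Subgroup G}
    (hE : IsPGroup r E) (hn : E ≤ normalizer (K : Set G)) : Gen t (K ⊔ E) ≤ Gen t K := by
  obtain ⟨P, hP⟩ := exists_syl' ht K
  exact Gen_le_of_syl ht (hP.trans ht le_sup_left (not_dvd_relIndex_sup ht hr htr hE hn))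
    (pg_le_Gen hP.le hP.pg) (norm_Gen (sup_le le_normalizer hn))

end gen

theorem dvd_relIndex_of_not_le [Finite G] {p : ℕ} (hp : p.Prime) {A B : Subgroup G} (hB : IsPGroup p B)
    (h : ¬ B ≤ A) : p ∣ A.relIndex B := by
  have : Fact p.Prime := ⟨hp⟩
  obtain ⟨k, hk⟩ := hB.index (A.subgroupOf B)
  cases k with
  | zero => exact absurd (relIndex_eq_one.1 hk) h
  | succ k =>
    change p ∣ (A.subgroupOf B).index
    rw [hk]
    exact dvd_pow_self p (Nat.succ_ne_zero k)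

theorem isPGroup_sup {p : ℕ} {A B : Subgroup G} (hA : IsPGroup p A) (hB : IsPGroup p B)
    (hn : A ≤ normalizer (B : Set G)) : IsPGroup p (A ⊔ B : Subgroup G) := hA.to_sup_of_normal_right' hB hn

theorem card_mul_relIndex {A B : Subgroup G} (h : A ≤ B) : Nat.card A * A.relIndex B = Nat.card B := by
  rw [← Nat.card_congr (subgroupOfEquivOfLe h).toEquiv]
  exact card_mul_index _

/-- a non-trivial normal subgroup of a `p`-group contains a central element of order `p` -/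
theorem exists_central [Finite G] {p : ℕ} (hp : p.Prime) {P X : Subgroup G} (hP : IsPGroup p P) (hX : X ≤ P)
    (hne : X ≠ ⊥) (hn : P ≤ normalizer (X : Set G)) : ∃ u ∈ X, orderOf u = p ∧ ∀ g ∈ P, g * u = u * g := by
  have : Fact p.Prime := ⟨hp⟩
  have h1 : (X.subgroupOf P).Normal := (normal_subgroupOf_iff_le_normalizer hX).2 hn
  have h2 : X.subgroupOf P ≠ ⊥ := by
    intro e
    apply hne
    rw [← map_subgroupOf_eq_of_le hX, e, Subgroup.map_bot]
  have h3 : X.subgroupOf P ⊓ center P ≠ ⊥ := by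
    have := hP.isNilpotent
    exact Lib.NormalAbelian.normal_inf_center_ne_bot _ h2
  obtain ⟨⟨v, hv⟩, hv1⟩ := ne_bot_iff_exists_ne_one.1 h3
  have hv2 : v ≠ 1 := fun e => hv1 (Subtype.ext e)
  have h4 : p ∣ orderOf v := by
    obtain ⟨k, hk⟩ := IsPGroup.iff_orderOf.1 hP v
    cases k with
    | zero => exact absurd (orderOf_eq_one_iff.1 hk) hv2
    | succ k => rw [hk]; exact dvd_pow_self p (Nat.succ_ne_zero k)
  refine ⟨(v ^ (orderOf v / p) : P), (pow_mem hv _).1, ?_, fun g hg => ?_⟩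
  · rw [orderOf_coe, orderOf_pow_orderOf_div (orderOf_pos v).ne' h4]
  · exact congrArg Subtype.val (mem_center_iff.1 (pow_mem hv _).2 ⟨g, hg⟩)

theorem not_dvd_card_of_pg [Finite G] {r t : ℕ} (hr : r.Prime) (ht : t.Prime) (htr : t ≠ r) {Q : Subgroup G}
    (hQ : IsPGroup r Q) : ¬ t ∣ Nat.card Q := by
  have : Fact r.Prime := ⟨hr⟩
  obtain ⟨k, hk⟩ := hQ.exists_card_eq
  rw [hk]
  exact fun e => htr ((Nat.prime_dvd_prime_iff_eq ht hr).1 (ht.dvd_of_dvd_pow e))

/-- coprime action: `X ≤ C_M(U) Q` if the `t`-group `U` centralises `X` modulo `Q` -/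
theorem cover [Finite G] {t : ℕ} (ht : t.Prime) {M Q X U : Subgroup G} (hQM : Q ≤ M)
    (hQ : ¬ t ∣ Nat.card Q) (hn : M ≤ normalizer (Q : Set G)) (hX : X ≤ M) (hU : IsPGroup t U)
    (hc : U ≤ cmod M Q X hn) {x : G} (hx : x ∈ X) :
    ∃ c ∈ M ⊓ centralizer (U : Set G), ∃ q ∈ Q, x = c * q := by
  have : Fact t.Prime := ⟨ht⟩
  have hUM : U ≤ M := fun u hu => (hc hu).1
  obtain ⟨c, hc1, hc2⟩ := Lib.CoprimeCommutator.exists_fixed_in_coset t U Q hU (hUM.trans hn) hQ x (fun a ha => by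
    have := (hc ha).2 x⁻¹ (X.inv_mem hx)
    have e : ⁅x⁻¹, a⁆ = x⁻¹ * (a * x * a⁻¹) := by rw [commutatorElement_def]; group
    rwa [e] at this)
  refine ⟨c, ⟨?_, hc1⟩, (x⁻¹ * c)⁻¹, Q.inv_mem hc2, by group⟩
  have := M.mul_mem (hX hx) (hQM hc2)
  rwa [mul_inv_cancel_left] at this

theorem norm_cmod {M Q X A : Subgroup G} (hn : M ≤ normalizer (Q : Set G)) (hM : A ≤ normalizer (M : Set G))
    (hQ : A ≤ normalizer (Q : Set G)) (hX : A ≤ normalizer (X : Set G)) :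
    A ≤ normalizer (cmod M Q X hn : Set G) := by
  refine norm_of_conj fun a ha c hc => ⟨conj_mem_of_norm hM ha hc.1, fun x hx => ?_⟩
  have e : ⁅x, a * c * a⁻¹⁆ = a * ⁅a⁻¹ * x * a, c⁆ * a⁻¹ := by simp only [commutatorElement_def]; group
  rw [e]
  exact conj_mem_of_norm hQ ha (hc.2 _ (conj_mem_of_norm' hX ha hx))

namespace Cfg

variable {T H Q : Subgroup G} {r : ℕ} {Ya Yb : Set G} {da db : ℕ} (h : Cfg T H Q r Ya Yb da db)

include h

/-- `C_M(La mod Q)` -/
abbrev Ca : Subgroup G := cmod (T ⊓ H) Q (Lg Q Ya) h.isO.norm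

theorem H_norm_Ca : H ≤ normalizer (h.Ca : Set G) := norm_cmod _ h.H_norm_M h.H_norm_Q h.H_norm_La

theorem Gen_Lg : Gen r (Lg Q Ya) = Lg Q Ya :=
  le_antisymm Gen_le (Lg_le.2 fun y hy => pg_le_Gen (cj_le_Lg hy) (isPGroup_cj y h.isO.pg))

variable [Finite G]

theorem Lb_le_Ca : Lg Q Yb ≤ h.Ca := le_cmod.2 ⟨h.Lb_le_M, h.comm_le⟩

theorem not_pg_La : ¬ IsPGroup r (Lg Q Ya) := fun e =>
  h.not_La_le_Q (h.isO.max _ h.La_le_M e h.M_norm_La)

/-- a prime `t ≠ r` divides `|La|` -/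
theorem exists_prime_card : ∃ t : ℕ, t.Prime ∧ t ≠ r ∧ t ∣ Nat.card (Lg Q Ya) := by
  obtain ⟨y, hy⟩ := h.A.ne
  obtain ⟨s, hs, -, h1, h2, -⟩ := h.exists_prime_a hy
  exact ⟨s, hs, h1, h2.trans (relIndex_dvd_card _ _)⟩

section K

variable {t : ℕ} (ht : t.Prime) (hd : t ∣ Nat.card (Lg Q Yb)) {y : G} (hy : y ∈ Ya)

theorem K_le_D (hy : y ∈ Ya) : Gen t (Lg Q Yb) ≤ T ⊓ H ⊓ cj y H := Gen_le.trans (h.Lb_le_D hy)

theorem cj_K_le_D (hy : y ∈ Ya) : cj y (Gen t (Lg Q Yb)) ≤ T ⊓ H ⊓ cj y H :=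
  (cj_mono y Gen_le).trans (h.cj_Lb_le_D hy)

omit [Finite G] in
theorem H_norm_K : H ≤ normalizer (Gen t (Lg Q Yb) : Set G) := norm_Gen h.H_norm_Lb

omit [Finite G] in
theorem D_norm_K (y : G) : T ⊓ H ⊓ cj y H ≤ normalizer (Gen t (Lg Q Yb) : Set G) :=
  (inf_le_left.trans inf_le_right).trans h.H_norm_K

omit [Finite G] in
theorem D_norm_cj_K (y : G) : T ⊓ H ⊓ cj y H ≤ normalizer (cj y (Gen t (Lg Q Yb)) : Set G) := D_norm_cj h.H_norm_K y

theorem K_le_H : Gen t (Lg Q Yb) ≤ H := Gen_le.trans (h.Lb_le_M.trans inf_le_right)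

include ht hd hy

theorem not_K_le : ¬ Gen t (Lg Q Yb) ≤ cj y (Gen t (Lg Q Yb)) :=
  h.not_le_cj h.K_le_H (Gen_ne_bot ht hd) h.H_norm_K (h.A.notMem y hy)

theorem not_cj_K_le : ¬ cj y (Gen t (Lg Q Yb)) ≤ Gen t (Lg Q Yb) :=
  h.not_cj_le h.K_le_H (Gen_ne_bot ht hd) h.H_norm_K (h.A.notMem y hy)

omit hy in
theorem norm_cj_K : normalizer (cj y (Gen t (Lg Q Yb)) : Set G) = cj y H := by
  rw [← cj_normalizer, le_antisymm (h.norm_le h.K_le_H (Gen_ne_bot ht hd) h.H_norm_K) h.H_norm_K]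

/-- the Sylow `t`-subgroups of `K` and `K^y` inside a Sylow subgroup `P` of `D` -/
theorem not_syl_K_le {P : Subgroup G} (hP : Syl t P (T ⊓ H ⊓ cj y H)) :
    ¬ Gen t (Lg Q Yb) ⊓ P ≤ cj y (Gen t (Lg Q Yb)) := by
  intro e
  apply h.not_K_le ht hd hy
  rw [← Gen_Gen]
  refine (Gen_le_of_syl ht (hP.inf (h.K_le_D hy) (h.D_norm_K y)) e ((h.K_le_D hy).trans (h.D_norm_cj_K y))).trans ?_
  rw [Gen_Gen]

theorem not_syl_cj_K_le {P : Subgroup G} (hP : Syl t P (T ⊓ H ⊓ cj y H)) :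
    ¬ cj y (Gen t (Lg Q Yb)) ⊓ P ≤ Lg Q Yb := by
  intro e
  apply h.not_cj_K_le ht hd hy
  have h1 := Gen_le_of_syl ht (hP.inf (h.cj_K_le_D hy) (h.D_norm_cj_K y))
    (pg_le_Gen e hP.pg.to_inf_right) ((h.cj_K_le_D hy).trans (h.D_norm_K y))
  rwa [← cj_Gen, Gen_Gen] at h1

/-- `t |Lb|_t` divides `|D|` -/
theorem mul_dvd {k : ℕ} (hk : t ^ k ∣ Nat.card (Lg Q Yb)) : t ^ (k + 1) ∣ Nat.card (T ⊓ H ⊓ cj y H : Subgroup G) := by
  obtain ⟨P, hP⟩ := exists_syl' ht (T ⊓ H ⊓ cj y H)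
  have h1 : Syl t (Lg Q Yb ⊓ P) (Lg Q Yb) := hP.inf (h.Lb_le_D hy) (inf_le_left.trans h.M_norm_Lb)
  have h2 : ¬ P ≤ Lg Q Yb ⊓ P := fun e =>
    h.not_syl_cj_K_le ht hd hy hP (inf_le_right.trans (e.trans inf_le_left))
  refine Dvd.dvd.trans ?_ (card_dvd_of_le hP.le)
  rw [← card_mul_relIndex (inf_le_right : Lg Q Yb ⊓ P ≤ P), pow_succ]
  exact mul_dvd_mul ((h1.dvd_card_iff ht).2 hk) (dvd_relIndex_of_not_le ht hP.pg h2)

theorem sq_dvd : t ^ 2 ∣ Nat.card (T ⊓ H ⊓ cj y H : Subgroup G) :=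
  h.mul_dvd ht hd hy (k := 1) (by rwa [pow_one])

/-- `t ^ 3 ∣ |M|` if moreover `t` divides `|M : D|` -/
theorem cube_dvd (hi : t ∣ (cj y H).relIndex (T ⊓ H)) : t ^ 3 ∣ Nat.card (T ⊓ H : Subgroup G) := by
  rw [← card_mul_relIndex (inf_le_left : T ⊓ H ⊓ cj y H ≤ T ⊓ H), inf_relIndex_left, pow_succ]
  exact mul_dvd_mul (h.sq_dvd ht hd hy) hi

/-- `K^y` does not centralise `La` modulo `Q` -/
theorem not_cj_K_le_Ca (htr : t ≠ r) : ¬ cj y (Gen t (Lg Q Yb)) ≤ h.Ca := by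
  intro e
  apply h.not_La_le hy
  rw [← h.norm_cj_K ht hd (y := y)]
  have h1 : Gen t (cj y (Gen t (Lg Q Yb)) ⊔ Q) = cj y (Gen t (Lg Q Yb)) := by
    have h2 : Gen t (cj y (Gen t (Lg Q Yb))) = cj y (Gen t (Lg Q Yb)) := by rw [← cj_Gen, Gen_Gen]
    refine le_antisymm ?_ ?_
    · exact (Gen_sup_le ht h.prime htr h.isO.pg ((h.Q_le_D hy).trans (h.D_norm_cj_K y))).trans Gen_le
    · exact h2.ge.trans (Gen_mono le_sup_left)
  rw [← h1]
  apply norm_Gen
  intro a ha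
  rw [← cj_eq_iff]
  refine eq_of_le_of_card_ge ?_ (by rw [card_cj])
  rw [cj_sup, cj_eq_iff.2 (h.isO.norm (h.La_le_M ha))]
  refine sup_le ?_ le_sup_right
  rintro _ ⟨k, hk, rfl⟩
  change a * k * a⁻¹ ∈ _
  have e2 : a * k * a⁻¹ = ⁅a, k⁆ * k := by rw [commutatorElement_def]; group
  rw [e2]
  exact mul_mem (mem_sup_right ((e hk).2 a ha)) (mem_sup_left hk)

/-- an element of `P ∩ K^y` does not centralise `La` modulo `Q` -/
theorem exists_u (htr : t ≠ r) {P : Subgroup G} (hP : Syl t P (T ⊓ H ⊓ cj y H)) :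
    ∃ u ∈ cj y (Gen t (Lg Q Yb)) ⊓ P, u ∉ h.Ca := by
  by_contra hc
  push Not at hc
  apply h.not_cj_K_le_Ca ht hd hy htr
  have h1 := Gen_le_of_syl ht (hP.inf (h.cj_K_le_D hy) (h.D_norm_cj_K y)) hc
    ((h.cj_K_le_D hy).trans ((inf_le_left.trans inf_le_right).trans h.H_norm_Ca))
  rwa [← cj_Gen, Gen_Gen] at h1

/-- a central element of order `t` of `P` in `K` -/
theorem exists_u0 {P : Subgroup G} (hP : Syl t P (T ⊓ H ⊓ cj y H)) :
    ∃ u ∈ Gen t (Lg Q Yb) ⊓ P, orderOf u = t ∧ ∀ g ∈ P, g * u = u * g := by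
  refine exists_central ht hP.pg inf_le_right ?_ (norm_inf (hP.le.trans (h.D_norm_K y)) le_normalizer)
  intro e
  exact h.not_syl_K_le ht hd hy hP (e ▸ bot_le)

end K

/-- `La ≤ C_M(U) Q` for a `t`-subgroup `U` of `Lb` -/
theorem La_cover {t : ℕ} (ht : t.Prime) (htr : t ≠ r) {U : Subgroup G} (hU : IsPGroup t U) (hc : U ≤ h.Ca) {x : G}
    (hx : x ∈ Lg Q Ya) : ∃ c ∈ T ⊓ H ⊓ centralizer (U : Set G), ∃ q ∈ Q, x = c * q :=
  cover ht h.Q_le_M (not_dvd_card_of_pg h.prime ht htr h.isO.pg) h.isO.norm h.La_le_M hU hc hx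

/-- the chain `Q < Q Q^y < R ∩ Lb Q Q^y < R` -/
theorem chain {y : G} (hy : y ∈ Ya) {R : Subgroup G} (hR : Syl r R (T ⊓ H ⊓ cj y H)) :
    Q ⊔ cj y Q ≤ R ∧ ¬ (Lg Q Yb ⊓ R ≤ Q ⊔ cj y Q) ∧ ¬ (cj y (Lg Q Yb) ⊓ R ≤ Lg Q Yb ⊔ (Q ⊔ cj y Q)) := by
  have hE : Q ⊔ cj y Q ≤ T ⊓ H ⊓ cj y H := sup_le (h.Q_le_D hy) (h.cj_Q_le_D hy)
  have hEn : T ⊓ H ⊓ cj y H ≤ normalizer ((Q ⊔ cj y Q : Subgroup G) : Set G) :=
    norm_sup (inf_le_left.trans h.isO.norm) (h.D_norm_cj_Q y)
  have hEp : IsPGroup r (Q ⊔ cj y Q : Subgroup G) :=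
    isPGroup_sup h.isO.pg (isPGroup_cj y h.isO.pg) ((h.Q_le_D hy).trans (h.D_norm_cj_Q y))
  have hbn : T ⊓ H ⊓ cj y H ≤ normalizer (Lg Q Yb : Set G) := inf_le_left.trans h.M_norm_Lb
  refine ⟨hR.le_of_norm h.prime hE hEn hEp, fun e => ?_, fun e => ?_⟩
  · have h1 := Gen_le_of_syl h.prime (hR.inf (h.Lb_le_D hy) hbn) e ((h.Lb_le_D hy).trans hEn)
    rw [h.symm.Gen_Lg] at h1
    exact h.symm.not_pg_La (hEp.to_le h1)
  · have h1 := Gen_le_of_syl h.prime (hR.inf (h.cj_Lb_le_D hy) (D_norm_cj h.H_norm_Lb y)) e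
      ((h.cj_Lb_le_D hy).trans (norm_sup hbn hEn))
    rw [← cj_Gen, h.symm.Gen_Lg] at h1
    obtain ⟨t, ht, htr, hd⟩ := h.symm.exists_prime_card
    apply h.not_cj_K_le ht hd hy
    rw [cj_Gen]
    exact (Gen_mono h1).trans (Gen_sup_le ht h.prime htr hEp (hE.trans hbn))

/-- **(N0)** `r ^ 3` divides `|M : Q|` -/
theorem N0 : r ^ 3 ∣ Q.relIndex (T ⊓ H) := by
  obtain ⟨y, hy⟩ := h.A.ne
  obtain ⟨R, hR⟩ := exists_syl' h.prime (T ⊓ H ⊓ cj y H)
  obtain ⟨h1, h2, h3⟩ := h.chain hy hR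
  have hF : Q ⊔ cj y Q ≤ (Lg Q Yb ⊔ (Q ⊔ cj y Q)) ⊓ R := le_inf le_sup_right h1
  have a1 : r ∣ Q.relIndex (Q ⊔ cj y Q) := dvd_relIndex_of_not_le h.prime (hR.pg.to_le h1) fun e =>
    h.not_cj_Q_le (h.A.notMem y hy) (le_sup_right.trans e)
  have a2 : r ∣ (Q ⊔ cj y Q).relIndex ((Lg Q Yb ⊔ (Q ⊔ cj y Q)) ⊓ R) :=
    dvd_relIndex_of_not_le h.prime hR.pg.to_inf_right fun e => h2 ((inf_le_inf_right R le_sup_left).trans e)
  have a3 : r ∣ ((Lg Q Yb ⊔ (Q ⊔ cj y Q)) ⊓ R).relIndex R :=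
    dvd_relIndex_of_not_le h.prime hR.pg fun e => h3 (inf_le_right.trans (e.trans inf_le_left))
  rw [← relIndex_mul_relIndex Q R (T ⊓ H) (le_sup_left.trans h1) (hR.le.trans inf_le_left),
    ← relIndex_mul_relIndex Q _ R (le_sup_left.trans hF) inf_le_right,
    ← relIndex_mul_relIndex Q _ _ le_sup_left hF]
  refine Dvd.dvd.mul_right ?_ _
  rw [pow_succ, pow_two]
  exact mul_dvd_mul (mul_dvd_mul a1 a2) a3

end Cfg

end Cfsg.Agent.T44

private theorem dce_c709e2436e9b : _root_.True := by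
  try have : _root_.True := by simp only [_root_.Cfsg.Agent.T44.Cfg.Ca.congr_simp]
  exact _root_.True.intro
end

-- part: T44/Spor/Act
section
prune_inst 0x1040000822000000000000000000001000000000000000000004000901004000000000000004000000008000000020000000000000000000000000000000000000000010100c00000000002003180c00000000000000000000000000000000000000000
set_option linter.all false
open scoped Cfsg.Agent.FastGrp

/-!
# S3544, sporadic rows: coprime action on an `r`-group (helper35)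

* `gl_dvd` : `|P : C_P(Q)|` divides `GLp r m = (r - 1) ... (r ^ m - 1)` if `|Q| = r ^ m`;
* `exists_mod` : a non-trivial action of a `t`-group on a `p`-group `S` gives `t ∣ p ^ j - 1`, `p ^ j ∣ |S|`;
* `exists_pair` : a non-cyclic `t`-group acting faithfully;
* `false_of_cube` : a group of order `t ^ 3` acting faithfully on a small `r`-group.
-/

set_option autoImplicit false

namespace Cfsg.Agent.T44.Spor

open Subgroup Cfsg
open scoped commutatorElement

variable {G : Type*} [Group G]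

/-- the part of `|GL_m(r)|` prime to `r` -/
def GLp (r m : ℕ) : ℕ := ∏ k ∈ Finset.range m, (r ^ (k + 1) - 1)

theorem dvd_card_of_index {A X : Type*} [Group A] [MulAction A X] [Finite X] {m : ℕ}
    (h : ∀ x : X, m ∣ (MulAction.stabilizer A x).index) : m ∣ Nat.card X := by
  classical
  rw [Nat.card_congr (MulAction.selfEquivSigmaOrbits A X)]
  have hfin : Finite (MulAction.orbitRel.Quotient A X) := Quotient.finite _
  have := Fintype.ofFinite (MulAction.orbitRel.Quotient A X)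
  rw [Nat.card_sigma]
  refine Finset.dvd_sum fun ω _ => ?_
  have h1 := h ω.out
  rwa [MulAction.index_stabilizer] at h1

/-- `P` acts by conjugation on `Q` outside `R` -/
theorem dvd_sub [Finite G] {P Q R : Subgroup G} (hQ : P ≤ normalizer (Q : Set G)) (hR : P ≤ normalizer (R : Set G))
    (hRQ : R ≤ Q) {m : ℕ} (h : ∀ y ∈ Q, y ∉ R → m ∣ (centralizer {y}).relIndex P) :
    m ∣ Nat.card Q - Nat.card R := by
  classical
  let X := {y : G // y ∈ Q ∧ y ∉ R}
  let _ : MulAction P X :=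
    { smul := fun t y => ⟨t * y * (t : G)⁻¹, (mem_normalizer_iff.1 (hQ t.2) y).1 y.2.1,
        fun h5 => y.2.2 ((mem_normalizer_iff.1 (hR t.2) y).2 h5)⟩
      one_smul := fun y => Subtype.ext (by show (1 : G) * y * (1 : G)⁻¹ = y; rw [one_mul, inv_one, mul_one])
      mul_smul := fun s t a => Subtype.ext (by
        show ((s * t : P) : G) * a * ((s * t : P) : G)⁻¹ = s * (t * a * (t : G)⁻¹) * (s : G)⁻¹
        rw [Subgroup.coe_mul]; group) }
  have hsm : ∀ (t : P) (y : X), ((t • y : X) : G) = t * y * (t : G)⁻¹ := fun _ _ => rfl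
  have h1 : m ∣ Nat.card X := by
    refine dvd_card_of_index (A := P) fun y => ?_
    have h2 : MulAction.stabilizer P y = (centralizer {(y : G)}).subgroupOf P := by
      ext t
      rw [MulAction.mem_stabilizer_iff, mem_subgroupOf, mem_centralizer_singleton_iff, ← Subtype.coe_inj, hsm,
        mul_inv_eq_iff_eq_mul]
    rw [h2]
    exact h y y.2.1 y.2.2
  have h2 : Nat.card X = Nat.card Q - Nat.card R :=
    Set.ncard_sdiff (s := (R : Set G)) (t := (Q : Set G)) (fun y hy => hRQ hy)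
  rwa [← h2]

theorem card_inf_mul (X P : Subgroup G) : Nat.card (X ⊓ P : Subgroup G) * X.relIndex P = Nat.card P := by
  rw [← inf_relIndex_right]
  exact card_mul_relIndex inf_le_right

theorem norm_inf_cent {P Q U : Subgroup G} (hQ : P ≤ normalizer (Q : Set G)) (hU : P ≤ normalizer (U : Set G)) :
    P ≤ normalizer ((Q ⊓ centralizer (U : Set G) : Subgroup G) : Set G) := norm_inf hQ (norm_centralizer hU)

theorem norm_cent_single {P : Subgroup G} {x : G} (h : ∀ g ∈ P, g * x = x * g) :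
    P ≤ normalizer ((centralizer ({x} : Set G) : Subgroup G) : Set G) :=
  le_trans (fun g hg => mem_centralizer_singleton_iff.2 (h g hg)) le_normalizer

theorem le_cent_comm {A B : Subgroup G} (h : A ≤ centralizer (B : Set G)) : B ≤ centralizer (A : Set G) :=
  fun b hb => mem_centralizer_iff.2 fun _ ha => (mem_centralizer_iff.1 (h ha) b hb).symm

theorem pow_sub_pow {s i j : ℕ} (h : i ≤ j) : s ^ j - s ^ i = s ^ i * (s ^ (j - i) - 1) := by
  rw [Nat.mul_sub, ← pow_add, mul_one]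
  congr 2
  omega

theorem lt_of_card_lt [Finite G] {s i j : ℕ} (hs : s.Prime) {A B : Subgroup G} (hAB : A ≤ B) (hne : ¬ B ≤ A)
    (hA : Nat.card A = s ^ i) (hB : Nat.card B = s ^ j) : i < j := by
  have h1 : Nat.card A < Nat.card B := by
    rcases Nat.lt_or_ge (Nat.card A) (Nat.card B) with h | h
    · exact h
    · exact absurd (eq_of_le_of_card_ge hAB h).ge hne
  rw [hA, hB] at h1
  exact (Nat.pow_lt_pow_iff_right hs.one_lt).1 h1

theorem gl_aux [Finite G] {s t : ℕ} (hs : s.Prime) (ht : t.Prime) (hst : t ≠ s) {Q : Subgroup G} {j : ℕ}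
    (hQ : Nat.card Q = s ^ j) : ∀ (n : ℕ) (T : Subgroup G) (i : ℕ), IsPGroup t T → T ≤ normalizer (Q : Set G) →
      Nat.card (Q ⊓ centralizer (T : Set G) : Subgroup G) = s ^ i → j ≤ i + n →
      (centralizer (Q : Set G)).relIndex T ∣ GLp s n := by
  have hfs : Fact s.Prime := ⟨hs⟩
  have hft : Fact t.Prime := ⟨ht⟩
  unfold GLp
  intro n
  induction n with
  | zero =>
    intro T i hT hn hi hj
    have h1 : (Q ⊓ centralizer (T : Set G) : Subgroup G) = Q := by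
      refine eq_of_le_of_card_ge inf_le_left ?_
      rw [hi, hQ]
      exact Nat.pow_le_pow_right hs.pos (by omega)
    have h2 : T ≤ centralizer (Q : Set G) := le_cent_comm (h1.ge.trans inf_le_right)
    rw [relIndex_eq_one.2 h2]
    exact one_dvd _
  | succ n ih =>
    intro T i hT hn hi hj
    rcases Nat.lt_or_ge (i + n) j with hlt | hge
    swap
    · rw [Finset.prod_range_succ]
      exact (ih T i hT hn hi hge).mul_right _
    set R : Subgroup G := Q ⊓ centralizer (T : Set G) with hR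
    have hTR : T ≤ normalizer (R : Set G) := norm_inf_cent hn le_normalizer
    have hne : s ^ (n + 1) - 1 ≠ 0 := by
      have := Nat.one_lt_pow (n := n + 1) (by omega) hs.one_lt
      omega
    obtain ⟨y, hy, hyR, hd⟩ : ∃ y ∈ Q, y ∉ R ∧ (centralizer ({y} : Set G)).relIndex T ∣ s ^ (n + 1) - 1 := by
      by_contra hcon
      push Not at hcon
      have hv := Nat.ordProj_dvd (s ^ (n + 1) - 1) t
      have hv' := Nat.pow_succ_factorization_not_dvd hne ht
      set v := (s ^ (n + 1) - 1).factorization t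
      have h1 : t ^ (v + 1) ∣ Nat.card Q - Nat.card R := by
        refine dvd_sub (P := T) hn hTR inf_le_left fun y hy hyR => ?_
        have h2 := hcon y hy hyR
        have h3 : (centralizer ({y} : Set G)).relIndex T ∣ Nat.card T := relIndex_dvd_card _ _
        obtain ⟨l, hl⟩ := hT.exists_card_eq
        rw [hl] at h3
        obtain ⟨c, -, hc⟩ := (Nat.dvd_prime_pow ht).1 h3
        rw [hc] at h2 ⊢
        refine pow_dvd_pow t ?_
        by_contra hlt'
        exact h2 ((pow_dvd_pow t (by omega)).trans hv)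
      rw [hQ, hi, pow_sub_pow (by omega), show j - i = n + 1 by omega] at h1
      exact hv' ((Nat.Coprime.pow _ _ ((Nat.coprime_primes ht hs).2 hst)).dvd_of_dvd_mul_left h1)
    set T1 : Subgroup G := centralizer ({y} : Set G) ⊓ T with hT1
    have hT1T : T1 ≤ T := inf_le_right
    have hRle : R ≤ Q ⊓ centralizer (T1 : Set G) :=
      inf_le_inf_left Q (centralizer_le hT1T)
    have hy1 : y ∈ (Q ⊓ centralizer (T1 : Set G) : Subgroup G) := by
      refine ⟨hy, mem_centralizer_iff.2 ?_⟩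
      intro x hx
      exact mem_centralizer_singleton_iff.1 hx.1
    have hp1 : IsPGroup s (Q ⊓ centralizer (T1 : Set G) : Subgroup G) :=
      (IsPGroup.of_card hQ).to_le inf_le_left
    obtain ⟨i1, hi1⟩ := hp1.exists_card_eq
    have hlt1 : i < i1 := lt_of_card_lt hs hRle (fun e => hyR (e hy1)) hi hi1
    have h1 := ih T1 i1 (hT.to_le hT1T) (hT1T.trans hn) hi1 (by omega)
    have hCT : (centralizer (Q : Set G) ⊓ T : Subgroup G) ≤ T1 := by
      refine le_inf (fun x hx => ?_) inf_le_right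
      rw [mem_centralizer_singleton_iff]
      exact (mem_centralizer_iff.1 hx.1 y hy).symm
    have h2 := relIndex_mul_relIndex (centralizer (Q : Set G) ⊓ T) T1 T hCT hT1T
    rw [inf_relIndex_right, hT1, inf_relIndex_right, ← hT1] at h2
    have h3 : (centralizer (Q : Set G) ⊓ T).relIndex T1 = (centralizer (Q : Set G)).relIndex T1 := by
      have h4 : (centralizer (Q : Set G) ⊓ T : Subgroup G) = centralizer (Q : Set G) ⊓ T1 :=
        le_antisymm (le_inf inf_le_left hCT) (inf_le_inf_left _ hT1T)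
      rw [h4, inf_relIndex_right]
    rw [h3] at h2
    rw [← h2, Finset.prod_range_succ]
    exact mul_dvd_mul h1 hd

/-- `|P : C_P(Q)|` divides `(r - 1) ... (r ^ m - 1)` -/
theorem gl_dvd [Finite G] {r t m : ℕ} (hr : r.Prime) (ht : t.Prime) (htr : t ≠ r) {P Q : Subgroup G}
    (hQ : IsPGroup r Q) (hm : ¬ r ^ (m + 1) ∣ Nat.card Q) (hP : IsPGroup t P) (hn : P ≤ normalizer (Q : Set G)) :
    (centralizer (Q : Set G)).relIndex P ∣ GLp r m := by
  have hfs : Fact r.Prime := ⟨hr⟩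
  obtain ⟨j, hj⟩ := hQ.exists_card_eq
  obtain ⟨i, hi⟩ := (hQ.to_le (inf_le_left : (Q ⊓ centralizer (P : Set G) : Subgroup G) ≤ Q)).exists_card_eq
  refine gl_aux hr ht htr hj m P i hP hn hi ?_
  by_contra hc
  exact hm (hj ▸ pow_dvd_pow r (by omega))

/-- the faithful case -/
theorem card_dvd_GLp [Finite G] {r t m : ℕ} (hr : r.Prime) (ht : t.Prime) (htr : t ≠ r) {P Q : Subgroup G}
    (hQ : IsPGroup r Q) (hm : ¬ r ^ (m + 1) ∣ Nat.card Q) (hP : IsPGroup t P) (hn : P ≤ normalizer (Q : Set G))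
    (hf : ∀ x ∈ P, x ∈ centralizer (Q : Set G) → x = 1) : Nat.card P ∣ GLp r m := by
  have h1 := gl_dvd hr ht htr hQ hm hP hn
  have h2 : centralizer (Q : Set G) ⊓ P = ⊥ := (eq_bot_iff_forall _).2 fun x hx => hf x hx.2 hx.1
  rwa [← inf_relIndex_right, h2, relIndex_bot_left] at h1

/-- the fixed points of a `t`-group on a `p`-group -/
theorem exists_mod' [Finite G] {p t : ℕ} (hp : p.Prime) (ht : t.Prime) (htp : t ≠ p) {S U : Subgroup G}
    (hS : IsPGroup p S) (hU : IsPGroup t U) (hn : U ≤ normalizer (S : Set G)) :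
    ∃ j, t ∣ p ^ j - 1 ∧ Nat.card S = p ^ j * Nat.card (S ⊓ centralizer (U : Set G) : Subgroup G) := by
  have hfs : Fact p.Prime := ⟨hp⟩
  obtain ⟨a, ha⟩ := hS.exists_card_eq
  obtain ⟨b, hb⟩ := (hS.to_le (inf_le_left : (S ⊓ centralizer (U : Set G) : Subgroup G) ≤ S)).exists_card_eq
  have hab : b ≤ a := by
    have := card_le_of_le (inf_le_left : (S ⊓ centralizer (U : Set G) : Subgroup G) ≤ S)
    rw [ha, hb] at this
    exact (Nat.pow_le_pow_iff_right hp.one_lt).1 this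
  refine ⟨a - b, ?_, by rw [ha, hb, ← pow_add]; congr 1; omega⟩
  have h1 : t ∣ Nat.card S - Nat.card (S ⊓ centralizer (U : Set G) : Subgroup G) := by
    refine dvd_sub hn (norm_inf_cent hn le_normalizer) inf_le_left fun y hy hyR => ?_
    refine dvd_relIndex_of_not_le ht hU fun e => hyR ⟨hy, mem_centralizer_iff.2 fun u hu => ?_⟩
    exact mem_centralizer_singleton_iff.1 (e hu)
  rw [ha, hb, pow_sub_pow hab] at h1
  exact (Nat.Coprime.pow_right _ ((Nat.coprime_primes ht hp).2 htp)).dvd_of_dvd_mul_left h1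

/-- a non-trivial action -/
theorem exists_mod [Finite G] {p t : ℕ} (hp : p.Prime) (ht : t.Prime) (htp : t ≠ p) {S U : Subgroup G}
    (hS : IsPGroup p S) (hU : IsPGroup t U) (hn : U ≤ normalizer (S : Set G)) (hc : ¬ U ≤ centralizer (S : Set G)) :
    ∃ j, 0 < j ∧ t ∣ p ^ j - 1 ∧ Nat.card S = p ^ j * Nat.card (S ⊓ centralizer (U : Set G) : Subgroup G) := by
  obtain ⟨j, h1, h2⟩ := exists_mod' hp ht htp hS hU hn
  refine ⟨j, Nat.pos_of_ne_zero ?_, h1, h2⟩
  rintro rfl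
  rw [pow_zero, one_mul] at h2
  exact hc (le_cent_comm ((eq_of_le_of_card_ge inf_le_left h2.le).ge.trans inf_le_right))

/-- the action is trivial if the group is small -/
theorem le_cent_of_small [Finite G] {p t k : ℕ} (hp : p.Prime) (ht : t.Prime) (htp : t ≠ p) {S U : Subgroup G}
    (hS : IsPGroup p S) (hU : IsPGroup t U) (hn : U ≤ normalizer (S : Set G)) (hk : ¬ p ^ (k + 1) ∣ Nat.card S)
    (hj : ∀ j, 0 < j → j ≤ k → ¬ t ∣ p ^ j - 1) : U ≤ centralizer (S : Set G) := by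
  by_contra hc
  obtain ⟨j, h0, h1, h2⟩ := exists_mod hp ht htp hS hU hn hc
  refine hj j h0 ?_ h1
  by_contra hlt
  exact hk ((pow_dvd_pow p (by omega)).trans (h2 ▸ dvd_mul_right _ _))

theorem coprime_of_pg [Finite G] {p t : ℕ} (hp : p.Prime) (ht : t.Prime) (htp : t ≠ p) {S U : Subgroup G}
    (hS : IsPGroup p S) (hU : IsPGroup t U) : (Nat.card U).Coprime (Nat.card S) := by
  have hfs : Fact p.Prime := ⟨hp⟩
  have hft : Fact t.Prime := ⟨ht⟩
  obtain ⟨a, ha⟩ := hS.exists_card_eq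
  obtain ⟨b, hb⟩ := hU.exists_card_eq
  rw [ha, hb]
  exact Nat.Coprime.pow _ _ ((Nat.coprime_primes ht hp).2 htp)

/-- generation by the centralizers of the elements of a non-cyclic abelian group -/
theorem le_cent_of_forall [Finite G] {A Q X : Subgroup G} (hc : ∀ a ∈ A, ∀ b ∈ A, a * b = b * a) (hnc : ¬ IsCyclic A)
    (hn : A ≤ normalizer (Q : Set G)) (hcop : (Nat.card A).Coprime (Nat.card Q))
    (h : ∀ a ∈ A, a ≠ 1 → X ≤ centralizer ((Q ⊓ centralizer ({a} : Set G) : Subgroup G) : Set G)) :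
    X ≤ centralizer (Q : Set G) := by
  have : IsMulCommutative A := ⟨⟨fun a b => Subtype.ext (hc a a.2 b b.2)⟩⟩
  apply le_cent_comm
  rw [← Cfsg.Agent.S0058.result A Q hnc hn hcop]
  exact iSup₂_le fun a ha => le_cent_comm (h a ha.1 ha.2)

theorem not_cyclic_of_exp [Finite G] {t : ℕ} (ht : t.Prime) {A : Subgroup G} (he : ∀ a ∈ A, a ^ t = 1)
    (hc : t ^ 2 ∣ Nat.card A) : ¬ IsCyclic A := by
  intro h
  obtain ⟨g, hg⟩ := IsCyclic.exists_ofOrder_eq_natCard (α := A)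
  have h1 : orderOf g ∣ t := orderOf_dvd_of_pow_eq_one (Subtype.ext (he g g.2))
  rw [hg] at h1
  have h2 := Nat.le_of_dvd ht.pos (hc.trans h1)
  have h3 := ht.one_lt
  nlinarith only [h2, h3]

/-- a normal elementary abelian subgroup of order `t ^ 2` -/
theorem exists_E [Finite G] {t : ℕ} (ht : t.Prime) (ht2 : t ≠ 2) {P : Subgroup G} (hP : IsPGroup t P)
    (hnc : ¬ IsCyclic P) : ∃ E ≤ P, P ≤ normalizer (E : Set G) ∧ Nat.card E = t ^ 2 ∧
      (∀ a ∈ E, ∀ b ∈ E, a * b = b * a) ∧ ∀ a ∈ E, a ^ t = 1 := by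
  have : Fact t.Prime := ⟨ht⟩
  obtain ⟨A, h1, h2, h3⟩ := Cfsg.Agent.S0126.result ht2 hP hnc
  refine ⟨A.map P.subtype, map_subtype_le _, norm_of_conj ?_, ?_, ?_, ?_⟩
  · rintro g hg _ ⟨a, ha, rfl⟩
    exact ⟨_, h1.conj_mem a ha ⟨g, hg⟩, rfl⟩
  · rw [card_map_of_injective P.subtype_injective, h3]
  · rintro _ ⟨a, ha, rfl⟩ _ ⟨b, hb, rfl⟩
    exact congrArg (fun x : A => ((x : P) : G)) (h2.1.is_comm.comm ⟨a, ha⟩ ⟨b, hb⟩)
  · rintro _ ⟨a, ha, rfl⟩
    exact congrArg Subtype.val (h2.2 a ha)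

theorem orderOf_eq_of_pow {t : ℕ} (ht : t.Prime) {a : G} (h : a ^ t = 1) (h1 : a ≠ 1) : orderOf a = t :=
  have : Fact t.Prime := ⟨ht⟩
  orderOf_eq_prime h h1

/-- **a non-cyclic `t`-group acting faithfully** -/
theorem exists_pair [Finite G] {r t : ℕ} (hr : r.Prime) (ht : t.Prime) (htr : t ≠ r) (ht2 : t ≠ 2) {P Q : Subgroup G}
    (hQ : IsPGroup r Q) (hP : IsPGroup t P) (hnc : ¬ IsCyclic P) (hn : P ≤ normalizer (Q : Set G))
    (hf : ∀ x ∈ P, x ∈ centralizer (Q : Set G) → x = 1) :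
    ∃ x ∈ P, ∃ w ∈ P, orderOf x = t ∧ w ^ t = 1 ∧ w * x = x * w ∧
      w ∉ centralizer ((Q ⊓ centralizer ({x} : Set G) : Subgroup G) : Set G) := by
  obtain ⟨E, hE, -, h2, h3, h4⟩ := exists_E ht ht2 hP hnc
  by_contra hc
  push Not at hc
  have h5 : E ≤ centralizer (Q : Set G) :=
    le_cent_of_forall h3 (not_cyclic_of_exp ht h4 h2.symm.dvd) (hE.trans hn) (coprime_of_pg hr ht htr hQ (hP.to_le hE))
      fun a ha ha1 w hw => hc a (hE ha) w (hE hw) (orderOf_eq_of_pow ht (h4 a ha) ha1) (h4 w hw) (h3 w hw a ha)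
  have h6 : E = ⊥ := (eq_bot_iff_forall _).2 fun x hx => hf x (hE hx) (h5 hx)
  rw [h6, card_bot] at h2
  exact (Nat.one_lt_pow (by norm_num) ht.one_lt).ne h2

/-- no element of order `t ^ 2` -/
theorem pow_eq_one_of_small [Finite G] {r t m : ℕ} (hr : r.Prime) (ht : t.Prime) (htr : t ≠ r) {P Q : Subgroup G}
    (hQ : IsPGroup r Q) (hm : ¬ r ^ (m + 1) ∣ Nat.card Q) (hP : IsPGroup t P) (hn : P ≤ normalizer (Q : Set G))
    (hf : ∀ x ∈ P, x ∈ centralizer (Q : Set G) → x = 1) (hb : ∀ i, 0 < i → i ≤ m → ¬ t ^ 2 ∣ r ^ i - 1) {g : G}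
    (hg : g ∈ P) : g ^ t = 1 := by
  have hfs : Fact r.Prime := ⟨hr⟩
  have hft : Fact t.Prime := ⟨ht⟩
  by_contra h1
  have hU : zpowers g ≤ P := zpowers_le.2 hg
  have hcm : ∀ k ∈ zpowers g, k * g ^ t = g ^ t * k := by
    rintro _ ⟨i, rfl⟩
    exact (((Commute.refl g).zpow_left i).pow_right t).eq
  obtain ⟨a, ha⟩ := hQ.exists_card_eq
  obtain ⟨b, hb'⟩ := (hQ.to_le (inf_le_left : (Q ⊓ centralizer ({g ^ t} : Set G) : Subgroup G) ≤ Q)).exists_card_eq
  have hlt : b < a := lt_of_card_lt hr inf_le_left (fun e => h1 (hf _ (P.pow_mem hg t)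
    (mem_centralizer_iff.2 fun q hq => mem_centralizer_singleton_iff.1 (e hq).2))) hb' ha
  have h2 : t ^ 2 ∣ Nat.card Q - Nat.card (Q ⊓ centralizer ({g ^ t} : Set G) : Subgroup G) := by
    refine dvd_sub (P := zpowers g) (hU.trans hn) (norm_inf (hU.trans hn) (norm_cent_single hcm)) inf_le_left
      fun y hy hyR => ?_
    obtain ⟨c, hc⟩ := (hP.to_le hU).index ((centralizer ({y} : Set G)).subgroupOf (zpowers g))
    change t ^ 2 ∣ ((centralizer ({y} : Set G)).subgroupOf (zpowers g)).index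
    rw [hc]
    refine pow_dvd_pow t ?_
    by_contra hlt'
    apply hyR
    refine ⟨hy, mem_centralizer_singleton_iff.2 ?_⟩
    have hnm : ((centralizer ({y} : Set G)).subgroupOf (zpowers g)).Normal := by
      refine ⟨fun n hn' k => ?_⟩
      have e : k * n * k⁻¹ = n := by rw [mul_comm' k n, mul_inv_cancel_right]
      rwa [e]
    have h3 := pow_index_mem (H := (centralizer ({y} : Set G)).subgroupOf (zpowers g)) ⟨g, mem_zpowers g⟩
    rw [hc, mem_subgroupOf] at h3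
    have h4 : g ^ t ∈ centralizer ({y} : Set G) := by
      have h5 : t = t ^ c * t ^ (1 - c) := by rw [← pow_add, show c + (1 - c) = 1 by omega, pow_one]
      rw [h5, pow_mul]
      exact pow_mem h3 _
    exact (mem_centralizer_singleton_iff.1 h4).symm
  rw [ha, hb', pow_sub_pow hlt.le] at h2
  refine hb (a - b) (by omega) ?_
    ((Nat.Coprime.pow _ _ ((Nat.coprime_primes ht hr).2 htr)).dvd_of_dvd_mul_left h2)
  by_contra hc
  exact hm (ha ▸ pow_dvd_pow r (by omega))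

/-- an elementary abelian group of order `t ^ 3` -/
theorem false_of_cube_ab [Finite G] {r t k : ℕ} (hr : r.Prime) (ht : t.Prime) (htr : t ≠ r) {P Q : Subgroup G}
    (hQ : IsPGroup r Q) (hP : Nat.card P = t ^ 3) (hc : ∀ a ∈ P, ∀ b ∈ P, a * b = b * a) (he : ∀ a ∈ P, a ^ t = 1)
    (hn : P ≤ normalizer (Q : Set G)) (hf : ∀ x ∈ P, x ∈ centralizer (Q : Set G) → x = 1)
    (ha : ∀ x ∈ P, orderOf x = t → ¬ r ^ (k + 1) ∣ Nat.card (Q ⊓ centralizer ({x} : Set G) : Subgroup G))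
    (ha' : ¬ t ^ 2 ∣ GLp r k) : False := by
  have hft : Fact t.Prime := ⟨ht⟩
  have hPp : IsPGroup t P := IsPGroup.of_card hP
  have hnc : ¬ IsCyclic P := not_cyclic_of_exp ht he (hP ▸ pow_dvd_pow t (by norm_num))
  have hcop := coprime_of_pg hr ht htr hQ hPp
  set W : G → Subgroup G := fun x => Q ⊓ centralizer ({x} : Set G) with hW
  set K : G → Subgroup G := fun x => centralizer (W x : Set G) ⊓ P with hK
  have hidx : ∀ x ∈ P, x ≠ 1 → (centralizer (W x : Set G)).relIndex P ∣ t := by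
    intro x hx hx1
    have h1 := gl_dvd hr ht htr (hQ.to_le inf_le_left) (ha x hx (orderOf_eq_of_pow ht (he x hx) hx1)) hPp
      (norm_inf hn (norm_cent_single fun g hg => hc g hg x hx))
    obtain ⟨c, hc'⟩ := hPp.index ((centralizer (W x : Set G)).subgroupOf P)
    change ((centralizer (W x : Set G)).subgroupOf P).index ∣ _ at h1 ⊢
    rw [hc'] at h1 ⊢
    rcases Nat.lt_or_ge c 2 with h2 | h2
    · simpa using pow_dvd_pow t (show c ≤ 1 by omega)
    · exact absurd ((pow_dvd_pow t h2).trans h1) ha'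
  have hge : ∀ x ∈ P, x ≠ 1 → t ^ 2 ≤ Nat.card (K x) := by
    intro x hx hx1
    have h1 := card_inf_mul (centralizer (W x : Set G)) P
    have h2 := Nat.le_of_dvd ht.pos (hidx x hx hx1)
    have h3 : t ^ 2 * t ≤ Nat.card (K x) * t := by
      rw [← pow_succ, ← hP, ← h1]
      exact Nat.mul_le_mul_left _ h2
    exact Nat.le_of_mul_le_mul_right h3 ht.pos
  have hle : ∀ x ∈ P, ¬ P ≤ centralizer (W x : Set G) → Nat.card (K x) ≤ t ^ 2 := by
    intro x hx hx1
    have h1 := card_inf_mul (centralizer (W x : Set G)) P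
    have h2 := Nat.le_of_dvd (Nat.pos_of_ne_zero (relIndex_ne_zero' _ _)) (dvd_relIndex_of_not_le ht hPp hx1)
    have h3 : Nat.card (K x) * t ≤ t ^ 2 * t := by
      rw [← pow_succ, ← hP, ← h1]
      exact Nat.mul_le_mul_left _ h2
    exact Nat.le_of_mul_le_mul_right h3 ht.pos
  have hbot : ∀ X : Subgroup G, X ≤ P → X ≤ centralizer (Q : Set G) → Nat.card X = 1 := fun X h1 h2 => by
    rw [(eq_bot_iff_forall _).2 fun x hx => hf x (h1 hx) (h2 hx), card_bot]
  have ht1 := ht.one_lt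
  obtain ⟨x1, hx1, hx11, hx12⟩ : ∃ x ∈ P, x ≠ 1 ∧ ¬ P ≤ centralizer (W x : Set G) := by
    by_contra hcon
    push Not at hcon
    have h1 := hbot P le_rfl (le_cent_of_forall hc hnc hn hcop hcon)
    rw [hP] at h1
    exact (Nat.one_lt_pow (by norm_num) ht1).ne' h1
  have h1 : K x1 ≤ centralizer (Q : Set G) := by
    refine le_cent_of_forall hc hnc hn hcop fun x hx hx' => ?_
    by_cases e : P ≤ centralizer (W x : Set G)
    · exact inf_le_right.trans e
    have h2 : (K x1 ⊓ K x : Subgroup G) ≠ ⊥ := by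
      intro e2
      have h3 := card_inf_mul (K x1) (K x)
      rw [e2, card_bot, one_mul] at h3
      have h4 : (K x1).relIndex (K x) ≤ (K x1).relIndex P :=
        relIndex_le_of_le_right inf_le_right (relIndex_ne_zero' _ _)
      have h5 : (K x1).relIndex P ≤ t := by
        rw [hK, inf_relIndex_right]
        exact Nat.le_of_dvd ht.pos (hidx x1 hx1 hx11)
      have h6 := hge x hx hx'
      nlinarith only [ht1, h3, h4, h5, h6]
    obtain ⟨⟨v, hv⟩, hv1⟩ := ne_bot_iff_exists_ne_one.1 h2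
    have hv2 : v ≠ 1 := fun e => hv1 (Subtype.ext e)
    have hvP : v ∈ P := hv.1.2
    have key : ∀ y : G, v ∈ K y → K v ≤ K y := by
      intro y hy
      refine inf_le_inf_right P (centralizer_le fun q hq => ⟨hq.1, mem_centralizer_singleton_iff.2 ?_⟩)
      exact mem_centralizer_iff.1 hy.1 q hq
    have h3 : K v = K x1 := eq_of_le_of_card_ge (key x1 hv.1) ((hle x1 hx1 hx12).trans (hge v hvP hv2))
    rw [← h3]
    exact (key x hv.2).trans inf_le_left
  have h2 := hbot _ inf_le_right h1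
  have h3 := hge x1 hx1 hx11
  change t ^ 2 ≤ Nat.card (centralizer (W x1 : Set G) ⊓ P : Subgroup G) at h3
  rw [h2] at h3
  nlinarith only [ht1, h3]

theorem cent_pow {t : ℕ} (ht : t.Prime) {f : G} (hf : f ^ t = 1) {a : ℕ} (ha : ¬ t ∣ a) :
    centralizer ({f ^ a} : Set G) = centralizer ({f} : Set G) := by
  ext x
  rw [mem_centralizer_singleton_iff, mem_centralizer_singleton_iff]
  refine ⟨fun h => ?_, fun h => ((show Commute x f from h).pow_right a).eq⟩
  have h1 : (orderOf f).Coprime a :=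
    Nat.Coprime.coprime_dvd_left (orderOf_dvd_of_pow_eq_one hf) ((Nat.Prime.coprime_iff_not_dvd ht).2 ha)
  obtain ⟨b, hb⟩ := exists_pow_eq_self_of_coprime h1.symm
  rw [← hb]
  exact ((show Commute x (f ^ a) from h).pow_right b).eq

theorem card_inf_cent_conj {Q : Subgroup G} {w : G} (hw : w ∈ normalizer (Q : Set G)) (f : G) :
    Nat.card (Q ⊓ centralizer ({w * f * w⁻¹} : Set G) : Subgroup G) =
      Nat.card (Q ⊓ centralizer ({f} : Set G) : Subgroup G) := by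
  rw [← card_cj w (Q ⊓ centralizer ({f} : Set G))]
  congr 2
  ext x
  rw [cj_inf, cj_eq_iff.2 hw, mem_inf, mem_inf, mem_cj, mem_centralizer_singleton_iff, mem_centralizer_singleton_iff]
  refine and_congr_right fun _ => ⟨fun h => ?_, fun h => ?_⟩
  · calc w⁻¹ * x * w * f = w⁻¹ * (x * (w * f * w⁻¹)) * w := by group
      _ = f * (w⁻¹ * x * w) := by rw [h]; group
  · calc x * (w * f * w⁻¹) = w * (w⁻¹ * x * w * f) * w⁻¹ := by group
      _ = w * f * w⁻¹ * x := by rw [h]; group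

/-- the Heisenberg relation -/
theorem false_of_heis [Finite G] {r t m : ℕ} (hr : r.Prime) (ht : t.Prime) (htr : t ≠ r) {E Q : Subgroup G}
    (hQ : IsPGroup r Q) (hm : ¬ r ^ (m + 1) ∣ Nat.card Q) (hE : Nat.card E = t ^ 2)
    (hc : ∀ a ∈ E, ∀ b ∈ E, a * b = b * a) (he : ∀ a ∈ E, a ^ t = 1) (hn : E ≤ normalizer (Q : Set G))
    {w f c : G} (hw : w ∈ normalizer (Q : Set G)) (hfE : f ∈ E) (hcE : c ∈ E) (hc1 : c ∉ centralizer (Q : Set G))
    (hwf : w * f * w⁻¹ = f * c) (hwc : w * c * w⁻¹ = c)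
    (hj : ∀ i, 0 < i → i * t ≤ m → ¬ t ∣ r ^ i - 1) : False := by
  classical
  have hfs : Fact r.Prime := ⟨hr⟩
  have hft : Fact t.Prime := ⟨ht⟩
  have hEp : IsPGroup t E := IsPGroup.of_card hE
  have hc0 : c ≠ 1 := fun e => hc1 (e ▸ one_mem _)
  have hco : orderOf c = t := orderOf_eq_of_pow ht (he c hcE) hc0
  have hfc : f ∉ zpowers c := by
    rintro ⟨i, rfl⟩
    apply hc0
    have h1 : w * c ^ i * w⁻¹ = c ^ i := by rw [← conj_zpow, hwc]
    change w * c ^ i * w⁻¹ = c ^ i * c at hwf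
    rw [h1] at hwf
    exact left_eq_mul.1 hwf
  have hcf : Commute f c := hc f hfE c hcE
  have hwi : ∀ i : ℕ, w ^ i * f * (w ^ i)⁻¹ = f * c ^ i := by
    intro i
    induction i with
    | zero => simp
    | succ i ih =>
      have h1 : w * c ^ i * w⁻¹ = c ^ i := by rw [← conj_pow, hwc]
      calc w ^ (i + 1) * f * (w ^ (i + 1))⁻¹ = w * (w ^ i * f * (w ^ i)⁻¹) * w⁻¹ := by rw [pow_succ']; group
        _ = (w * f * w⁻¹) * (w * c ^ i * w⁻¹) := by rw [ih]; group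
        _ = f * c ^ (i + 1) := by rw [hwf, h1, pow_succ', mul_assoc]
  -- every element of `E` is `f ^ a * c ^ b`
  have hZ : zpowers c ≤ E := zpowers_le.2 hcE
  have hrel : (zpowers c).relIndex E = t := by
    have h1 := card_mul_relIndex hZ
    rw [Nat.card_zpowers, hco, hE, pow_two] at h1
    exact Nat.eq_of_mul_eq_mul_left ht.pos h1
  have hsup : zpowers f ⊔ zpowers c = E := by
    have hle : zpowers f ⊔ zpowers c ≤ E := sup_le (zpowers_le.2 hfE) hZ
    have h1 := relIndex_mul_relIndex (zpowers c) _ E le_sup_right hle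
    rw [hrel] at h1
    rcases (Nat.dvd_prime ht).1 (Dvd.intro _ h1) with h2 | h2
    · exact absurd (relIndex_eq_one.1 h2 (mem_sup_left (mem_zpowers f))) hfc
    · rw [h2] at h1
      exact le_antisymm hle (relIndex_eq_one.1 (Nat.eq_of_mul_eq_mul_left ht.pos (h1.trans (mul_one t).symm)))
  have hform : ∀ g ∈ E, ∃ a b : ℕ, g = f ^ a * c ^ b := by
    intro g hg
    rw [← hsup, zpowers_eq_closure, zpowers_eq_closure, ← Subgroup.closure_union] at hg
    induction hg using closure_induction with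
    | mem x hx =>
      rcases hx with rfl | rfl
      · exact ⟨1, 0, by simp⟩
      · exact ⟨0, 1, by simp⟩
    | one => exact ⟨0, 0, by simp⟩
    | mul x y _ _ hx hy =>
      obtain ⟨a, b, rfl⟩ := hx
      obtain ⟨a', b', rfl⟩ := hy
      refine ⟨a + a', b + b', ?_⟩
      rw [pow_add, pow_add, mul_assoc, mul_assoc, ← mul_assoc (c ^ b), ← (hcf.pow_pow a' b).eq, mul_assoc]
    | inv x _ hx =>
      obtain ⟨a, b, rfl⟩ := hx
      refine ⟨a * (t - 1), b * (t - 1), ?_⟩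
      rw [pow_mul, pow_mul, ← (hcf.pow_pow a b).mul_pow, inv_eq_iff_mul_eq_one, ← pow_succ',
        Nat.sub_add_cancel ht.one_le]
      exact he _ (E.mul_mem (E.pow_mem hfE a) (E.pow_mem hcE b))
  set C : G → ℕ := fun g => Nat.card (Q ⊓ centralizer ({g} : Set G) : Subgroup G) with hC
  have hout : ∀ g ∈ E, g ∉ zpowers c → C g = C f := by
    intro g hg hgc
    obtain ⟨a, b, rfl⟩ := hform g hg
    have ha : ¬ t ∣ a := by
      rintro ⟨a', rfl⟩
      apply hgc
      rw [pow_mul, he f hfE, one_pow, one_mul]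
      exact pow_mem (mem_zpowers c) b
    have h1 : (orderOf c).Coprime a := by rw [hco]; exact (Nat.Prime.coprime_iff_not_dvd ht).2 ha
    obtain ⟨n, hn'⟩ := exists_pow_eq_self_of_coprime h1.symm
    have h2 : f ^ a * c ^ b = (f * c ^ (n * b)) ^ a := by
      rw [(hcf.pow_right _).mul_pow, ← pow_mul, mul_comm (n * b) a, ← mul_assoc, pow_mul c (a * n) b, pow_mul c a n, hn']
    have h3 : (f * c ^ (n * b)) ^ t = 1 := he _ (E.mul_mem hfE (E.pow_mem hcE _))
    simp only [hC]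
    rw [h2, cent_pow ht h3 ha, ← hwi, card_inf_cent_conj (pow_mem hw _)]
  have hin : ∀ g ∈ zpowers c, g ≠ 1 → C g = C c := by
    intro g hg hg1
    obtain ⟨a, rfl⟩ := (mem_powers_iff_mem_zpowers.2 hg : g ∈ Submonoid.powers c)
    have ha : ¬ t ∣ a := by
      rintro ⟨a', rfl⟩
      apply hg1
      change c ^ (t * a') = 1
      rw [pow_mul, he c hcE, one_pow]
    simp only [hC]
    rw [cent_pow ht (he c hcE) ha]
  have := Fintype.ofFinite {g : G // g ∈ E ∧ g ≠ 1}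
  have hBW := H565.RankTwo.brauer_wielandt ht E Q hn hE hc he (not_dvd_card_of_pg hr ht htr hQ)
  have hsplit := Finset.prod_filter_mul_prod_filter_not (Finset.univ : Finset {g : G // g ∈ E ∧ g ≠ 1})
    (fun g => g.1 ∈ zpowers c) (fun g => C g.1 ^ t)
  have hc1' : (Finset.univ.filter fun g : {g : G // g ∈ E ∧ g ≠ 1} => g.1 ∈ zpowers c).card = t - 1 := by
    have h1 : Nat.card {g : G // g ∈ zpowers c ∧ g ≠ 1} = t - 1 := by
      have h2 := Set.ncard_sdiff_singleton_of_mem (s := (zpowers c : Set G)) (a := 1) (one_mem _)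
      have h3 : (zpowers c : Set G).ncard = t := by
        rw [← hco, ← Nat.card_zpowers]; rfl
      rw [h3] at h2
      exact h2
    rw [← h1, ← Fintype.card_subtype, ← Nat.card_eq_fintype_card]
    exact Nat.card_congr
      { toFun := fun g => ⟨g.1.1, g.2, g.1.2.2⟩
        invFun := fun g => ⟨⟨g.1, hZ g.2.1, g.2.2⟩, g.2.1⟩
        left_inv := fun _ => rfl
        right_inv := fun _ => rfl }
  have hall : (Finset.univ : Finset {g : G // g ∈ E ∧ g ≠ 1}).card = t ^ 2 - 1 := by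
    have h2 := Set.ncard_sdiff_singleton_of_mem (s := (E : Set G)) (a := 1) (one_mem _)
    have h3 : (E : Set G).ncard = t ^ 2 := hE
    rw [h3] at h2
    rw [Finset.card_univ, ← Nat.card_eq_fintype_card]
    exact h2
  have ht1 := ht.one_lt
  have hc2' : (Finset.univ.filter fun g : {g : G // g ∈ E ∧ g ≠ 1} => ¬ g.1 ∈ zpowers c).card = t * (t - 1) := by
    have h1 := Finset.card_filter_add_card_filter_not (s := (Finset.univ : Finset {g : G // g ∈ E ∧ g ≠ 1}))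
      (fun g => g.1 ∈ zpowers c)
    rw [hc1', hall] at h1
    obtain ⟨s, rfl⟩ : ∃ s, t = s + 1 := ⟨t - 1, by omega⟩
    simp only [Nat.add_sub_cancel] at h1 ⊢
    have h2 : (s + 1) ^ 2 - 1 = s + (s + 1) * s := by
      rw [Nat.sub_eq_iff_eq_add (Nat.one_le_pow _ _ (by omega))]; ring
    omega
  rw [Finset.prod_congr rfl (g := fun _ => C c ^ t) (fun g hg => by
      rw [hin g.1 (Finset.mem_filter.1 hg).2 g.2.2]),
    Finset.prod_congr rfl (s₁ := Finset.univ.filter fun g : {g : G // g ∈ E ∧ g ≠ 1} => ¬ g.1 ∈ zpowers c)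
      (g := fun _ => C f ^ t) (fun g hg => by rw [hout g.1 g.2.1 (Finset.mem_filter.1 hg).2]),
    Finset.prod_const, Finset.prod_const, hc1', hc2'] at hsplit
  rw [← hsplit] at hBW
  -- the exponents
  obtain ⟨a, ha⟩ := hQ.exists_card_eq
  obtain ⟨b, hb⟩ := (hQ.to_le (inf_le_left : (Q ⊓ centralizer ({c} : Set G) : Subgroup G) ≤ Q)).exists_card_eq
  obtain ⟨e, he'⟩ := (hQ.to_le (inf_le_left : (Q ⊓ centralizer (E : Set G) : Subgroup G) ≤ Q)).exists_card_eq
  obtain ⟨j, hj1, hj2⟩ := exists_mod' hr ht htr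
    (hQ.to_le (inf_le_left : (Q ⊓ centralizer ({f} : Set G) : Subgroup G) ≤ Q)) hEp
    (norm_inf hn (norm_cent_single fun g hg => hc g hg f hfE))
  have e1 : (Q ⊓ centralizer ({f} : Set G) ⊓ centralizer (E : Set G) : Subgroup G) = Q ⊓ centralizer (E : Set G) := by
    refine le_antisymm (inf_le_inf_right _ inf_le_left) (le_inf (inf_le_inf_left _ ?_) inf_le_right)
    exact centralizer_le (Set.singleton_subset_iff.2 hfE)
  rw [e1, he'] at hj2
  have hba : b < a := lt_of_card_lt hr inf_le_left (fun e => hc1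
    (mem_centralizer_iff.2 fun q hq => mem_centralizer_singleton_iff.1 (e hq).2)) hb ha
  simp only [hC] at hBW
  rw [ha, hb, he', hj2] at hBW
  simp only [← pow_add, ← pow_mul] at hBW
  have h1 := Nat.pow_right_injective hr.two_le hBW
  obtain ⟨s, rfl⟩ : ∃ s, t = s + 1 := ⟨t - 1, by omega⟩
  have h2 : (s + 1) ^ 2 - (s + 1) = (s + 1) * s := by
    rw [Nat.sub_eq_iff_eq_add (by nlinarith only [])]; ring
  simp only [Nat.add_sub_cancel] at h1
  rw [h2] at h1
  have h3 : b + j * (s + 1) = a := by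
    have h4 : (b + j * (s + 1)) * ((s + 1) * s) = a * ((s + 1) * s) := by linarith only [h1]
    exact Nat.eq_of_mul_eq_mul_right (Nat.mul_pos (by omega) (by omega)) h4
  have h5 : a ≤ m := by
    by_contra hc'
    exact hm (ha ▸ pow_dvd_pow r (by omega))
  refine hj j (Nat.pos_of_ne_zero ?_) (by omega) hj1
  rintro rfl
  omega

/-- **a group of order `t ^ 3` acting faithfully on a small `r`-group** -/
theorem false_of_cube [Finite G] {r t m k : ℕ} (hr : r.Prime) (ht : t.Prime) (htr : t ≠ r) (ht2 : t ≠ 2)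
    {P Q : Subgroup G} (hQ : IsPGroup r Q) (hm : ¬ r ^ (m + 1) ∣ Nat.card Q) (hP : IsPGroup t P)
    (h3 : t ^ 3 ∣ Nat.card P) (hn : P ≤ normalizer (Q : Set G)) (hf : ∀ x ∈ P, x ∈ centralizer (Q : Set G) → x = 1)
    (ha : ∀ x ∈ P, orderOf x = t → ¬ r ^ (k + 1) ∣ Nat.card (Q ⊓ centralizer ({x} : Set G) : Subgroup G))
    (ha' : ¬ t ^ 2 ∣ GLp r k) (hb : ∀ i, 0 < i → i ≤ m → ¬ t ^ 2 ∣ r ^ i - 1)
    (hj : ∀ i, 0 < i → i * t ≤ m → ¬ t ∣ r ^ i - 1) : False := by
  have hft : Fact t.Prime := ⟨ht⟩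
  obtain ⟨K, hK⟩ := Sylow.exists_subgroup_card_pow_prime t h3
  set P1 : Subgroup G := K.map P.subtype with hP1
  have hle : P1 ≤ P := map_subtype_le _
  have hc1 : Nat.card P1 = t ^ 3 := by rw [hP1, card_map_of_injective P.subtype_injective, hK]
  have he : ∀ a ∈ P1, a ^ t = 1 := fun a ha => pow_eq_one_of_small hr ht htr hQ hm hP hn hf hb (hle ha)
  have hP1p : IsPGroup t P1 := hP.to_le hle
  by_cases hc : ∀ a ∈ P1, ∀ b ∈ P1, a * b = b * a
  · exact false_of_cube_ab hr ht htr hQ hc1 hc he (hle.trans hn) (fun x hx => hf x (hle hx))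
      (fun x hx => ha x (hle hx)) ha'
  obtain ⟨E, hE, hEn, h2, h3', h4⟩ := exists_E ht ht2 hP1p
    (not_cyclic_of_exp ht he (hc1 ▸ pow_dvd_pow t (by norm_num)))
  have hrel : E.relIndex P1 = t := by
    have h1 := card_mul_relIndex hE
    rw [h2, hc1, pow_succ] at h1
    exact Nat.eq_of_mul_eq_mul_left (pow_pos ht.pos 2) h1
  have hEN : (E.subgroupOf P1).Normal := (normal_subgroupOf_iff_le_normalizer hE).2 hEn
  -- `E` is not central
  obtain ⟨w, hw, f, hfE, hwf⟩ : ∃ w ∈ P1, ∃ f ∈ E, w * f ≠ f * w := by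
    by_contra hcon
    push Not at hcon
    apply hc
    have hcy : IsCyclic (P1 ⧸ E.subgroupOf P1) := isCyclic_of_prime_card (p := t) hrel
    have h5 := MonoidHom.isMulCommutative_of_isCyclic_of_ker_le_center (QuotientGroup.mk' (E.subgroupOf P1)) (by
      rw [QuotientGroup.ker_mk']
      intro x hx
      rw [mem_center_iff]
      intro g
      exact Subtype.ext (hcon g g.2 x hx))
    intro a ha b hb
    exact congrArg Subtype.val (h5.is_comm.comm ⟨a, ha⟩ ⟨b, hb⟩)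
  have hEb : E ≠ ⊥ := by
    rintro rfl
    rw [mem_bot.1 hfE] at hwf
    simp at hwf
  obtain ⟨z, hzE, hzo, hzc⟩ := exists_central ht hP1p hE hEb hEn
  -- the commutator is central
  have hZ : zpowers z ≤ E := zpowers_le.2 hzE
  have hZc : ∀ g ∈ P1, ∀ x ∈ zpowers z, g * x = x * g := by
    rintro g hg _ ⟨i, rfl⟩
    exact ((show Commute g z from hzc g hg).zpow_right i).eq
  have hZN : ((zpowers z).subgroupOf P1).Normal := by
    refine ⟨fun n hn' g => ?_⟩
    rw [mem_subgroupOf] at hn' ⊢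
    have e : ((g * n * g⁻¹ : P1) : G) = n := by
      rw [coe_mul, coe_mul, coe_inv, hZc g g.2 n hn', mul_inv_cancel_right]
    rwa [e]
  have hq : Nat.card (P1 ⧸ (zpowers z).subgroupOf P1) = t ^ 2 := by
    have h1 := card_mul_relIndex (hZ.trans hE)
    rw [Nat.card_zpowers, hzo, hc1, pow_succ'] at h1
    exact Nat.eq_of_mul_eq_mul_left ht.pos h1
  have h5 := (IsPGroup.isMulCommutative_of_card_eq_prime_sq hq).is_comm.comm
    (QuotientGroup.mk' _ (⟨f, hE hfE⟩ : P1)) (QuotientGroup.mk' _ (⟨w, hw⟩ : P1))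
  rw [← map_mul, ← map_mul, QuotientGroup.mk'_apply, QuotientGroup.mk'_apply, QuotientGroup.eq, mem_subgroupOf] at h5
  have h6 : (f * w)⁻¹ * (w * f) ∈ zpowers z := h5
  set c := (f * w)⁻¹ * (w * f) with hcdef
  have h7 : w * c = c * w := hZc w hw c h6
  have hc0 : c ≠ 1 := by
    intro e
    apply hwf
    rw [hcdef, inv_mul_eq_one] at e
    exact e.symm
  refine false_of_heis hr ht htr hQ hm h2 h3' h4 ((hE.trans hle).trans hn) (hn (hle hw)) hfE (hZ h6)
    (fun e => hc0 (hf c (hle (hE (hZ h6))) e)) ?_ ?_ hj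
  · calc w * f * w⁻¹ = f * (w * c) * w⁻¹ := by rw [hcdef]; group
      _ = f * c := by rw [h7]; group
  · rw [h7, mul_inv_cancel_right]

end Cfsg.Agent.T44.Spor
end
end
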