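import Mathlib
import Cfsg.Agent.T44.Spor.Act
import Cfsg.Agent.R2.M7.MainC
import Cfsg.Agent.DS.Cl.Inv_m3
import Cfsg.Agent.T44.Cl.AB_m3
import Cfsg.Agent.H383.Dg.RedA
import Cfsg.Agent.H212.CharPInherit
import Cfsg.Agent.H149.S3527Core
import Cfsg.Agent.S0026
import Cfsg.Agent.S0027
import Cfsg.Agent.S0044
import Cfsg.Agent.Lib.LocalCore
import Cfsg.Agent.DS.Cl.Vec
import Cfsg.Agent.TwoFusion.SLTwoFacts
import Cfsg.Agent.LieClassical.OrthSimple
import Cfsg.Agent.H454.SpExt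
import Cfsg.Agent.S0249
import Cfsg.Agent.S0264
import Cfsg.Agent.S0270
import Cfsg.Agent.S0283
import Cfsg.Agent.S0286
import Cfsg.Agent.DS.Cl.Main
import Cfsg.Agent.AutOrth.Final
import Cfsg.Agent.ClassicalGeometry.OrthSemiForms
import Cfsg.Agent.ClassicalGeometry.SympAutOddA
import Cfsg.Agent.ClassicalGeometry.SympAutExists
import Cfsg.Agent.Lib.Cores
import Cfsg.Agent.Lib.HallHigman
import Cfsg.Agent.Lib.BenderMaximal
import Cfsg.Agent.Lib.CoprimeCommutator
import Cfsg.Agent.SignalizersComponents.CoprimeBasic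
import Cfsg.Prelude.Def_ClassificationStages
import Cfsg.Prelude.Def_Local
import Cfsg.Agent.Lib.PComponents
import Cfsg.Agent.SignalizersComponents.PCompQuot
import Cfsg.Agent.SignalizersComponents.PConstrained
import Cfsg.Agent.Schreier.KBalance
import Cfsg.Agent.SignalizersComponents.PLayerAut
import Cfsg.Agent.SignalizersComponents.ComponentNormalize
import Cfsg.Agent.SignalizersComponents.CharP
import Cfsg.Agent.Lib.GenFitting
import Cfsg.Agent.H14.PQ
import Cfsg.Agent.KFacts.RgdLieCharP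
import Cfsg.Agent.KFacts.RgdAut
import Cfsg.Agent.H564.EPF.BT_mg
import Cfsg.Agent.H2.TwF
import Cfsg.Agent.OddCyclic.FFSz
import Cfsg.Agent.S1155
import Cfsg.Agent.DS.Nt.Defs_m3
import Cfsg.Agent.DS.Nt.Cnt
import Cfsg.Agent.FastGrp
import Cfsg.Agent.Prune
set_option linter.all false

section
prune_inst 0x7ff0acf98bb829dfdfff7e7fa6d8cffc39901fffe6dfe94b3fe029ff0b9f030009c52b8d09e000fe1ec6601400387813f97ec23fe06bdc7ffffd5ff41ffb6e1fa5e7350851d488340fbc0ff603f0778e7f3fffffffffffffffffffffffffffbeffbdffffffff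

-- part: T44/Cl/W8a
section
prune_inst 0xf52067445d6202000018009261001c46fa000100010b0c000c600f06078b7e620d022e61fde01803082a814c0034006812dc00b04010000020000400091805a188825202b348a10406009f000006000000000000000000000000000000041004200000000
set_option linter.all false
open scoped Cfsg.Agent.FastGrp

/-!
# S3544: a group of order 25 on an 8-dimensional space over `𝔽₂` or `𝔽₃` (helper34)

* `fix_eq_zero` : a faithful group of order 25 has no nonzero fixed vector;
* `triv_of_norm` : with an invariant nondegenerate symmetric form, a normalized `s`-group acts trivially.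
-/

set_option autoImplicit false
set_option linter.unusedSectionVars false
set_option linter.style.haveILetI false

namespace Cfsg.Agent.T44.Cl.W8

open Module

section Count

variable {G V : Type*} [Group G] [Finite V]

/-- an invariant subset as a `G`-set -/
@[reducible] def act (ρ : G →* Function.End V) (P : Subgroup G) (X : Set V) (hX : ∀ g ∈ P, ∀ x ∈ X, ρ g x ∈ X) :
    MulAction P X where
  smul g x := ⟨ρ g.1 x.1, hX g.1 g.2 x.1 x.2⟩
  one_smul x := Subtype.ext (by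
    change ρ 1 x.1 = x.1
    rw [map_one]; rfl)
  mul_smul g h x := Subtype.ext (by
    change ρ (g.1 * h.1) x.1 = ρ g.1 (ρ h.1 x.1)
    rw [map_mul]; rfl)

theorem card_modEq (ρ : G →* Function.End V) {p : ℕ} [Fact p.Prime] {P : Subgroup G} (hP : IsPGroup p P) (X : Set V)
    (hX : ∀ g ∈ P, ∀ x ∈ X, ρ g x ∈ X) :
    Nat.card X ≡ Nat.card {x : V | x ∈ X ∧ ∀ g ∈ P, ρ g x = x} [MOD p] := by
  letI := act ρ P X hX
  have h := hP.card_modEq_card_fixedPoints X
  have e : Nat.card (MulAction.fixedPoints P X) = Nat.card {x : V | x ∈ X ∧ ∀ g ∈ P, ρ g x = x} := by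
    refine Nat.card_congr ⟨fun x => ⟨x.1.1, x.1.2, fun g hg => congrArg Subtype.val (x.2 ⟨g, hg⟩)⟩,
      fun x => ⟨⟨x.1, x.2.1⟩, fun g => Subtype.ext (x.2.2 g.1 g.2)⟩, fun _ => rfl, fun _ => rfl⟩
  rwa [e] at h

theorem card_dvd (ρ : G →* Function.End V) {P : Subgroup G} (X : Set V)
    (hX : ∀ g ∈ P, ∀ x ∈ X, ρ g x ∈ X) (hf : ∀ g ∈ P, ∀ x ∈ X, ρ g x = x → g = 1) : Nat.card P ∣ Nat.card X := by
  letI := act ρ P X hX
  have h : ∀ b : X, MulAction.stabilizer P b = ⊥ := by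
    intro b
    rw [eq_bot_iff]
    intro g hg
    rw [Subgroup.mem_bot]
    exact Subtype.ext (hf g.1 g.2 b.1 b.2 (congrArg Subtype.val hg))
  rw [Nat.card_congr (MulAction.selfEquivOrbitsQuotientProd h), Nat.card_prod]
  exact Dvd.intro_left _ rfl

end Count

variable {s : ℕ} [hs : Fact s.Prime] {G V : Type*} [Group G] [AddCommGroup V] [Module (ZMod s) V] [Finite V]

/-- the underlying action on the set -/
def und (ρ : G →* End (ZMod s) V) : G →* Function.End V where
  toFun g := fun x => ρ g x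
  map_one' := by funext x; rw [map_one]; rfl
  map_mul' g h := by funext x; rw [map_mul]; rfl

/-- the common fixed vectors -/
def Fx (ρ : G →* End (ZMod s) V) (P : Subgroup G) : Submodule (ZMod s) V where
  carrier := {x | ∀ g ∈ P, ρ g x = x}
  add_mem' hx hy g hg := by rw [map_add, hx g hg, hy g hg]
  zero_mem' g _ := map_zero _
  smul_mem' c x hx g hg := by rw [map_smul, hx g hg]

theorem card_sub (U : Submodule (ZMod s) V) : Nat.card U = s ^ finrank (ZMod s) U := by
  rw [Module.natCard_eq_pow_finrank (K := ZMod s), Nat.card_zmod]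

theorem pow_mod (h23 : s = 2 ∨ s = 3) {a b : ℕ} (ha : a ≤ 8) (hb : b ≤ 8) (h : s ^ a ≡ s ^ b [MOD 5]) :
    a % 4 = b % 4 := by
  exact (by decide +kernel : ∀ s ≤ 3, 2 ≤ s → ∀ a ≤ 8, ∀ b ≤ 8, s ^ a ≡ s ^ b [MOD 5] → a % 4 = b % 4) s (by omega) (by omega)
    a ha b hb h

theorem rk_le (h8 : finrank (ZMod s) V = 8) (U : Submodule (ZMod s) V) : finrank (ZMod s) U ≤ 8 :=
  h8 ▸ Submodule.finrank_le U

theorem rk_mod (h23 : s = 2 ∨ s = 3) (h8 : finrank (ZMod s) V = 8) (ρ : G →* End (ZMod s) V) {P : Subgroup G}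
    (hP : Nat.card P = 25) (U : Submodule (ZMod s) V) (hU : ∀ g ∈ P, ∀ x ∈ U, ρ g x ∈ U) :
    finrank (ZMod s) U % 4 = finrank (ZMod s) ↥(U ⊓ Fx ρ P) % 4 := by
  haveI : Fact (Nat.Prime 5) := ⟨by norm_num⟩
  have hp : IsPGroup 5 P := IsPGroup.of_card (n := 2) (by rw [hP]; norm_num)
  have h := card_modEq (und ρ) hp (U : Set V) hU
  have e : Nat.card {x : V | x ∈ (U : Set V) ∧ ∀ g ∈ P, und ρ g x = x} = Nat.card ↥(U ⊓ Fx ρ P) := rfl
  rw [e, card_sub (U ⊓ Fx ρ P)] at h
  have e2 : Nat.card (U : Set V) = s ^ finrank (ZMod s) U := card_sub U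
  rw [e2] at h
  exact pow_mod h23 (rk_le h8 _) (rk_le h8 _) h

theorem comm25 {P : Subgroup G} (hP : Nat.card P = 25) {g h : G} (hg : g ∈ P) (hh : h ∈ P) : g * h = h * g := by
  haveI : Fact (Nat.Prime 5) := ⟨by norm_num⟩
  have : IsMulCommutative P := ⟨⟨(IsPGroup.commGroupOfCardEqPrimeSq (p := 5) (by rw [hP]; norm_num)).mul_comm⟩⟩
  exact congrArg Subtype.val (this.1.1 (⟨g, hg⟩ : P) ⟨h, hh⟩)

theorem fx_inv (ρ : G →* End (ZMod s) V) {P : Subgroup G} (hP : Nat.card P = 25) {x : G} (hx : x ∈ P) :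
    ∀ g ∈ P, ∀ v ∈ Fx ρ (Subgroup.zpowers x), ρ g v ∈ Fx ρ (Subgroup.zpowers x) := by
  intro g hg v hv y hy
  have hyP : y ∈ P := (Subgroup.zpowers_le.2 hx) hy
  rw [← Module.End.mul_apply, ← map_mul, comm25 hP hyP hg, map_mul, Module.End.mul_apply, hv y hy]

theorem mem_fx_zpowers (ρ : G →* End (ZMod s) V) {x : G} {v : V} (h : ρ x v = v) : v ∈ Fx ρ (Subgroup.zpowers x) := by
  intro y hy
  have key : Subgroup.zpowers x ≤ (MulAction.stabilizer (Function.End V)ˣ v).comap (und ρ).toHomUnits := by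
    rw [Subgroup.zpowers_le, Subgroup.mem_comap, MulAction.mem_stabilizer_iff]
    exact h
  exact key hy

/-- **A faithful group of order 25 has no nonzero fixed vector.** -/
theorem fix_eq_bot (h23 : s = 2 ∨ s = 3) (h8 : finrank (ZMod s) V = 8) (ρ : G →* End (ZMod s) V) {P : Subgroup G}
    (hP : Nat.card P = 25) (hf : ∀ g ∈ P, (∀ v, ρ g v = v) → g = 1) : Fx ρ P = ⊥ := by
  by_contra hne
  have h0 : finrank (ZMod s) (Fx ρ P) ≠ 0 := fun h => hne (Submodule.finrank_eq_zero.1 h)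
  have htop : ∀ x ∈ P, x ≠ 1 → finrank (ZMod s) (Fx ρ (Subgroup.zpowers x)) ≠ 8 := by
    intro x hx h1 h
    have : Fx ρ (Subgroup.zpowers x) = ⊤ := Submodule.eq_top_of_finrank_eq (by rw [h, h8])
    exact h1 (hf x hx fun v => (this ▸ Submodule.mem_top : v ∈ Fx ρ (Subgroup.zpowers x)) x (Subgroup.mem_zpowers x))
  have h1 := rk_mod h23 h8 ρ hP ⊤ fun _ _ _ _ => Submodule.mem_top
  rw [top_inf_eq, finrank_top, h8] at h1
  have hle : ∀ x ∈ P, Fx ρ P ≤ Fx ρ (Subgroup.zpowers x) :=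
    fun x hx v hv y hy => hv y ((Subgroup.zpowers_le.2 hx) hy)
  obtain ⟨x0, hx0, hx1⟩ : ∃ x ∈ P, x ≠ 1 := by
    by_contra hc
    push Not at hc
    have : P = ⊥ := (Subgroup.eq_bot_iff_forall P).2 hc
    rw [this, Subgroup.card_bot] at hP
    omega
  have h4 : finrank (ZMod s) (Fx ρ P) = 4 := by
    have a := htop x0 hx0 hx1
    have b := Submodule.finrank_mono (hle x0 hx0)
    have c := rk_le h8 (Fx ρ (Subgroup.zpowers x0))
    omega
  have heq : ∀ x ∈ P, x ≠ 1 → Fx ρ (Subgroup.zpowers x) = Fx ρ P := by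
    intro x hx h1
    have a := htop x hx h1
    have b := Submodule.finrank_mono (hle x hx)
    have c := rk_le h8 (Fx ρ (Subgroup.zpowers x))
    have d := rk_mod h23 h8 ρ hP _ (fx_inv ρ hP hx)
    rw [inf_eq_right.2 (hle x hx)] at d
    exact (Submodule.eq_of_le_of_finrank_eq (hle x hx) (by omega)).symm
  have hd := card_dvd (und ρ) (P := P) ((Fx ρ P : Set V)ᶜ) (by
    intro g hg v hv hc
    apply hv
    have h2 : ρ g⁻¹ (ρ g v) = ρ g v := hc g⁻¹ (inv_mem hg)
    rw [← Module.End.mul_apply, ← map_mul, inv_mul_cancel, map_one, Module.End.one_apply] at h2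
    change v ∈ Fx ρ P
    rw [h2]
    exact hc) (by
    intro g hg v hv hgv
    by_contra h1
    apply hv
    change v ∈ Fx ρ P
    rw [← heq g hg h1]
    exact mem_fx_zpowers ρ hgv)
  have e1 : Nat.card V = s ^ 8 := by
    rw [Module.natCard_eq_pow_finrank (K := ZMod s), Nat.card_zmod, h8]
  have e2 : Nat.card (Fx ρ P : Set V) = s ^ 4 := by rw [← h4]; exact card_sub _
  have e3 := Set.ncard_add_ncard_compl (Fx ρ P : Set V)
  rw [← Nat.card_coe_set_eq, ← Nat.card_coe_set_eq, e1, e2] at e3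
  rw [hP] at hd
  rcases h23 with rfl | rfl <;> omega

theorem rk_ge (h23 : s = 2 ∨ s = 3) (h8 : finrank (ZMod s) V = 8) (ρ : G →* End (ZMod s) V) {P : Subgroup G}
    (hP : Nat.card P = 25) (hf : ∀ g ∈ P, (∀ v, ρ g v = v) → g = 1) (U : Submodule (ZMod s) V)
    (hU : ∀ g ∈ P, ∀ x ∈ U, ρ g x ∈ U) (h0 : U ≠ ⊥) : 4 ≤ finrank (ZMod s) U := by
  have a := rk_mod h23 h8 ρ hP U hU
  rw [fix_eq_bot h23 h8 ρ hP hf, inf_bot_eq, finrank_bot] at a
  have b : finrank (ZMod s) U ≠ 0 := fun h => h0 (Submodule.finrank_eq_zero.1 h)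
  omega

/-- **A normalized `s`-group acts trivially.** -/
theorem triv_of_norm (h23 : s = 2 ∨ s = 3) (h8 : finrank (ZMod s) V = 8) (ρ : G →* End (ZMod s) V) {P S : Subgroup G}
    (hP : Nat.card P = 25) (hf : ∀ g ∈ P, (∀ v, ρ g v = v) → g = 1) (B : LinearMap.BilinForm (ZMod s) V)
    (hB : B.Nondegenerate) (hs' : ∀ x y, B x y = B y x) (hinv : ∀ g x y, B (ρ g x) (ρ g y) = B x y)
    (hS : IsPGroup s S) (hN : P ≤ Subgroup.normalizer (S : Set G)) : ∀ g ∈ S, ∀ v, ρ g v = v := by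
  by_contra hc
  push Not at hc
  obtain ⟨g0, hg0, v0, hv0⟩ := hc
  have hinv' : ∀ g x y, B x (ρ g y) = B (ρ g⁻¹ x) y := by
    intro g x y
    rw [← hinv g (ρ g⁻¹ x) y, ← Module.End.mul_apply, ← map_mul, mul_inv_cancel, map_one, Module.End.one_apply]
  set U := Fx ρ S with hUdef
  -- commutators lie in the orthogonal of the fixed space
  have hcomm : ∀ (R : Submodule (ZMod s) V) (g : G), (∀ u ∈ R, ρ g⁻¹ u = u) → ∀ v, ρ g v - v ∈ B.orthogonal R := by
    intro R g hg v u hu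
    change B u (ρ g v - v) = 0
    rw [map_sub, hinv', hg u hu, sub_self]
  have horth : ∀ (R : Submodule (ZMod s) V) (g : G), (∀ u ∈ R, ρ g⁻¹ u ∈ R) → ∀ v ∈ B.orthogonal R,
      ρ g v ∈ B.orthogonal R := by
    intro R g hg v hv u hu
    change B u (ρ g v) = 0
    rw [hinv']
    exact hv _ (hg u hu)
  have hUP : ∀ g ∈ P, ∀ u ∈ U, ρ g u ∈ U := by
    intro g hg u hu y hy
    have h1 : g⁻¹ * y * g⁻¹⁻¹ ∈ S := (Subgroup.mem_normalizer_iff.1 (hN (inv_mem hg)) y).1 hy
    have h2 : y * g = g * (g⁻¹ * y * g⁻¹⁻¹) := by group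
    rw [← Module.End.mul_apply, ← map_mul, h2, map_mul, Module.End.mul_apply, hu _ h1]
  -- the radical is not zero
  set R := U ⊓ B.orthogonal U with hR
  have hR0 : R ≠ ⊥ := by
    intro hb
    have h := card_modEq (und ρ) hS (B.orthogonal U : Set V) fun g hg v hv =>
      horth U g (fun u hu => by rw [hu _ (inv_mem hg)]; exact hu) v hv
    have e : Nat.card {x : V | x ∈ (B.orthogonal U : Set V) ∧ ∀ g ∈ S, und ρ g x = x} =
        Nat.card ↥(B.orthogonal U ⊓ U) := rfl
    rw [e, inf_comm, ← hR, hb, card_sub, finrank_bot, pow_zero] at h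
    have e2 : Nat.card (B.orthogonal U : Set V) = s ^ finrank (ZMod s) (B.orthogonal U) := card_sub _
    have hne : finrank (ZMod s) (B.orthogonal U) ≠ 0 := by
      intro h0
      have := hcomm U g0 (fun u hu => hu _ (inv_mem hg0)) v0
      rw [Submodule.finrank_eq_zero.1 h0, Submodule.mem_bot, sub_eq_zero] at this
      exact hv0 this
    rw [e2] at h
    have h3 : s ∣ 1 := (Nat.modEq_zero_iff_dvd.1 (h.symm.trans (Nat.modEq_zero_iff_dvd.2 (dvd_pow_self s hne))))
    exact hs.out.one_lt.ne' (Nat.dvd_one.1 h3)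
  have hRP : ∀ g ∈ P, ∀ u ∈ R, ρ g u ∈ R := fun g hg u hu =>
    ⟨hUP g hg u hu.1, horth U g (hUP _ (inv_mem hg)) u hu.2⟩
  have hiso : R ≤ B.orthogonal R := fun u hu w hw => hu.2 w hw.1
  have h4 := rk_ge h23 h8 ρ hP hf R hRP hR0
  have ho := LinearMap.BilinForm.finrank_orthogonal hB R
  have hm := Submodule.finrank_mono hiso
  have hR4 : finrank (ZMod s) R = 4 := by omega
  have hRe : R = B.orthogonal R := Submodule.eq_of_le_of_finrank_eq hiso (by omega)
  -- an element of `P` with a fixed vector in the radical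
  obtain ⟨x, hx, hx1, w, hw, hw0, hxw⟩ : ∃ x ∈ P, x ≠ 1 ∧ ∃ w ∈ R, w ≠ 0 ∧ ρ x w = w := by
    by_contra hc
    push Not at hc
    have hd := card_dvd (und ρ) (P := P) ((R : Set V) \ {0}) (by
      intro g hg v hv
      refine ⟨hRP g hg v hv.1, fun h0 => hv.2 ?_⟩
      have h1 : ρ g v = 0 := h0
      have h2 : ρ g⁻¹ (ρ g v) = v := by
        rw [← Module.End.mul_apply, ← map_mul, inv_mul_cancel, map_one, Module.End.one_apply]
      rw [h1, map_zero] at h2
      exact h2.symm) (by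
      intro g hg v hv hgv
      by_contra h1
      exact hc g hg h1 v hv.1 hv.2 hgv)
    have e2 : (R : Set V).ncard = s ^ 4 := by rw [← hR4, ← Nat.card_coe_set_eq]; exact card_sub _
    rw [Nat.card_coe_set_eq, Set.ncard_sdiff_singleton_of_mem (show (0 : V) ∈ (R : Set V) from R.zero_mem), e2, hP] at hd
    rcases h23 with rfl | rfl <;> omega
  have hRx : R ≤ Fx ρ (Subgroup.zpowers x) := by
    have a := rk_ge h23 h8 ρ hP hf (R ⊓ Fx ρ (Subgroup.zpowers x))
      (fun g hg u hu => ⟨hRP g hg u hu.1, fx_inv ρ hP hx g hg u hu.2⟩) (by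
        intro hb
        have : w ∈ R ⊓ Fx ρ (Subgroup.zpowers x) := ⟨hw, mem_fx_zpowers ρ hxw⟩
        rw [hb, Submodule.mem_bot] at this
        exact hw0 this)
    have b : R ⊓ Fx ρ (Subgroup.zpowers x) = R :=
      Submodule.eq_of_le_of_finrank_eq inf_le_left (le_antisymm (Submodule.finrank_mono inf_le_left) (by omega))
    exact b ▸ inf_le_right
  have hq : ∀ v, ρ x (ρ x v - v) = ρ x v - v := by
    intro v
    have a := hcomm R x (fun u hu => hRx hu _ (inv_mem (Subgroup.mem_zpowers x))) v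
    rw [← hRe] at a
    exact hRx a x (Subgroup.mem_zpowers x)
  have hpow : ∀ (n : ℕ) v, ρ (x ^ n) v = v + n • (ρ x v - v) := by
    intro n v
    induction n with
    | zero => simp
    | succ n ih =>
      rw [pow_succ', map_mul, Module.End.mul_apply, ih, map_add, map_nsmul, hq, succ_nsmul]
      abel
  have hxs : x ^ s = 1 := hf _ (pow_mem hx s) fun v => by
    rw [hpow, ← Nat.cast_smul_eq_nsmul (ZMod s), ZMod.natCast_self, zero_smul, add_zero]
  have h25 : x ^ 25 = 1 := by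
    have := pow_card_eq_one' (G := P) (x := ⟨x, hx⟩)
    rw [hP] at this
    exact congrArg Subtype.val this
  apply hx1
  have hc : Nat.Coprime s 25 := by rcases h23 with rfl | rfl <;> norm_num
  have := (pow_gcd_eq_one (a := x) (m := s) (n := 25)).2 ⟨hxs, h25⟩
  rwa [hc, pow_one] at this

end Cfsg.Agent.T44.Cl.W8
end

-- part: T44/Spor/Geo
section
set_option linter.all false
open scoped Cfsg.Agent.FastGrp

/-!
# S3544, sporadic rows: the 2-local geometry of the Monster, abstract part (helper35)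

* `YF Γ` : the facts on the geometry;
* `YF.false_M` : no configuration of characteristic two in the group itself;
* `YF.false_B` : the centralizer of an involution which is not a point.
-/

set_option autoImplicit false
set_option linter.style.haveILetI false

namespace Cfsg.Agent.T44.Spor

open Subgroup Cfsg Cfsg.Agent.R2.M7
open scoped commutatorElement

variable {G : Type*} [Group G]

/-- the facts on the geometry -/
structure YF (Γ : Geo G) : Prop where
  facts : Γ.Facts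
  mainC : Γ.MainC
  sep : ∀ z ∈ Γ.Pt, ∀ K : Subgroup G, K ≤ Γ.QQ z → z ∈ K → ∀ u ∈ Γ.QQ z, u ∉ K →
    ∃ q ∈ Γ.QQ z, (∀ k ∈ K, q * k = k * q) ∧ q * u ≠ u * q
  syl : ∀ T : Subgroup G, IsPGroup 2 T → ∃ z ∈ Γ.Pt, ∀ x ∈ T, x * z = z * x
  four : ∀ u ∈ Γ.Pt, ∀ v ∈ Γ.Pt, v ∈ Γ.QQ u → v ≠ u →
    ¬ 5 ^ 2 ∣ Nat.card (centralizer ({u} : Set G) ⊓ centralizer ({v} : Set G) : Subgroup G)
  ark5 : ∀ O ∈ Γ.Ark, ¬ 5 ^ 3 ∣ Nat.card (normalizer (O : Set G))
  arkS : ∀ O ∈ Γ.Ark, ∀ A B : Subgroup G, A ≤ normalizer (O : Set G) → B ≤ normalizer (O : Set G) →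
    normalizer (O : Set G) ≤ normalizer (A : Set G) → normalizer (O : Set G) ≤ normalizer (B : Set G) →
    ⁅A, B⁆ ≤ centralizer (O : Set G) → IsPGroup 2 A ∨ IsPGroup 2 B
  c127 : ¬ 127 ∣ Nat.card G

theorem not_cube_mul {a b : ℕ} (ha : ¬ 5 ^ 2 ∣ a) (hb : ¬ 5 ^ 2 ∣ b) : ¬ 5 ^ 3 ∣ a * b := by
  intro h
  have h1 : a ≠ 0 := fun e => ha (e ▸ dvd_zero _)
  have h2 : b ≠ 0 := fun e => hb (e ▸ dvd_zero _)
  rw [Nat.prime_five.pow_dvd_iff_le_factorization h1] at ha
  rw [Nat.prime_five.pow_dvd_iff_le_factorization h2] at hb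
  rw [Nat.prime_five.pow_dvd_iff_le_factorization (mul_ne_zero h1 h2), Nat.factorization_mul h1 h2,
    Finsupp.add_apply] at h
  omega

/-- the subgroup generated by `A` and `v` -/
def adj (A : Subgroup G) (v : G) (hv : v * v = 1) (hc : ∀ a ∈ A, a * v = v * a) : Subgroup G where
  carrier := {x | x ∈ A ∨ x * v ∈ A}
  one_mem' := Or.inl A.one_mem
  mul_mem' := by
    rintro a b (ha | ha) (hb | hb)
    · exact Or.inl (A.mul_mem ha hb)
    · exact Or.inr (by rw [mul_assoc]; exact A.mul_mem ha hb)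
    · refine Or.inr ?_
      rw [mul_assoc, hc b hb, ← mul_assoc]
      exact A.mul_mem ha hb
    · refine Or.inl ?_
      have h1 := A.mul_mem ha hb
      rwa [mul_assoc, ← hc _ hb, mul_assoc b, hv, mul_one] at h1
  inv_mem' := by
    rintro a (ha | ha)
    · exact Or.inl (A.inv_mem ha)
    · refine Or.inr ?_
      have h1 := A.inv_mem ha
      have h2 := hc _ h1
      rw [mul_inv_rev, inv_eq_of_mul_eq_one_left hv, ← mul_assoc, hv, one_mul] at h2
      have h3 : a⁻¹ * v = v * a⁻¹ := by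
        calc a⁻¹ * v = v * a⁻¹ * v * v := by rw [h2]
          _ = _ := by rw [mul_assoc, hv, mul_one]
      rwa [mul_inv_rev, inv_eq_of_mul_eq_one_left hv, ← h3] at h1

theorem adj_le {A B : Subgroup G} {v : G} {hv : v * v = 1} {hc : ∀ a ∈ A, a * v = v * a} (h1 : A ≤ B) (h2 : v ∈ B) :
    adj A v hv hc ≤ B := by
  rintro x (hx | hx)
  · exact h1 hx
  · exact (B.mul_mem_cancel_right h2).1 (h1 hx)

namespace YF

variable {Γ : Geo G} (X : YF Γ)
include X

theorem sing_comm {F : Subgroup G} (hF : Γ.Sing F) : ∀ a ∈ F, ∀ b ∈ F, a * b = b * a := by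
  intro a ha b hb
  by_cases h : b = 1
  · rw [h, mul_one, one_mul]
  · exact X.facts.basic.QQ_comm b (hF.1 b hb h) a (hF.2 b hb h a ha)

theorem sing_sq {F : Subgroup G} (hF : Γ.Sing F) : ∀ a ∈ F, a * a = 1 := by
  intro a ha
  by_cases h : a = 1
  · rw [h, mul_one]
  · exact X.facts.basic.pt_sq a (hF.1 a ha h)

theorem sing_pg {F : Subgroup G} (hF : Γ.Sing F) : IsPGroup 2 F := fun x => ⟨1, Subtype.ext (by
  rw [pow_one, pow_two]
  exact X.sing_sq hF x x.2)⟩

/-- transvections -/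
theorem exists_tv {z : G} (hz : z ∈ Γ.Pt) {A : Subgroup G} (hA : A ≤ Γ.QQ z) {u : G} (hu : u ∈ Γ.QQ z) (h1 : u ∉ A)
    (h2 : u * z ∉ A) : ∃ q ∈ Γ.QQ z, (∀ a ∈ A, q * a = a * q) ∧ q * u * q⁻¹ = z * u := by
  have B := X.facts.basic
  obtain ⟨q, hq, h3, h4⟩ := X.sep z hz (adj A z (B.pt_sq z hz) fun a ha => B.QQ_comm z hz a (hA ha))
    (adj_le hA (B.QQ_self z hz)) (Or.inr (by rw [B.pt_sq z hz]; exact A.one_mem)) u hu fun e => e.elim h1 h2
  refine ⟨q, hq, fun a ha => h3 a (Or.inl ha), ?_⟩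
  rcases B.QQ_der z hz q hq u hu with e | e
  · exact absurd (mul_inv_eq_iff_eq_mul.1 (mul_inv_eq_one.1 e)) h4
  · exact mul_inv_eq_iff_eq_mul.1 e

theorem QQ_le_norm {F : Subgroup G} (hF : Γ.Sing F) {z : G} (hz : z ∈ F) (h1 : z ≠ 1) :
    Γ.QQ z ≤ normalizer (F : Set G) := by
  refine norm_of_conj fun q hq f hf => ?_
  rcases X.facts.basic.QQ_der z (hF.1 z hz h1) q hq f (hF.2 z hz h1 f hf) with e | e
  · rwa [mul_inv_eq_one.1 e]
  · rw [mul_inv_eq_iff_eq_mul.1 e]
    exact F.mul_mem hz hf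

theorem norm_QQ {z : G} (hz : z ∈ Γ.Pt) : centralizer ({z} : Set G) ≤ normalizer (Γ.QQ z : Set G) := by
  refine norm_of_conj fun g hg q hq => ?_
  have h1 := X.facts.basic.QQ_conj z hz g q hq
  rwa [mem_centralizer_singleton_iff.1 hg, mul_inv_cancel_right] at h1

/-- the centre of `Q_z` -/
theorem eq_of_cent {z w : G} (hz : z ∈ Γ.Pt) (h1 : w ≠ 1) (h : ∀ q ∈ Γ.QQ z, q * w = w * q) : w = z := by
  have B := X.facts.basic
  by_contra hne
  obtain ⟨q, hq, -, h2⟩ := X.exists_tv hz (A := ⊥) bot_le (B.QQ_cent z hz w fun q hq => (h q hq).symm)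
    (fun e => h1 (mem_bot.1 e)) fun e => hne (by
      calc w = w * z * z := by rw [mul_assoc, B.pt_sq z hz, mul_one]
        _ = z := by rw [mem_bot.1 e, one_mul])
  rw [h q hq, mul_inv_cancel_right, right_eq_mul] at h2
  exact B.pt_ne z hz h2

/-- the structure of `N(T)` if `C(T) ≤ T` -/
theorem struct {T H : Subgroup G} (hT : IsPGroup 2 T) (hC : centralizer (T : Set G) ≤ T)
    (hH : H ≤ normalizer (T : Set G)) : ∃ F : Subgroup G, F ≠ ⊥ ∧ F ≤ T ∧ T ≤ centralizer (F : Set G) ∧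
      H ≤ normalizer (F : Set G) ∧ (F ∈ Γ.Ark ∨ Γ.Sing F) := by
  have B := X.facts.basic
  let Z : Subgroup G :=
    { carrier := {x | x * x = 1 ∧ ∀ s ∈ T, s * x = x * s}
      one_mem' := ⟨mul_one _, fun s _ => by rw [mul_one, one_mul]⟩
      mul_mem' := by
        rintro a b ⟨ha, ha'⟩ ⟨hb, hb'⟩
        refine ⟨?_, fun s hs => by rw [← mul_assoc, ha' s hs, mul_assoc, hb' s hs, mul_assoc]⟩
        have h1 := hb' a (hC (mem_centralizer_iff.2 ha'))
        calc a * b * (a * b) = a * (b * a) * b := by group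
          _ = (a * a) * (b * b) := by rw [← h1]; group
          _ = 1 := by rw [ha, hb, mul_one]
      inv_mem' := by
        rintro a ⟨ha, ha'⟩
        rw [inv_eq_of_mul_eq_one_left ha]
        exact ⟨ha, ha'⟩ }
  have hZT : Z ≤ T := fun x hx => hC (mem_centralizer_iff.2 hx.2)
  have hTZ : T ≤ centralizer (Z : Set G) := fun s hs => mem_centralizer_iff.2 fun x hx => (hx.2 s hs).symm
  have hS : Γ.Sit T Z :=
    { two := hT
      comm := fun x hx => hx.2
      ab := fun x hx y hy => hy.2 x (hZT hx)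
      sq := fun x hx => hx.1
      all := fun x h1 h2 => ⟨h1, h2⟩
      pt := by
        obtain ⟨z, hz, hz'⟩ := X.syl T hT
        exact ⟨z, ⟨B.pt_sq z hz, hz'⟩, hz⟩ }
  have hHZ : ∀ g ∈ H, ∀ x ∈ Z, g * x * g⁻¹ ∈ Z := by
    rintro g hg x ⟨hx, hx'⟩
    refine ⟨?_, fun s hs => ?_⟩
    · calc g * x * g⁻¹ * (g * x * g⁻¹) = g * (x * x) * g⁻¹ := by group
        _ = 1 := by rw [hx]; group
    · have h1 := hx' _ (conj_mem_of_norm' hH hg hs)
      calc s * (g * x * g⁻¹) = g * (g⁻¹ * s * g * x) * g⁻¹ := by group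
        _ = _ := by rw [h1]; group
  rcases X.mainC T Z hS with hZ | ⟨F, h0, hFZ, hF, hinv⟩
  · refine ⟨Z, fun e => ?_, hZT, hTZ, norm_of_conj hHZ, Or.inl hZ⟩
    have h1 := X.facts.ark.card Z hZ
    rw [e, card_bot] at h1
    norm_num at h1
  · exact ⟨F, h0, hFZ.trans hZT, hTZ.trans (centralizer_le hFZ), norm_of_conj fun g hg => hinv g (hHZ g hg),
      Or.inr hF⟩

variable [Finite G]

/-! ### The Monster -/

section monster

variable {H Q F : Subgroup G} {Ya Yb : Set G} {da db : ℕ} (h : Cfg ⊤ H Q 2 Ya Yb da db) (hF : Γ.Sing F) (h0 : F ≠ ⊥)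
  (hFQ : F ≤ Q) (hn : H ≤ normalizer (F : Set G))
include h hF h0 hFQ hn

theorem meet {y : G} (hy : y ∈ Ya) : F ⊓ cj y F ≠ ⊥ := by
  obtain ⟨R, hR⟩ := exists_syl' Nat.prime_two (⊤ ⊓ H ⊓ cj y H)
  have hR' : Syl 2 R (⊤ ⊓ H) := hR.trans Nat.prime_two inf_le_left (by
    rw [inf_relIndex_left]
    exact h.not_r_idx_a hy)
  have hRH : R ≤ H := hR'.le.trans inf_le_right
  obtain ⟨z, hz, ho, hc⟩ := exists_central Nat.prime_two hR.pg (hFQ.trans (h.Q_le_syl hR')) h0 (hRH.trans hn)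
  have hD := Cfg.D_norm_cj (T := ⊤) hn y
  obtain ⟨w, hw, ho', hc'⟩ := exists_central Nat.prime_two hR.pg (hR.le_of_norm Nat.prime_two
    ((cj_mono y hFQ).trans (h.cj_Q_le_D hy)) hD (isPGroup_cj y (X.sing_pg hF))) (cj_ne_bot y h0) (hR.le.trans hD)
  have hz1 : z ≠ 1 := fun e => by rw [e, orderOf_one] at ho; omega
  have hw1 : w ≠ 1 := fun e => by rw [e, orderOf_one] at ho'; omega
  have hzP := hF.1 z hz hz1
  have h1 : R ⊔ Γ.QQ z = R := hR'.eq_of_le Nat.prime_two (sup_le hR'.le (le_inf le_top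
    ((X.QQ_le_norm hF hz hz1).trans (h.norm_le (hFQ.trans h.Q_le_H) h0 hn))))
    (isPGroup_sup hR.pg (X.facts.basic.QQ_two z hzP)
      (le_trans (fun g hg => mem_centralizer_singleton_iff.2 (hc g hg)) (X.norm_QQ hzP))) le_sup_left
  have h2 : w = z := X.eq_of_cent hzP hw1 fun q hq => hc' q (h1 ▸ mem_sup_right hq)
  intro e
  exact hz1 (mem_bot.1 (e ▸ (⟨hz, h2 ▸ hw⟩ : z ∈ F ⊓ cj y F)))

omit X hF h0 hFQ in
theorem card_const {y z : G} (hy : y ∈ Ya) (hz : z ∈ Yb) {m : G} (hm : m ∈ H) :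
    Nat.card ((F ⊓ cj y F) ⊓ cj m (F ⊓ cj z F) : Subgroup G) =
      Nat.card ((F ⊓ cj y F) ⊓ (F ⊓ cj z F) : Subgroup G) := by
  obtain ⟨a, ha, b, hb, rfl⟩ := h.factor hy hz (m := m) ⟨trivial, hm⟩
  have key : ∀ w : G, ⊤ ⊓ H ⊓ cj w H ≤ normalizer ((F ⊓ cj w F : Subgroup G) : Set G) := fun w =>
    norm_inf ((inf_le_left.trans inf_le_right).trans hn) (Cfg.D_norm_cj hn w)
  rw [cj_mul, cj_eq_iff.2 (key z hb)]
  conv_lhs => rw [← cj_eq_iff.2 (key y ha), ← cj_inf, card_cj]

theorem not_le {y z : G} (hy : y ∈ Ya) (hz : z ∈ Yb) : ¬ F ⊓ cj z F ≤ F ⊓ cj y F := by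
  intro e
  have hFH := hFQ.trans h.Q_le_H
  obtain ⟨v, hv, hv'⟩ := SetLike.not_le_iff_exists.1 (h.not_le_cj hFH h0 hn (h.A.notMem y hy))
  obtain ⟨⟨w, hw⟩, hw1⟩ := ne_bot_iff_exists_ne_one.1 (X.meet h.symm hF h0 hFQ hn hz)
  have hv1 : v ≠ 1 := fun e => hv' (e ▸ one_mem _)
  obtain ⟨q, hq, -, h2⟩ := X.exists_tv (hF.1 v hv hv1) (A := ⊥) bot_le (hF.2 v hv hv1 w hw.1)
    (fun e => hw1 (Subtype.ext (mem_bot.1 e))) fun e' => hv' (by
      rw [eq_inv_of_mul_eq_one_right (mem_bot.1 e')]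
      exact inv_mem (e hw).2)
  have h3 := card_const h hn hy hz (h.norm_le hFH h0 hn (X.QQ_le_norm hF hv hv1 hq))
  rw [inf_eq_right.2 e, ← card_cj q (F ⊓ cj z F)] at h3
  have h4 := eq_of_le_of_card_ge inf_le_right h3.ge
  have h5 : q * w * q⁻¹ ∈ (F ⊓ cj y F) ⊓ cj q (F ⊓ cj z F) := by
    rw [h4]
    exact conj_mem_cj hw q
  rw [h2] at h5
  exact hv' (((cj y F).mul_mem_cancel_right (e hw).2).1 h5.1.2)

theorem false_sing : False := by
  obtain ⟨y, hy⟩ := h.A.ne
  obtain ⟨z, hz⟩ := h.B.ne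
  obtain ⟨w, hw, hw'⟩ := SetLike.not_le_iff_exists.1 (X.not_le h hF h0 hFQ hn hy hz)
  obtain ⟨u, hu, hu'⟩ := SetLike.not_le_iff_exists.1 (X.not_le h.symm hF h0 hFQ hn hz hy)
  have hv : u * w ∈ F := F.mul_mem hu.1 hw.1
  have hv1 : u * w ≠ 1 := fun e => hw' (by
    rw [eq_inv_of_mul_eq_one_right e]
    exact inv_mem hu)
  have e1 : u * w * w = u := by rw [mul_assoc, X.sing_sq hF w hw.1, mul_one]
  obtain ⟨q, hq, h1, h2⟩ := X.exists_tv (hF.1 _ hv hv1) (A := (F ⊓ cj y F) ⊓ (F ⊓ cj z F))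
    (fun a ha => hF.2 _ hv hv1 a ha.1.1) (hF.2 _ hv hv1 w hw.1) (fun e => hw' e.1) fun e => hu' (by
      rw [X.sing_comm hF w hw.1 _ hv, e1] at e
      exact e.2)
  have h3 := card_const h hn hy hz (h.norm_le (hFQ.trans h.Q_le_H) h0 hn (X.QQ_le_norm hF hv hv1 hq))
  have h4 : (F ⊓ cj y F) ⊓ (F ⊓ cj z F) ≤ (F ⊓ cj y F) ⊓ cj q (F ⊓ cj z F) := by
    refine fun a ha => ⟨ha.1, ?_⟩
    have h5 := conj_mem_cj ha.2 q
    rwa [h1 a ha, mul_inv_cancel_right] at h5
  have h5 : u ∈ (F ⊓ cj y F) ⊓ cj q (F ⊓ cj z F) := by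
    refine ⟨hu, ?_⟩
    have h6 := conj_mem_cj hw q
    rwa [h2, e1] at h6
  rw [← eq_of_le_of_card_ge h4 h3.le] at h5
  exact hu' h5.2

end monster

/-- **The Monster.** -/
theorem false_M {H Q : Subgroup G} {Ya Yb : Set G} {da db : ℕ} (h : Cfg ⊤ H Q 2 Ya Yb da db) : False := by
  obtain ⟨F, h0, hFQ, hc, hn, hF | hF⟩ := X.struct h.isO.pg (fun x hx => h.cent_Q ⟨trivial, hx⟩) h.H_norm_Q
  · have h1 := h.norm_le (hFQ.trans h.Q_le_H) h0 hn
    exact (X.arkS F hF _ _ ((h.La_le_M.trans inf_le_right).trans hn) ((h.Lb_le_M.trans inf_le_right).trans hn)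
      (h1.trans h.H_norm_La) (h1.trans h.H_norm_Lb) (h.comm_le.trans hc)).elim h.not_pg_La h.symm.not_pg_La
  · exact X.false_sing h hF h0 hFQ hn

/-! ### The Baby Monster -/

theorem card_sing {F : Subgroup G} (hF : Γ.Sing F) : ¬ 2 ^ (6 + 1) ∣ Nat.card F := by
  intro hd
  obtain ⟨K, hK⟩ := Sylow.exists_subgroup_card_pow_prime 2 hd
  set E : Subgroup G := K.map F.subtype with hE
  have hEF : E ≤ F := map_subtype_le _
  have hc : Nat.card E = 2 ^ (6 + 1) := by rw [hE, card_map_of_injective F.subtype_injective, hK]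
  have hS : Γ.Sing E := ⟨fun x hx => hF.1 x (hEF hx), fun x hx h1 y hy => hF.2 x (hEF hx) h1 y (hEF hy)⟩
  obtain ⟨⟨u, hu⟩, hu1⟩ := ne_bot_iff_exists_ne_one.1 (show E ≠ ⊥ from fun e => by
    rw [e, card_bot] at hc
    norm_num at hc)
  have hu2 : u ≠ 1 := fun e => hu1 (Subtype.ext e)
  letI : MulAction (normalizer (E : Set G)) G :=
    MulAction.compHom G ((MulAut.conj : G →* MulAut G).comp (normalizer (E : Set G)).subtype)
  have h1 : MulAction.orbit (normalizer (E : Set G)) u = (E : Set G) \ {1} := by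
    ext v
    constructor
    · rintro ⟨g, rfl⟩
      exact ⟨conj_mem_of_norm le_rfl g.2 hu, fun e => hu2 (conj_eq_one_iff.1 e)⟩
    · rintro ⟨hv, hv1⟩
      by_cases e : v = u
      · exact e ▸ MulAction.mem_orbit_self _
      have h2 : v * u ∈ E := E.mul_mem hv hu
      have e1 : v * u * u = v := by rw [mul_assoc, X.sing_sq hS u hu, mul_one]
      have h3 : v * u ≠ 1 := fun e' => e (by rw [← e1, e', one_mul])
      obtain ⟨q, hq, -, h4⟩ := X.exists_tv (hS.1 _ h2 h3) (A := ⊥) bot_le (hS.2 _ h2 h3 u hu)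
        (fun e => hu2 (mem_bot.1 e)) fun e' => hv1 (by
          rw [X.sing_comm hS u hu _ h2, e1] at e'
          exact mem_bot.1 e')
      exact ⟨⟨q, X.QQ_le_norm hS h2 h3 hq⟩, h4.trans e1⟩
  apply X.c127
  have h2 := (MulAction.stabilizer (normalizer (E : Set G)) u).index_dvd_card
  rw [MulAction.index_stabilizer, h1, Set.ncard_sdiff_singleton_of_mem E.one_mem, ← Nat.card_coe_set_eq] at h2
  have h3 : Nat.card (E : Set G) = 2 ^ (6 + 1) := hc
  rw [h3] at h2
  exact h2.trans (card_subgroup_dvd_card _)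

theorem sing5 {F : Subgroup G} (hF : Γ.Sing F) {u v : G} (hu : u ∈ F) (hv : v ∈ F) (hu1 : u ≠ 1) (hv1 : v ≠ 1)
    (huv : v ≠ u) : ¬ 5 ^ 3 ∣ Nat.card (normalizer (F : Set G)) := by
  intro hd
  obtain ⟨P, hP⟩ := exists_syl' Nat.prime_five (normalizer (F : Set G))
  rw [← hP.dvd_card_iff Nat.prime_five, ← card_inf_mul (centralizer (F : Set G))] at hd
  refine not_cube_mul (fun e => ?_) (fun e => ?_) hd
  · refine X.four u (hF.1 u hu hu1) v (hF.1 v hv hv1) (hF.2 u hu hu1 v hv) huv (e.trans (card_dvd_of_le ?_))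
    exact inf_le_left.trans (le_inf (centralizer_le (Set.singleton_subset_iff.2 hu))
      (centralizer_le (Set.singleton_subset_iff.2 hv)))
  · exact absurd (e.trans (gl_dvd Nat.prime_two Nat.prime_five (by norm_num) (X.sing_pg hF) (X.card_sing hF) hP.pg
      hP.le)) (by decide +kernel)

section baby

variable {t : G} (ht : t * t = 1) (htP : t ∉ Γ.Pt)
include ht htP

omit [Finite G] htP in
/-- the centre of `C_{Q_z}(t)` -/
theorem mem_of_cent {z w : G} (hz : z ∈ Γ.Pt) (htz : t ∈ Γ.QQ z) (hw : w ∈ Γ.QQ z)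
    (h : ∀ q ∈ Γ.QQ z, q * t = t * q → q * w = w * q) : w = 1 ∨ w = z ∨ w = t ∨ w = t * z := by
  have B := X.facts.basic
  by_contra hne
  push Not at hne
  obtain ⟨h1, h2, h3, h4⟩ := hne
  have key : ∀ a b : G, b * b = 1 → a * b = 1 → a = b := fun a b hb e => by
    calc a = a * b * b := by rw [mul_assoc, hb, mul_one]
      _ = b := by rw [e, one_mul]
  obtain ⟨q, hq, h5, h6⟩ := X.exists_tv hz (A := adj ⊥ t ht fun a ha => by rw [mem_bot.1 ha, mul_one, one_mul])
    (adj_le bot_le htz) hw (fun e => e.elim (fun e => h1 (mem_bot.1 e)) fun e => h3 (key _ _ ht (mem_bot.1 e)))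
    fun e => e.elim (fun e => h2 (key _ _ (B.pt_sq z hz) (mem_bot.1 e))) fun e => h4 (by
      rw [← key _ _ ht (mem_bot.1 e), mul_assoc, B.pt_sq z hz, mul_one])
  rw [h q hq (h5 t (Or.inr (by rw [ht]; exact one_mem _))), mul_inv_cancel_right, right_eq_mul] at h6
  exact B.pt_ne z hz h6

omit [Finite G] in
theorem eq_of_cent' {z w : G} (hz : z ∈ Γ.Pt) (htz : t ∈ Γ.QQ z) (hw : w ∈ Γ.QQ z) (hwP : w ∈ Γ.Pt)
    (h : ∀ q ∈ Γ.QQ z, q * t = t * q → q * w = w * q) : w = z := by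
  have B := X.facts.basic
  by_contra hne
  rcases X.mem_of_cent ht hz htz hw h with e | e | e | e
  · exact B.pt_ne w hwP e
  · exact hne e
  · exact htP (e ▸ hwP)
  · have h1 := B.line z hz w hwP (fun e => hne e.symm) hw
    rw [e, B.QQ_comm z hz t htz, ← mul_assoc, B.pt_sq z hz, one_mul] at h1
    exact htP h1

/-- a point which centralises `C_{Q_z}(t)` -/
theorem pt_eq {z w : G} (hz : z ∈ Γ.Pt) (htz : t ∈ Γ.QQ z) (hwP : w ∈ Γ.Pt)
    (h : ∀ q ∈ Γ.QQ z, q * t = t * q → q * w = w * q) : w = z := by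
  have B := X.facts.basic
  have A := X.facts.ark
  by_cases hw : w ∈ Γ.QQ z
  · exact X.eq_of_cent' ht htP hz htz hw hwP h
  exfalso
  rcases X.facts.type z hz w (h z (B.QQ_self z hz) (B.QQ_comm z hz t htz).symm).symm hw (B.pt_sq w hwP) with
    ⟨c, hc, hcz, hwc, h1, -⟩ | ⟨O, hO, hzO, hwO⟩
  · have h2 := X.eq_of_cent' ht htP hz htz hcz hc fun q hq e => h1 q (B.QQ_comm z hz q hq) (h q hq e)
    exact hw (h2 ▸ hwc)
  have h1 : ((O ⊓ Γ.QQ z : Subgroup G) : Set G) ⊆ {1, z, t, t * z} := fun a ha =>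
    X.mem_of_cent ht hz htz ha.2 fun q hq e =>
      (mem_centralizer_iff.1 (A.cent_le O hO z hzO hz w hwO hw q hq (h q hq e)) a ha.1).symm
  have h2 : Nat.card (O ⊓ Γ.QQ z : Subgroup G) ≤ 4 := by
    refine le_trans (Set.ncard_le_ncard h1) ?_
    refine (Set.ncard_insert_le _ _).trans (Nat.succ_le_succ ((Set.ncard_insert_le _ _).trans
      (Nat.succ_le_succ ((Set.ncard_insert_le _ _).trans ?_))))
    rw [Set.ncard_singleton]
  have h3 : ((Γ.QQ z).subgroupOf O).index ∣ 2 := by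
    rw [index_dvd_two_iff]
    obtain ⟨a, ha, hav⟩ := A.bet_nondeg O hO z hzO (B.pt_ne z hz)
    refine ⟨⟨a, ha⟩, fun b => ?_⟩
    rw [mem_subgroupOf, mem_subgroupOf, A.bet_iff O hO z hzO hz _ (b * ⟨a, ha⟩).2, A.bet_iff O hO z hzO hz _ b.2,
      coe_mul, A.bet_mul O hO b b.2 a ha z hzO, hav]
    generalize Γ.bet b z = p
    revert p
    decide
  have h4 := ((Γ.QQ z).subgroupOf O).index_mul_card
  rw [A.card O hO, ← card_map_of_injective O.subtype_injective, subgroupOf_map_subtype, inf_comm] at h4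
  have h5 := Nat.mul_le_mul (Nat.le_of_dvd two_pos h3) h2
  omega

/-- **The Baby Monster.** -/
theorem false_B {T H : Subgroup G} (hT : IsPGroup 2 T) (hC : centralizer (T : Set G) ≤ T) (hTH : T ≤ H)
    (hH : H ≤ normalizer (T : Set G)) (hHt : H ≤ centralizer ({t} : Set G)) (h5 : 5 ^ 3 ∣ Nat.card H)
    (hz : ∀ z ∈ T, z ≠ 1 → z ≠ t → H ≤ centralizer ({z} : Set G) →
      centralizer ({z} : Set G) ⊓ centralizer ({t} : Set G) ≤ H)
    (hmax : ∀ R ≤ H, IsPGroup 2 R → H ≤ normalizer (R : Set G) → R ≤ T)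
    {y : G} (hy : y ∈ centralizer ({t} : Set G)) (hyH : y ∉ H) (hyT : T ≤ cj y H) : False := by
  have B := X.facts.basic
  have A := X.facts.ark
  obtain ⟨F, h0, hFT, -, hn, hF | hF⟩ := X.struct hT hC hH
  · exact X.ark5 F hF (h5.trans (card_dvd_of_le hn))
  obtain ⟨⟨z, hzF⟩, hz1⟩ := ne_bot_iff_exists_ne_one.1 h0
  have hz2 : z ≠ 1 := fun e => hz1 (Subtype.ext e)
  have hzP := hF.1 z hzF hz2
  have hHz : H ≤ centralizer ({z} : Set G) := by
    intro g hg
    by_contra hne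
    exact X.sing5 hF hzF (conj_mem_of_norm hn hg hzF) hz2 (fun e => hz2 (conj_eq_one_iff.1 e))
      (fun e => hne (mem_centralizer_singleton_iff.2 (mul_inv_eq_iff_eq_mul.1 e))) (h5.trans (card_dvd_of_le hn))
  have hzt : z ≠ t := fun e => htP (e ▸ hzP)
  have hN := hz z (hFT hzF) hz2 hzt hHz
  by_cases htz : t ∈ Γ.QQ z
  · have h1 : Γ.QQ z ⊓ centralizer ({t} : Set G) ≤ T := hmax _
      (le_trans (inf_le_inf_right _ fun q hq => mem_centralizer_singleton_iff.2 (B.QQ_comm z hzP q hq)) hN)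
      (B.QQ_two z hzP).to_inf_left (norm_inf (hHz.trans (X.norm_QQ hzP))
        (norm_cent_single fun g hg => mem_centralizer_singleton_iff.1 (hHt hg)))
    have h2 := X.pt_eq ht htP hzP htz (B.pt_conj z hzP y) fun q hq e => by
      have h3 := mem_centralizer_singleton_iff.1 (hHz (mem_cj.1 (hyT (h1 ⟨hq, mem_centralizer_singleton_iff.2 e⟩))))
      calc q * (y * z * y⁻¹) = y * (y⁻¹ * q * y * z) * y⁻¹ := by group
        _ = _ := by rw [h3]; group
    exact hyH (hN ⟨mem_centralizer_singleton_iff.2 (mul_inv_eq_iff_eq_mul.1 h2), hy⟩)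
  have htz' : t * z = z * t := (mem_centralizer_singleton_iff.1 (hHt (hTH (hFT hzF)))).symm
  rcases X.facts.type z hzP t htz' htz ht with ⟨c, hc, hcz, htc, h1, -⟩ | ⟨O, hO, hzO, htO⟩
  · refine X.four z hzP c hc hcz (fun e => htz (e ▸ htc)) (((pow_dvd_pow 5 (by norm_num)).trans h5).trans
      (card_dvd_of_le (le_inf hHz fun g hg => mem_centralizer_singleton_iff.2 ?_)))
    exact h1 g (mem_centralizer_singleton_iff.1 (hHz hg)) (mem_centralizer_singleton_iff.1 (hHt hg))
  · refine X.ark5 O hO (h5.trans (card_dvd_of_le fun g hg => cj_eq_iff.1 ?_))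
    have h1 : g * z * g⁻¹ = z := by rw [mem_centralizer_singleton_iff.1 (hHz hg), mul_inv_cancel_right]
    have h2 : g * t * g⁻¹ = t := by rw [mem_centralizer_singleton_iff.1 (hHt hg), mul_inv_cancel_right]
    refine A.unique _ (A.conj O hO g) O hO z hzP ⟨z, hzO, h1⟩ hzO t ?_ htO htz
    have h3 : cj g (Γ.KK O z) = Γ.KK (cj g O) z := by
      unfold Geo.KK
      rw [cj_sup, cj_inf, cj_centralizer, cj_eq_iff.2 (X.norm_QQ hzP (hHz hg))]
    rw [← h2]
    exact h3 ▸ conj_mem_cj htO g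

end baby

end YF

end Cfsg.Agent.T44.Spor
end

-- part: T44/Cl/Mod
section
prune_inst 0xf0106704044000000018001270001c42b6000092014b0c000c40024406c02c4228000e61b130001310b0094c4034006813cc0020422800000a000000091c05810800100090080100000086000080000000000000000000000000000000000000200000000
set_option linter.all false
open scoped Cfsg.Agent.FastGrp

/-!
# S3544, classical groups: the models with explicit rings (helper34; the proofs are helper12's, `DS/Cl/Mod*`)
-/

set_option autoImplicit false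

namespace Cfsg.Agent.T44.Cl

open Cfsg Cfsg.Agent.DS.Cl Cfsg.Agent.DS.Cl.Fwd

/-- `T` is the group `F.S` of a form structure on `A`, and the automorphisms in `Γ` are induced by `F.Aut` -/
def ModelOn (A : Type) [Ring A] [StarRing A] (T : Type) [Group T] (Γ : Set (MulAut T)) : Prop :=
  ∃ (F : FR A) (e : F.S ≃* T), SS A ∧ F.Span ∧
    ∀ α ∈ Γ, ∃ γ ∈ F.Aut, ∀ s t : F.S, (t : RingAut A) = γ * s * γ⁻¹ → e t = α (e s)

section general

variable {A : Type} [Ring A] [StarRing A]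

theorem modelOn_of (F : FR A) (hss : SS A) (hspan : F.Span) {K : Type} [Group K] (φ : K →* Aˣ)
    (hinj : Function.Injective φ) (hr : φ.range = ⁅F.Iso, F.Iso⁆) (Γ : Set (MulAut (K ⧸ Subgroup.center K)))
    (hΓ : ∀ β ∈ Γ, ∃ γ ∈ F.Aut, ∀ k : K, ∃ k' : K,
      β (QuotientGroup.mk k) = QuotientGroup.mk k' ∧ γ (φ k : A) = φ k') :
    ModelOn A (K ⧸ Subgroup.center K) Γ := by
  have hmem : ∀ k : K, DS.Cl.cj A (φ k) ∈ F.S := fun k => ⟨φ k, by rw [← hr]; exact ⟨k, rfl⟩, rfl⟩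
  let f : K →* F.S := ((DS.Cl.cj A).comp φ).codRestrict F.S hmem
  have hf : Function.Surjective f := by
    rintro ⟨_, u, hu, rfl⟩
    rw [← hr] at hu
    obtain ⟨k, rfl⟩ := hu
    exact ⟨k, rfl⟩
  have hker : Subgroup.center K = f.ker := by
    ext k
    rw [MonoidHom.mem_ker, Subgroup.mem_center_iff]
    constructor
    · intro hk
      apply Subtype.ext
      change DS.Cl.cj A (φ k) = 1
      have h1 : ∀ x : A, (φ k : A) * x = x * φ k := by
        intro x
        have hx : x ∈ Subring.closure ((Subring.center A : Set A) ∪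
            ((fun u : Aˣ => (u : A)) '' (⁅F.Iso, F.Iso⁆ : Subgroup Aˣ))) := by
          rw [hspan]; trivial
        have h2 : Subring.closure ((Subring.center A : Set A) ∪
            ((fun u : Aˣ => (u : A)) '' (⁅F.Iso, F.Iso⁆ : Subgroup Aˣ))) ≤ Subring.centralizer {(φ k : A)} := by
          rw [Subring.closure_le]
          rintro y (hy | ⟨u, hu, rfl⟩)
          · intro z hz
            rw [Set.mem_singleton_iff.1 hz]
            exact (Subring.mem_center_iff.1 hy) _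
          · intro z hz
            rw [Set.mem_singleton_iff.1 hz]
            rw [← hr] at hu
            obtain ⟨g, rfl⟩ := hu
            rw [← Units.val_mul, ← Units.val_mul, ← map_mul, ← map_mul, hk g]
        exact h2 hx _ rfl
      ext x
      rw [cj_apply, h1, mul_assoc, Units.mul_inv, mul_one]
      rfl
    · intro hk g
      have h1 : DS.Cl.cj A (φ k) = 1 := congrArg Subtype.val hk
      have h2 : (φ k : A) * φ g * ((φ k)⁻¹ : Aˣ) = φ g := by
        rw [← cj_apply, h1]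
        rfl
      apply hinj
      apply Units.ext
      rw [map_mul, map_mul, Units.val_mul, Units.val_mul]
      calc (φ g : A) * φ k = (φ k : A) * φ g * ((φ k)⁻¹ : Aˣ) * φ k := by rw [h2]
        _ = φ k * φ g := by rw [mul_assoc, Units.inv_mul, mul_one]
  let e : (K ⧸ Subgroup.center K) ≃* F.S :=
    (QuotientGroup.quotientMulEquivOfEq hker).trans (QuotientGroup.quotientKerEquivOfSurjective f hf)
  have he : ∀ k : K, e.symm (f k) = QuotientGroup.mk k := fun k => by
    rw [MulEquiv.symm_apply_eq]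
    rfl
  refine ⟨F, e.symm, hss, hspan, fun β hβ => ?_⟩
  obtain ⟨γ, hγ, h⟩ := hΓ β hβ
  refine ⟨γ, hγ, fun s t hst => ?_⟩
  obtain ⟨k, rfl⟩ := hf s
  obtain ⟨k', h1, h2⟩ := h k
  have h3 : t = f k' := by
    apply Subtype.ext
    rw [hst]
    change γ * DS.Cl.cj A (φ k) * γ⁻¹ = DS.Cl.cj A (φ k')
    ext x
    have h4 : γ (((φ k)⁻¹ : Aˣ) : A) = ((φ k')⁻¹ : Aˣ) := by
      have h5 : (φ k' : A) * γ (((φ k)⁻¹ : Aˣ) : A) = 1 := by
        rw [← h2, ← map_mul, Units.mul_inv, map_one]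
      exact (Units.eq_inv_of_mul_eq_one_left h5)
    change γ (DS.Cl.cj A (φ k) (γ.symm x)) = _
    rw [cj_apply, cj_apply, map_mul, map_mul, h2, h4, RingEquiv.apply_symm_apply]
  rw [h3, he, he, h1]

end general

section L

open Cfsg.Agent.ClassicalGeometry.AutPSL.Auto (fld itr lift)
open scoped Matrix

theorem modL (F : Type) [Field F] [Fintype F] (n : ℕ) (hn : 2 ≤ n) (hn2 : n = 2 → 4 ≤ Fintype.card F) :
    ModelOn (LR (Fin n) F) (Matrix.ProjectiveSpecialLinearGroup (Fin n) F) Set.univ := by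
  have hnt : Nontrivial (Fin n) := Fin.nontrivial_iff_two_le.2 hn
  let R : FR (LR (Fin n) F) := ⟨LR.mk 1 0, Lmax _, LR.half, Or.inr rfl⟩
  let φ : Matrix.SpecialLinearGroup (Fin n) F →* (LR (Fin n) F)ˣ := LR.gl.comp Matrix.SpecialLinearGroup.toGL
  have hφ : ∀ k, (φ k : LR (Fin n) F) = LR.mk k.1 (itr k).1 := fun k => by
    change (LR.gl (Matrix.SpecialLinearGroup.toGL k) : LR (Fin n) F) = _
    rw [LR.gl_val, ← map_inv]
    rfl
  have hinj : Function.Injective φ := fun A B H => Subtype.ext (congrArg (fun u : (LR (Fin n) F)ˣ => u.1.1) H)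
  have hr : (LR.gl (ι := Fin n) (F := F)).range = R.Iso := by
    ext u
    rw [LR.mem_gl]
    exact ⟨fun hu => mem_Iso_max rfl hu, fun hu => hu.1⟩
  have hc : φ.range = ⁅R.Iso, R.Iso⁆ := by
    have h1 : n = 2 → ∃ a : F, a ≠ 0 ∧ a ≠ 1 := fun h2 => by
      classical
      by_contra H
      push Not at H
      have h3 : (Finset.univ : Finset F) ⊆ {0, 1} := fun a _ => by
        by_cases ha : a = 0
        · simp [ha]
        · simp [H a ha]
      have h4 := (Finset.card_le_card h3).trans Finset.card_le_two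
      have h5 := hn2 h2
      rw [Finset.card_univ] at h4
      omega
    rw [← hr, comm_range, Cfsg.Agent.S0264.result n h1, MonoidHom.range_comp]
    congr 1
    ext A
    constructor
    · rintro ⟨k, rfl⟩
      exact Units.ext k.2
    · intro hA
      exact ⟨⟨A, congrArg Units.val (MonoidHom.mem_ker.1 hA)⟩, Units.ext rfl⟩
  have hspan : R.Span := by
    rw [FR.Span, eq_top_iff]
    intro x _
    obtain ⟨a, b, rfl⟩ := LR.exists_mk x
    set S := Subring.closure ((Subring.center (LR (Fin n) F) : Set (LR (Fin n) F)) ∪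
      ((fun u : (LR (Fin n) F)ˣ => (u : LR (Fin n) F)) '' (⁅R.Iso, R.Iso⁆ : Subgroup (LR (Fin n) F)ˣ))) with hS
    have h1 : (LR.mk 1 0 : LR (Fin n) F) ∈ S := Subring.subset_closure (Or.inl (Subring.mem_center_iff.2 fun g => by
      obtain ⟨c, d, rfl⟩ := LR.exists_mk g
      rw [LR.mk_mul, LR.mk_mul, mul_one, one_mul, mul_zero, zero_mul]))
    have h2 : (LR.mk 0 1 : LR (Fin n) F) ∈ S := Subring.subset_closure (Or.inl (Subring.mem_center_iff.2 fun g => by
      obtain ⟨c, d, rfl⟩ := LR.exists_mk g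
      rw [LR.mk_mul, LR.mk_mul, mul_one, one_mul, mul_zero, zero_mul]))
    have h3 : ∀ i j, i ≠ j → ∀ c : F, LR.mk (Matrix.single i j c) (Matrix.single j i (-c)) ∈ S := fun i j hij c => by
      have h4 : (φ (Matrix.SpecialLinearGroup.transvection hij c) : LR (Fin n) F) ∈ S :=
        Subring.subset_closure (Or.inr ⟨_, by rw [← hc]; exact ⟨_, rfl⟩, rfl⟩)
      have h5 := S.sub_mem h4 S.one_mem
      rw [hφ, Cfsg.Agent.ClassicalGeometry.AutPSL.Auto.itr_transvection, LR.one_eq, LR.mk_sub] at h5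
      change LR.mk (1 + Matrix.single i j c - 1) (1 + Matrix.single j i (-c) - 1) ∈ S at h5
      rwa [add_sub_cancel_left, add_sub_cancel_left] at h5
    have h4 : LR.mk a 0 ∈ S := by
      refine mat_ind (fun a => LR.mk a 0 ∈ S) S.zero_mem (fun a b ha hb => ?_) (fun a b ha hb => ?_)
        (fun i j hij c => ?_) a
      · have h5 := S.add_mem ha hb
        rwa [LR.mk_add, add_zero] at h5
      · have h5 := S.mul_mem ha hb
        rwa [LR.mk_mul, mul_zero] at h5
      · have h5 := S.mul_mem h1 (h3 i j hij c)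
        rwa [LR.mk_mul, one_mul, zero_mul] at h5
    have h5 : LR.mk 0 b ∈ S := by
      refine mat_ind (fun a => LR.mk 0 a ∈ S) S.zero_mem (fun a b ha hb => ?_) (fun a b ha hb => ?_)
        (fun i j hij c => ?_) b
      · have h5 := S.add_mem ha hb
        rwa [LR.mk_add, add_zero] at h5
      · have h5 := S.mul_mem ha hb
        rwa [LR.mk_mul, mul_zero] at h5
      · have h5 := S.mul_mem h2 (h3 j i hij.symm (-c))
        rwa [LR.mk_mul, one_mul, zero_mul, neg_neg] at h5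
    have h6 := S.add_mem h4 h5
    rwa [LR.mk_add, add_zero, zero_add] at h6
  let P : MulAut (Matrix.SpecialLinearGroup (Fin n) F) → Prop := fun e =>
    ∃ γ ∈ SAut (LR (Fin n) F), ∀ k, γ (φ k : LR (Fin n) F) = φ (e k)
  have hmul : ∀ e e', P e → P e' → P (e * e') := by
    rintro e e' ⟨γ, hγ, h⟩ ⟨γ', hγ', h'⟩
    refine ⟨γ * γ', mul_mem hγ hγ', fun k => ?_⟩
    change γ (γ' _) = _
    rw [h', h]
    rfl
  have hcj : ∀ A, P (Cfsg.Agent.ClassicalGeometry.AutPSL.Auto.cj A) := fun A => by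
    refine ⟨DS.Cl.cj _ (LR.gl A), cj_mem_SAut ((LR.mem_gl _).1 ⟨A, rfl⟩), fun k => ?_⟩
    change ((LR.gl A * LR.gl (Matrix.SpecialLinearGroup.toGL k) * (LR.gl A)⁻¹ : (LR (Fin n) F)ˣ) : LR (Fin n) F) =
      (LR.gl (Matrix.SpecialLinearGroup.toGL (Cfsg.Agent.ClassicalGeometry.AutPSL.Auto.cj A k)) : (LR (Fin n) F)ˣ)
    rw [← map_inv, ← map_mul, ← map_mul]
    exact congrArg (fun B : GL (Fin n) F => (LR.gl B : LR (Fin n) F)) (Units.ext rfl)
  have hfld : ∀ σ, P (fld σ) := fun σ => by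
    refine ⟨LR.fldAut σ, fun a => rfl, fun k => ?_⟩
    rw [hφ, hφ]
    have h1 : (itr (fld σ k)).1 = σ.mapMatrix (itr k).1 := by
      rw [Cfsg.Agent.ClassicalGeometry.AutPSL.Auto.coe_itr, ← map_inv]
      rfl
    rw [h1]
    rfl
  have hitr : P itr := by
    refine ⟨LR.swapAut, fun a => rfl, fun k => ?_⟩
    have h1 : itr (itr k) = k := by
      rw [← MulAut.mul_apply, Cfsg.Agent.ClassicalGeometry.AutPSL.Auto.itr_mul_itr, MulAut.one_apply]
    rw [hφ, hφ, h1]
    rfl
  refine modelOn_of R LR.ss hspan φ hinj hc _ ?_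
  intro β _
  obtain ⟨e, he, rfl⟩ : ∃ e, P e ∧ β = lift e := by
    obtain ⟨p, hp⟩ := CharP.exists F
    have hprime : Fact p.Prime := ⟨CharP.char_is_prime F p⟩
    rcases Nat.lt_or_ge n 3 with h | h
    · obtain rfl : n = 2 := by omega
      obtain ⟨A, σ, hA⟩ := Cfsg.Agent.ClassicalGeometry.AutPSL.Main.surj_two p β
      exact ⟨_, hmul _ _ (hcj A) (hfld σ), hA⟩
    · rcases Cfsg.Agent.ClassicalGeometry.AutPSL.Main.surj_three p h β with ⟨A, σ, hA⟩ | ⟨A, σ, hA⟩
      · exact ⟨_, hmul _ _ (hcj A) (hfld σ), hA⟩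
      · exact ⟨_, hmul _ _ (hmul _ _ (hcj A) (hfld σ)) hitr, hA⟩
  obtain ⟨γ, hγ, h⟩ := he
  exact ⟨γ, mem_Aut_max rfl hγ, fun k => ⟨e k, rfl, h k⟩⟩

end L

section U

open Cfsg.Agent.LieClassical.HermBasic Cfsg.Agent.LieClassical.HermSiegel
open Cfsg.Agent.ClassicalGeometry.PSUAutCount (gm semiConj toAut act_semiConj herm_semi gm_inv_mulVec gm_mulVec_inv
  toAut_pr)
open scoped Matrix commutatorElement

theorem modU (F : Type) [Field F] [Fintype F] (n q : ℕ) (hF : Fintype.card F = q ^ 2) (hn : 3 ≤ n)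
    (h32 : ¬ (n = 3 ∧ q = 2)) : ModelOn (unH n hF).EB (PSU n F q) Set.univ := by
  have hnt : Nontrivial (Fin n → F) := by
    have : Nonempty (Fin n) := ⟨⟨0, by omega⟩⟩
    infer_instance
  let h := unH n hF
  obtain ⟨c, hc1⟩ := exists_trace_eq hF (one_pow q)
  have hll : h.eb (c • 1) + star (h.eb (c • 1)) = 1 := h.ap_ext fun v => h.ext_right fun u => by
    rw [h.ap_add, h.add_right, h.b_star, h.ap_one, h.ap_eb, LinearMap.smul_apply, LinearMap.smul_apply,
      h.smul_right, h.smul_left]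
    change c ^ q * h.b u v + c * h.b u v = h.b u v
    rw [← add_mul, add_comm, hc1, one_mul]
  let R : FR h.EB := ⟨h.eb (c • 1), Lmax h.EB, hll, Or.inr rfl⟩
  let φ₀ : SU n F q →* Matrix (Fin n) (Fin n) F := ⟨⟨mat, mat_one⟩, mat_mul⟩
  let φ : SU n F q →* h.EBˣ := ((matHom h).comp φ₀).toHomUnits
  have hφ : ∀ A v, h.ap (φ A) v = act A v := fun A v => rfl
  have hinj : Function.Injective φ := fun A B H => mat_injective (matHom_inj h (congrArg Units.val H))
  have hle : φ.range ≤ R.Iso := by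
    rintro _ ⟨A, rfl⟩
    exact mem_Iso_max rfl ((h.unit_iff _).2 fun x y => herm_act A x y)
  have hc : φ.range = ⁅R.Iso, R.Iso⁆ := by
    apply le_antisymm
    · have e : φ.range = ⁅φ.range, φ.range⁆ := by
        rw [comm_range, Cfsg.Agent.LieClassical.HermPerfect.commutator_SU_eq_top hF hn h32,
          ← MonoidHom.range_eq_map]
      rw [e]
      exact Subgroup.commutator_mono hle hle
    · rw [Subgroup.commutator_le]
      intro a ha b hb
      have hu : ⁅a, b⁆ ∈ R.Iso := by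
        rw [commutatorElement_def]
        exact mul_mem (mul_mem (mul_mem ha hb) (inv_mem ha)) (inv_mem hb)
      have hd : detU h ⁅a, b⁆ = 1 := by
        rw [map_commutatorElement, commutatorElement_eq_one_iff_mul_comm, mul_comm]
      have h1 := (h.unit_iff _).1 hu.1
      refine ⟨mkSU (LinearMap.toMatrix' (h.ap (⁅a, b⁆ : h.EBˣ))) ?_ fun x y => ?_, Units.ext (matHom_surj h _)⟩
      · rw [LinearMap.det_toMatrix', ← detU_val, hd, Units.val_one]
      · rw [LinearMap.toMatrix'_mulVec, LinearMap.toMatrix'_mulVec]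
        exact h1 x y
  have hspan : R.Span := by
    obtain ⟨e, f, H⟩ := Cfsg.Agent.ClassicalGeometry.PSUAutBasic.exists_frame (F := F) (q := q) (n := n) hF (by omega)
    have he : e ≠ 0 := by
      rintro rfl
      exact zero_ne_one ((herm_zero_left f).symm.trans H.ef)
    obtain ⟨μ, hμ0, hμ⟩ := exists_trace_zero_ne hF
    refine h.span_top _ (fun c => Subring.subset_closure (Or.inl (h.smul_mem_center c)))
      {x | x ≠ 0 ∧ hermForm n F q x x = 0} ⟨e, he, H.ee⟩
      (fun x hx => hx.1) (fun x hx => ?_) (fun x hx v hv => ?_)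
    · have hs : IsSiegel q x 0 μ := ⟨hx.2, herm_zero_left x, by rw [herm_zero_left, add_zero, hμ]⟩
      have e1 : h.eb (h.ro x x) = h.eb (μ⁻¹ • 1) * ((φ (siegel hF x 0 μ hs) : h.EB) - 1) := h.ap_ext fun v => by
        rw [h.ap_mul, h.ap_sub, hφ, h.ap_one, h.ap_eb, h.ap_eb, h.ro_apply, act_siegel, smul_zero, add_zero,
          herm_zero_right hF, sub_zero, add_sub_cancel_left, LinearMap.smul_apply, Module.End.one_apply, smul_smul,
          ← mul_assoc, inv_mul_cancel₀ hμ0, one_mul]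
        rfl
      rw [e1]
      refine Subring.mul_mem _ (Subring.subset_closure (Or.inl (h.smul_mem_center _))) (Subring.sub_mem _
        (Subring.subset_closure (Or.inr ⟨φ (siegel hF x 0 μ hs), ?_, rfl⟩)) (Subring.one_mem _))
      rw [← hc]
      exact ⟨_, rfl⟩
    · have hv' : hermForm n F q v x ≠ 0 := hv
      have hxv : hermForm n F q x v ≠ 0 := h.ne_swap hv
      obtain ⟨t, ht⟩ := exists_trace_eq hF (c := -hermForm n F q v v) (by rw [neg_pow_q hF, herm_self_pow hF])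
      have h1 : hermForm n F q (v + (t / hermForm n F q x v) • x) x = hermForm n F q v x := by
        rw [herm_add_left, herm_smul_left, hx.2, mul_zero, add_zero]
      refine ⟨t / hermForm n F q x v, ⟨fun h0 => hv' ?_, ?_⟩, fun h0 => hv' (h1.symm.trans h0)⟩
      · rw [← h1, h0, herm_zero_left]
      · rw [herm_add_right hF, herm_smul_right, h1, herm_add_left, herm_smul_left, div_mul_cancel₀ _ hxv,
          herm_swap hF x v, ← mul_pow, div_mul_cancel₀ _ hxv, add_assoc, ht, add_neg_cancel]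
  refine modelOn_of R h.ss hspan φ hinj hc _ ?_
  intro β _
  obtain ⟨A, ρ, rfl⟩ := Cfsg.Agent.ClassicalGeometry.PSUAutMain.exists_toAut hF hn h32 β
  let g : Equiv.Perm (Fin n → F) :=
    { toFun := fun x => gm A *ᵥ fun i => ρ (x i)
      invFun := fun y j => ρ.symm ((gm A⁻¹ *ᵥ y) j)
      left_inv := fun x => by
        funext j
        change ρ.symm ((gm A⁻¹ *ᵥ (gm A *ᵥ fun i => ρ (x i))) j) = x j
        rw [gm_inv_mulVec, ρ.symm_apply_apply]
      right_inv := fun y => by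
        simp only [RingEquiv.apply_symm_apply]
        exact gm_mulVec_inv A y }
  have ha : ∀ u v, g (u + v) = g u + g v := fun u v => by
    change gm A *ᵥ _ = gm A *ᵥ _ + gm A *ᵥ _
    rw [← Matrix.mulVec_add]
    congr 1
    funext i
    exact map_add ρ _ _
  have hs : ∀ (c : F) v, g (c • v) = ρ c • g v := fun c v => by
    change gm A *ᵥ _ = ρ c • gm A *ᵥ _
    rw [← Matrix.mulVec_smul]
    congr 1
    funext i
    exact map_mul ρ _ _
  refine ⟨h.semiAut g ρ ha hs, mem_Aut_max rfl (h.semiAut_mem g ρ ha hs (c := 1) fun u v => ?_),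
    fun k => ⟨semiConj A ρ k, toAut_pr A ρ k, h.ap_ext fun v => ?_⟩⟩
  · rw [one_mul]
    exact herm_semi A ρ u v
  · obtain ⟨v, rfl⟩ := g.surjective v
    rw [h.ap_semiAut, hφ, hφ]
    exact (act_semiConj A ρ k v).symm

end U

section Sp

open Cfsg.Agent.ClassicalGeometry.SympBasic Cfsg.Agent.ClassicalGeometry.SympAutSemi
open scoped Matrix

theorem modSp (F : Type) [Field F] [Fintype F] (m : ℕ) (hm : 2 ≤ m) (hm2 : m = 2 → 3 ≤ Fintype.card F) :
    ModelOn (spH m F).EB (PSp m F) (Cfsg.Agent.ClassicalGeometry.SympAutSemi.Psi m F).range := by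
  have hnt : Nontrivial (Fin m ⊕ Fin m → F) := by
    have : Nonempty (Fin m ⊕ Fin m) := ⟨Sum.inl ⟨0, by omega⟩⟩
    infer_instance
  let h := spH m F
  obtain ⟨β, hβ⟩ := exists_half (sympBilin m F) (fun v => sympForm_self v)
  obtain ⟨l, hl⟩ := h.exists_op (fun _ => rfl) β
  have hll : l + star l = 1 := h.ap_ext fun v => h.ext_right fun u => by
    rw [h.ap_add, h.add_right, h.b_star, hl, h.swap v (h.ap l u), hl, h.ap_one]
    change β u v + -1 * β v u = sympBilin m F u v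
    rw [← hβ]
    ring
  let R : FR h.EB := ⟨l, Lmax h.EB, hll, Or.inr rfl⟩
  let φ : Matrix.symplecticGroup (Fin m) F →* h.EBˣ :=
    ((matHom h).comp (Matrix.symplecticGroup (Fin m) F).subtype).toHomUnits
  have hφ : ∀ A v, h.ap (φ A) v = (A : Matrix _ _ F) *ᵥ v := fun A v => rfl
  have hinj : Function.Injective φ := fun A B H => Subtype.ext (matHom_inj h (congrArg Units.val H))
  have hr : φ.range = R.Iso := by
    ext u
    constructor
    · rintro ⟨A, rfl⟩
      exact mem_Iso_max rfl ((h.unit_iff _).2 fun x y => sympForm_mulVec A.2 x y)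
    · intro hu
      have h1 := (h.unit_iff u).1 hu.1
      refine ⟨⟨LinearMap.toMatrix' (h.ap u), mem_symplecticGroup_iff.2 fun x y => ?_⟩, Units.ext (matHom_surj h u)⟩
      rw [LinearMap.toMatrix'_mulVec, LinearMap.toMatrix'_mulVec]
      exact h1 x y
  have hperf : commutator (Matrix.symplecticGroup (Fin m) F) = ⊤ := by
    refine Cfsg.Agent.LieClassical.SympPerfect.commutator_eq_top ?_
    rcases (by omega : m = 2 ∨ 3 ≤ m) with h | h
    · exact Or.inr (Or.inl ⟨h, hm2 h⟩)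
    · exact Or.inl h
  have hc : φ.range = ⁅R.Iso, R.Iso⁆ := by
    rw [← hr, comm_range, hperf, ← MonoidHom.range_eq_map]
  have hspan : R.Span := by
    refine h.span_top _ (fun c => Subring.subset_closure (Or.inl (h.smul_mem_center c))) {x | x ≠ 0}
      (exists_ne 0) (fun x hx => hx) (fun x _ => ?_) (fun x _ v hv => ⟨0, ?_, by rwa [zero_smul, add_zero]⟩)
    · have e : h.eb (h.ro x x) = (φ (transv x 1) : h.EB) - 1 := h.ap_ext fun v => by
        rw [h.ap_sub, hφ, h.ap_one, h.ap_eb, h.ro_apply]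
        change _ = sympTransvection m x 1 *ᵥ v - v
        rw [sympTransvection_mulVec, one_mul, add_sub_cancel_left]
        rfl
      rw [e]
      refine Subring.sub_mem _ (Subring.subset_closure (Or.inr ⟨φ (transv x 1), ?_, rfl⟩)) (Subring.one_mem _)
      rw [← hc]
      exact ⟨_, rfl⟩
    · rw [zero_smul, add_zero]
      rintro rfl
      exact hv (h.zero_left x)
  refine modelOn_of R h.ss hspan φ hinj hc _ ?_
  rintro _ ⟨g, rfl⟩
  obtain ⟨σ, c, -, hg⟩ := g.2
  refine ⟨h.semiAut g.1 σ hg.1 hg.2.1, mem_Aut_max rfl (h.semiAut_mem g.1 σ hg.1 hg.2.1 hg.2.2),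
    fun A => ⟨Cfsg.Agent.ClassicalGeometry.SympAutSemi.conjHom m F g A, Psi_mk g A, h.ap_ext fun v => ?_⟩⟩
  obtain ⟨v, rfl⟩ := g.1.surjective v
  rw [h.ap_semiAut, hφ, hφ, ← rho_apply, ← rho_apply, rho_conjHom, Equiv.Perm.mul_apply, Equiv.Perm.mul_apply,
    perm_inv_apply_self]

end Sp

section O

open QuadraticMap Cfsg.Agent.LieClassical.OrthCore Cfsg.Agent.LieClassical.OrthTrans
  Cfsg.Agent.ClassicalGeometry.OrthSemi

theorem modO (F V : Type) [Field F] [Finite F] [AddCommGroup V] [Module F V] [Finite V] (Q : QuadraticForm F V)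
    (hG : Good Q) : ModelOn (orH Q hG.nondeg).EB (↥(E Q) ⧸ Subgroup.center ↥(E Q)) (Psi Q).range := by
  have : Module.Finite F V := Module.Finite.of_finite
  obtain ⟨x₀, hx₀, hQx₀⟩ := hG.sing
  have hnt : Nontrivial V := ⟨x₀, 0, hx₀⟩
  let h := orH Q hG.nondeg
  obtain ⟨β, hβ⟩ := LinearMap.BilinMap.toQuadraticMap_surjective Q
  obtain ⟨l, hl⟩ := h.exists_op (fun _ => rfl) β
  have hlQ : ∀ v, polar Q v (h.ap l v) = Q v := fun v => by
    rw [← hβ]
    rw [LinearMap.BilinMap.toQuadraticMap_apply, hβ]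
    exact hl v v
  have hll : l + star l = 1 := h.ap_ext fun v => h.ext_right fun u => by
    rw [h.ap_add, h.add_right, h.b_star, hl, h.swap v (h.ap l u), hl, h.ap_one]
    change β u v + 1 * β v u = polar Q u v
    rw [one_mul, ← hβ, LinearMap.BilinMap.polar_toQuadraticMap]
  let R : FR h.EB := ⟨l, Lmin h.EB, hll, Or.inl rfl⟩
  let ψ₀ : (V ≃ₗ[F] V) →* h.EB :=
    { toFun := fun g => h.eb g
      map_one' := rfl
      map_mul' := fun _ _ => rfl }
  let ψ : (V ≃ₗ[F] V) →* h.EBˣ := ψ₀.toHomUnits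
  have hψ : ∀ g v, h.ap (ψ g) v = g v := fun g v => rfl
  have hinj : Function.Injective ψ := fun g g' H => LinearEquiv.ext fun v => by rw [← hψ, ← hψ, H]
  have hr : (O Q).map ψ = R.Iso := by
    ext u
    constructor
    · rintro ⟨g, hg, rfl⟩
      have hg' : ∀ v, Q (g v) = Q v := hg
      have h1 : ∀ x y, h.b (h.ap (ψ g) x) (h.ap (ψ g) y) = h.b x y := fun x y => by
        change polar Q (g x) (g y) = polar Q x y
        simp only [polar, ← map_add, hg']
      have h2 := (h.unit_iff _).2 h1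
      refine ⟨h2, (mem_Lmin_iff Q hG.nondeg _).2 fun v => ?_⟩
      change h.b v (h.ap (ψ g * l * star (ψ g : h.EB) - l) v) = 0
      rw [h.ap_sub, h.sub_right, h.ap_mul, h.ap_mul, ← h.star_b]
      change polar Q _ _ - polar Q _ _ = 0
      rw [hlQ, hlQ, ← hg', ← hψ, ← h.ap_mul, h2, h.ap_one, sub_self]
    · intro hu
      have h1 := (mem_Lmin_iff Q hG.nondeg _).1 hu.2
      let g : V ≃ₗ[F] V := LinearEquiv.ofLinearMap (h.ap u) (h.ap (u⁻¹ : h.EBˣ))
        (LinearMap.ext fun v => by rw [LinearMap.comp_apply, ← h.ap_mul, Units.mul_inv]; rfl)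
        (LinearMap.ext fun v => by rw [LinearMap.comp_apply, ← h.ap_mul, Units.inv_mul]; rfl)
      refine ⟨g, fun v => ?_, Units.ext (h.ap_ext fun v => rfl)⟩
      have h2 : h.b (h.ap u v) (h.ap (u * l * star (u : h.EB) - l) (h.ap u v)) = 0 := h1 (h.ap u v)
      have h3 : star (u : h.EB) * u = 1 := by
        have h4 : star (u : h.EB) = (u⁻¹ : h.EBˣ) := Units.eq_inv_of_mul_eq_one_left hu.1
        rw [h4, Units.inv_mul]
      rw [h.ap_sub, h.sub_right, h.ap_mul, h.ap_mul, ← h.star_b, ← h.ap_mul (star (u : h.EB)), h3, h.ap_one] at h2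
      change polar Q _ _ - polar Q _ _ = 0 at h2
      rw [hlQ, hlQ, sub_eq_zero] at h2
      exact h2.symm
  let φ : E Q →* h.EBˣ := ψ.comp (E Q).subtype
  have hc : φ.range = ⁅R.Iso, R.Iso⁆ := by
    rw [← hr, ← Subgroup.map_commutator, hG.commutator_eq_E, MonoidHom.range_comp, Subgroup.range_subtype]
  have hspan : R.Span := by
    refine h.span_top _ (fun c => Subring.subset_closure (Or.inl (h.smul_mem_center c))) {x | x ≠ 0 ∧ Q x = 0}
      ⟨x₀, hx₀, hQx₀⟩ (fun x hx => hx.1) (fun x hx => ?_) (fun x hx v hv => ?_)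
    · obtain ⟨y, hy⟩ := exists_hyp hG.nondeg hx.2 hx.1
      obtain ⟨z, w, hzw, h1, h2, -, -⟩ := hG.exists_hyp2 hy
      have hmem : ∀ (s : V) (hs : polar Q x s = 0), (ψ (siegel Q x s hx.2 hs) : h.EB) - 1 ∈
          Subring.closure ((Subring.center h.EB : Set h.EB) ∪
            ((fun u : h.EBˣ => (u : h.EB)) '' (⁅R.Iso, R.Iso⁆ : Subgroup h.EBˣ))) := fun s hs => by
        refine Subring.sub_mem _ (Subring.subset_closure (Or.inr ⟨ψ (siegel Q x s hx.2 hs), ?_, rfl⟩))
          (Subring.one_mem _)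
        rw [← hc]
        exact ⟨⟨_, siegel_mem_E hx.2 hs⟩, rfl⟩
      have hxx : polar Q x x = 0 := by rw [polar_self, hx.2, smul_zero]
      have hN : ∀ (s : V) (hs : polar Q x s = 0), Q s = 0 → ∀ v,
          h.ap ((ψ (siegel Q x s hx.2 hs) : h.EB) - 1) v = polar Q x v • s - polar Q s v • x := fun s hs hQs v => by
        rw [h.ap_sub, hψ, h.ap_one, siegel_apply, hQs, zero_mul, zero_smul]
        abel
      have e : h.eb (h.ro x x) = -(((ψ (siegel Q x z hx.2 h1) : h.EB) - 1) * ((ψ (siegel Q x w hx.2 h2) : h.EB) - 1)) := by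
        rw [eq_neg_iff_add_eq_zero]
        apply h.ap_ext
        intro v
        rw [h.ap_add, h.ap_mul, hN z h1 hzw.left, hN w h2 hzw.right, h.ap_eb, h.ro_apply, polar_sub_right,
          polar_sub_right, polar_smul_right, polar_smul_right, polar_smul_right, polar_smul_right, h2, hxx,
          hzw.pair, polar_comm Q z x, h1]
        change polar Q v x • x + _ = (0 : V)
        rw [polar_comm Q v x]
        simp
      rw [e]
      exact Subring.neg_mem _ (Subring.mul_mem _ (hmem z h1) (hmem w h2))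
    · have hv' : polar Q v x ≠ 0 := hv
      have hxx : polar Q x x = 0 := by rw [polar_self, hx.2, smul_zero]
      have h1 : polar Q (v + (-(Q v) / polar Q v x) • x) x = polar Q v x := by
        rw [polar_add_left, polar_smul_left, hxx, smul_zero, add_zero]
      refine ⟨-(Q v) / polar Q v x, ⟨fun h0 => hv' ?_, ?_⟩, fun h0 => hv' (h1.symm.trans h0)⟩
      · rw [← h1, h0, polar_zero_left]
      · rw [QuadraticMap.map_add (⇑Q), QuadraticMap.map_smul, hx.2, smul_zero, add_zero, polar_smul_right,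
          smul_eq_mul]
        field_simp
        ring
  refine modelOn_of R h.ss hspan φ (hinj.comp Subtype.val_injective) hc _ ?_
  rintro _ ⟨g, rfl⟩
  obtain ⟨σ, c, hg⟩ := g.2
  refine ⟨h.semiAut g.1 σ hg.add hg.smul, ⟨h.semiAut_mem g.1 σ hg.add hg.smul hg.polar,
    (mem_Lmin_iff Q hG.nondeg _).2 fun v => ?_⟩, fun k => ⟨conjE Q g k, Psi_mk g k, h.ap_ext fun v => ?_⟩⟩
  · obtain ⟨v, rfl⟩ := g.1.surjective v
    change h.b (g.1 v) (h.ap (h.semiAut g.1 σ hg.add hg.smul l - l) (g.1 v)) = 0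
    rw [h.ap_sub, h.sub_right, h.ap_semiAut]
    change polar Q _ _ - polar Q _ _ = 0
    rw [hg.polar, hlQ, hlQ, hg.form, sub_self]
  · obtain ⟨v, rfl⟩ := g.1.surjective v
    rw [h.ap_semiAut]
    exact (conjLin_apply' g k.1 v).symm

end O

end Cfsg.Agent.T44.Cl
end

-- part: T44/Red
section
set_option linter.all false
open scoped Cfsg.Agent.FastGrp

/-!
# S3544, local case: reduction to the almost simple configuration (helper36)
-/

set_option autoImplicit false

namespace Cfsg.Agent.T44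

open Subgroup Cfsg
open Cfsg.Agent.H717.Sims (Co Quo)

variable {G : Type*} [Group G]

/-- characteristic `r` -/
def ChR (r : ℕ) (X : Type*) [Group X] : Prop := centralizer (pCore r X : Set X) ≤ pCore r X

namespace ChR

variable {r : ℕ}

theorem of_equiv {X Y : Type*} [Group X] [Group Y] (e : X ≃* Y) (h : ChR r X) : ChR r Y := by
  intro y hy
  rw [← Lib.Cores.map_equiv_pCore e r] at hy ⊢
  refine ⟨e.symm y, h (mem_centralizer_iff.2 fun q hq => ?_), by simp⟩
  apply e.injective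
  have := mem_centralizer_iff.1 hy (e q) ⟨q, hq, rfl⟩
  simpa using this

theorem normal [Finite G] (hr : r.Prime) {L M : Subgroup G} (hL : L ≤ M) (hn : M ≤ normalizer (L : Set G))
    (h : ChR r M) : ChR r L := by
  have : Fact r.Prime := ⟨hr⟩
  have h1 : (L.subgroupOf M).Normal := (normal_subgroupOf_iff_le_normalizer hL).2 hn
  exact ChR.of_equiv (subgroupOfEquivOfLe hL)
    (H212.CharPInherit.centralizer_pCore_le h (L.subgroupOf M) (L.subgroupOf M) h1 le_rfl fun _ hx _ => hx)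

theorem cent {M : Subgroup G} (h : ChR r M) :
    M ⊓ centralizer (((pCore r M).map M.subtype : Subgroup G) : Set G) ≤ (pCore r M).map M.subtype := by
  rintro x ⟨hx, hc⟩
  refine ⟨⟨x, hx⟩, h (mem_centralizer_iff.2 fun q hq => Subtype.ext ?_), rfl⟩
  exact mem_centralizer_iff.1 hc q ⟨q, hq, rfl⟩

theorem ne_bot {M : Subgroup G} (h : ChR r M) (hM : M ≠ ⊥) : (pCore r M).map M.subtype ≠ ⊥ := by
  intro e
  apply hM
  have := h.cent
  rw [e] at this
  rw [eq_bot_iff]
  refine le_trans (le_inf le_rfl fun x _ => mem_centralizer_iff.2 fun q hq => ?_) this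
  rw [mem_bot.1 hq, one_mul, mul_one]

end ChR

theorem Cfg.chR {T H Q : Subgroup G} {r : ℕ} {Ya Yb : Set G} {da db : ℕ} (h : Cfg T H Q r Ya Yb da db) :
    ChR r (T ⊓ H : Subgroup G) := h.isO.cent_pCore h.cent

theorem Cfg.of_chR {T H : Subgroup G} {r : ℕ} {Ya Yb : Set G} {da db : ℕ} (normal : T.Normal) (coatom : IsCoatom H)
    (core : H.normalCore = ⊥) (prime : r.Prime) (ch : ChR r (T ⊓ H : Subgroup G)) (ne : T ⊓ H ≠ ⊥)
    (A : Dr T H Ya da) (B : Dr T H Yb db) (cop : da.Coprime db) (ra : ¬ r ∣ da) (rb : ¬ r ∣ db) :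
    Cfg T H ((pCore r (T ⊓ H : Subgroup G)).map (T ⊓ H).subtype) r Ya Yb da db :=
  ⟨normal, coatom, core, prime, isO_pCore r _, ch.ne_bot ne, ch.cent, A, B, cop, ra, rb⟩

/-! ### Images -/

section map

variable {G' : Type*} [Group G'] (φ : G →* G')

theorem cj_map (y : G) (A : Subgroup G) : cj (φ y) (A.map φ) = (cj y A).map φ := by
  ext x
  constructor
  · rintro ⟨_, ⟨a, ha, rfl⟩, rfl⟩
    exact ⟨y * a * y⁻¹, conj_mem_cj ha y, by simp⟩
  · rintro ⟨_, ⟨a, ha, rfl⟩, rfl⟩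
    exact ⟨φ a, ⟨a, ha, rfl⟩, by simp⟩

theorem relIndex_map_dvd (B M : Subgroup G) : (B.map φ).relIndex (M.map φ) ∣ B.relIndex M := by
  refine Dvd.dvd.trans (index_dvd_of_le (H := (B.subgroupOf M).map (φ.subgroupMap M)) ?_)
    (index_map_dvd _ (φ.subgroupMap_surjective M))
  rintro _ ⟨b, hb, rfl⟩
  exact ⟨b, hb, rfl⟩

variable {φ}

theorem map_inf_of {T A : Subgroup G} (hmem : ∀ t ∈ T, φ t ∈ A.map φ → t ∈ A) :
    T.map φ ⊓ A.map φ = (T ⊓ A).map φ := by
  refine le_antisymm ?_ (le_inf (map_mono inf_le_left) (map_mono inf_le_right))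
  rintro _ ⟨⟨t, ht, rfl⟩, h⟩
  exact ⟨t, ⟨ht, hmem t ht h⟩, rfl⟩

theorem Dr.map {T A : Subgroup G} {Y : Set G} {d : ℕ} (h : Dr T A Y d) (hmem : ∀ t ∈ T, φ t ∈ A.map φ → t ∈ A) :
    Dr (T.map φ) (A.map φ) (φ '' Y) d := by
  refine ⟨h.ne.image _, ?_, ?_, ?_, ?_, ?_⟩
  · rintro _ ⟨y, hy, rfl⟩
    exact ⟨y, h.mem y hy, rfl⟩
  · rintro _ ⟨y, hy, rfl⟩ e
    exact h.notMem y hy (hmem y (h.mem y hy) e)
  · rintro _ ⟨y, hy, rfl⟩
    exact ⟨y⁻¹, h.inv y hy, map_inv _ _⟩
  · rintro _ ⟨a, ha, rfl⟩ _ ⟨y, hy, rfl⟩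
    exact ⟨a * y * a⁻¹, h.conj a ha y hy, by simp⟩
  · rintro _ ⟨y, hy, rfl⟩
    rw [map_inf_of hmem, cj_map]
    exact (relIndex_map_dvd φ _ _).trans (h.idx y hy)

theorem ChR.map {r : ℕ} {M : Subgroup G} (h : ChR r M) (hinj : ∀ s ∈ M, ∀ t ∈ M, φ s = φ t → s = t) :
    ChR r (M.map φ) := by
  refine ChR.of_equiv (MulEquiv.ofBijective (φ.subgroupMap M) ⟨?_, φ.subgroupMap_surjective M⟩) h
  intro s t e
  exact Subtype.ext (hinj s s.2 t t.2 (congrArg Subtype.val e))

end map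

theorem Dr.subgroupOf {T A L : Subgroup G} {Y : Set G} {d : ℕ} (h : Dr T (A ⊓ L) Y d) (hT : T ≤ L) :
    Dr (T.subgroupOf L) (A.subgroupOf L) (L.subtype ⁻¹' Y) d := by
  obtain ⟨y0, hy0⟩ := h.ne
  refine ⟨⟨⟨y0, hT (h.mem y0 hy0)⟩, hy0⟩, fun y hy => h.mem y hy, fun y hy e => h.notMem y hy ⟨e, y.2⟩,
    fun y hy => h.inv y hy, fun a ha y hy => h.conj a ⟨ha, a.2⟩ y hy, fun y hy => ?_⟩
  have e1 : cj y (A.subgroupOf L) = (cj (y : G) (A ⊓ L)).subgroupOf L := by
    ext x
    rw [mem_cj, mem_subgroupOf, mem_subgroupOf, mem_cj]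
    exact ⟨fun e => ⟨e, (y⁻¹ * x * y).2⟩, fun e => e.1⟩
  have e2 : T.subgroupOf L ⊓ A.subgroupOf L = (T ⊓ (A ⊓ L)).subgroupOf L := by
    ext x
    simp only [mem_inf, mem_subgroupOf]
    exact ⟨fun e => ⟨e.1, e.2, x.2⟩, fun e => ⟨e.1, e.2.1⟩⟩
  rw [e1, e2, relIndex_subgroupOf (inf_le_left.trans hT)]
  exact h.idx y hy

/-! ### Descent to a normal subgroup -/

section descent

variable [Finite G] {T H Q : Subgroup G} {r : ℕ} {Ya Yb : Set G} {da db : ℕ}

omit [Finite G] in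
theorem exists_mul_of_normal (h : Cfg T H Q r Ya Yb da db) {N : Subgroup G} [hN : N.Normal] (hNb : N ≠ ⊥) (g : G) :
    ∃ n ∈ N, ∃ a ∈ H, n * a = g := by
  have hsup : N ⊔ H = ⊤ := by
    apply h.coatom.2
    refine lt_of_le_of_ne le_sup_right fun e => hNb ?_
    rw [eq_bot_iff, ← h.core]
    exact normal_le_normalCore.2 (by rw [e]; exact le_sup_left)
  have : g ∈ N ⊔ H := by rw [hsup]; trivial
  exact mem_sup_of_normal_left.1 this

theorem Cfg.inf_ne (h : Cfg T H Q r Ya Yb da db) {N : Subgroup G} [hN : N.Normal] (hNb : N ≠ ⊥) : N ⊓ H ≠ ⊥ := by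
  intro e
  obtain ⟨y, hy⟩ := h.A.ne
  obtain ⟨n, hn, a, ha, rfl⟩ := exists_mul_of_normal h hNb y
  have h1 := h.Q_le_cj hy
  rw [cj_mul, cj_of_mem ha] at h1
  have h2 : n ∈ centralizer (Q : Set G) := by
    rw [mem_centralizer_iff]
    intro q hq
    have h3 : q⁻¹ * (n⁻¹ * q * n) ∈ N ⊓ H := by
      refine ⟨?_, H.mul_mem (H.inv_mem (h.Q_le_H hq)) (mem_cj.1 (h1 hq))⟩
      have := N.mul_mem (hN.conj_mem _ (N.inv_mem hn) q⁻¹) hn
      have e2 : q⁻¹ * n⁻¹ * q⁻¹⁻¹ * n = q⁻¹ * (n⁻¹ * q * n) := by group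
      rwa [e2] at this
    rw [e, mem_bot] at h3
    calc q * n = n * q * (q⁻¹ * (n⁻¹ * q * n)) := by group
      _ = n * q := by rw [h3, mul_one]
  exact h.A.notMem _ hy (H.mul_mem (h.cent_le h.Q_le_H h.Q_ne h.H_norm_Q h2) ha)

theorem Dr.descend {Y : Set G} {d : ℕ} (h : Dr T H Y d) {N : Subgroup G} [hN : N.Normal] (hNT : N ≤ T)
    (hmul : ∀ g : G, ∃ n ∈ N, ∃ a ∈ H, n * a = g) :
    Dr N H {n | n ∈ N ∧ ∃ a ∈ H, n * a ∈ Y} d := by
  obtain ⟨y0, hy0⟩ := h.ne
  refine ⟨?_, fun n hn => hn.1, ?_, ?_, ?_, ?_⟩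
  · obtain ⟨n, hn, a, ha, rfl⟩ := hmul y0
    exact ⟨n, hn, a, ha, hy0⟩
  · rintro n ⟨-, a, ha, hy⟩ e
    exact h.notMem _ hy (H.mul_mem e ha)
  · rintro n ⟨hn, a, ha, hy⟩
    refine ⟨N.inv_mem hn, a⁻¹, H.inv_mem ha, ?_⟩
    have := h.conj a ha _ (h.inv _ hy)
    have e : a * (n * a)⁻¹ * a⁻¹ = n⁻¹ * a⁻¹ := by group
    rwa [e] at this
  · rintro b hb n ⟨hn, a, ha, hy⟩
    refine ⟨hN.conj_mem _ hn b, b * a * b⁻¹, H.mul_mem (H.mul_mem hb ha) (H.inv_mem hb), ?_⟩
    have := h.conj b hb _ hy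
    have e : b * (n * a) * b⁻¹ = b * n * b⁻¹ * (b * a * b⁻¹) := by group
    rwa [e] at this
  · rintro n ⟨hn, a, ha, hy⟩
    have h1 := h.idx _ hy
    rw [cj_mul, cj_of_mem ha] at h1
    refine (H408.Core.relIndex_dvd_of_le_normalizer _ (inf_le_inf_right H hNT) ?_).trans h1
    exact norm_inf (norm_normal _ N) (inf_le_right.trans le_normalizer)

theorem Cfg.descend (h : Cfg T H Q r Ya Yb da db) {N : Subgroup G} [hN : N.Normal] (hNT : N ≤ T) (hNb : N ≠ ⊥) :
    ∃ (Q' : Subgroup G) (Ya' Yb' : Set G), Cfg N H Q' r Ya' Yb' da db :=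
  ⟨_, _, _, Cfg.of_chR hN h.coatom h.core h.prime
    (h.chR.normal h.prime (inf_le_inf_right H hNT) (norm_inf (norm_normal _ N) (inf_le_right.trans le_normalizer)))
    (h.inf_ne hNb) (h.A.descend hNT (exists_mul_of_normal h hNb)) (h.B.descend hNT (exists_mul_of_normal h hNb))
    h.cop h.ra h.rb⟩

end descent

/-! ### A non-abelian minimal normal subgroup -/

section socle

variable [Finite G] {N H Q : Subgroup G} {r : ℕ} {Ya Yb : Set G} {da db : ℕ} {m : ℕ} {T : Fin m → Subgroup G}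
  {pr : Fin m → G → G}

theorem false_of_subdirect (h : Cfg N H Q r Ya Yb da db) (c : Co N T pr)
    (hD : ∀ i, ∀ t ∈ T i, ∃ x ∈ N ⊓ H, pr i x = t) : False := by
  have : Fact r.Prime := ⟨h.prime⟩
  apply h.Q_ne
  rw [eq_bot_iff]
  intro q hq
  refine mem_bot.2 (c.ext q (h.Q_le_T hq) 1 N.one_mem fun i => ?_)
  rw [c.one]
  let f : N →* T i :=
    { toFun := fun x => ⟨pr i x, c.mem i x x.2⟩
      map_one' := Subtype.ext (c.one i)
      map_mul' := fun x y => Subtype.ext (c.mul i x x.2 y y.2) }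
  let X : Subgroup (T i) := (Q.subgroupOf N).map f
  have hXp : IsPGroup r X := IsPGroup.map h.isO.pg.comap_subtype f
  have hXn : X.Normal := by
    constructor
    rintro _ ⟨x, hx, rfl⟩ t
    obtain ⟨y, hy, e⟩ := hD i t t.2
    refine ⟨⟨y, hy.1⟩ * x * ⟨y, hy.1⟩⁻¹, conj_mem_of_norm h.isO.norm hy hx, ?_⟩
    rw [map_mul, map_mul, map_inv]
    have : f ⟨y, hy.1⟩ = t := Subtype.ext e
    rw [this]
  have := c.simple i
  rcases hXn.eq_bot_or_eq_top with e | e
  · have : f ⟨q, h.Q_le_T hq⟩ ∈ X := ⟨_, hq, rfl⟩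
    rw [e, mem_bot] at this
    exact congrArg Subtype.val this
  · exfalso
    rw [e] at hXp
    have h1 : IsPGroup r (T i) := hXp.of_equiv topEquiv
    have h2 := h1.isNilpotent
    have h3 : Group.IsSolvable (T i) := inferInstance
    obtain ⟨a, ha, b, hb, hab⟩ := c.nonab i
    exact hab (congrArg Subtype.val ((IsSimpleGroup.comm_iff_isSolvable.2 h3) ⟨a, ha⟩ ⟨b, hb⟩))

theorem dr_product [N.Normal] (c : Co N T pr) (hNA : N ⊔ H = ⊤) {Y : Set G} {d : ℕ}
    (h : Dr N H Y d) (i : Fin m) :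
    Dr (T i) (H ⊓ normalizer (T i : Set G)) {t | t ∉ H ∧ ∃ y ∈ Y, pr i y = t} d := by
  obtain ⟨y0, hy0⟩ := h.ne
  refine ⟨?_, ?_, fun t ht e => ht.1 e.1, ?_, ?_, ?_⟩
  · obtain ⟨j, hj⟩ : ∃ j, pr j y0 ∉ H := by
      by_contra hc
      push Not at hc
      exact h.notMem y0 hy0 (c.mem_of_pr H (h.mem y0 hy0) hc)
    obtain ⟨a, ha, e⟩ := c.transA hNA j i
    refine ⟨_, ?_, _, h.conj a ha y0 hy0, rfl⟩
    rw [c.pr_conj e (h.mem y0 hy0)]
    intro e'
    apply hj
    have := H.mul_mem (H.mul_mem (H.inv_mem ha) e') ha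
    have e2 : a⁻¹ * (a * pr j y0 * a⁻¹) * a = pr j y0 := by group
    rwa [e2] at this
  · rintro _ ⟨-, y, hy, rfl⟩
    exact c.mem i y (h.mem y hy)
  · rintro _ ⟨h1, y, hy, rfl⟩
    exact ⟨fun e => h1 (by simpa using H.inv_mem e), y⁻¹, h.inv y hy, c.inv i (h.mem y hy)⟩
  · rintro a ha _ ⟨h1, y, hy, rfl⟩
    refine ⟨fun e => h1 ?_, a * y * a⁻¹, h.conj a ha.1 y hy, c.pr_conj (cj_eq_iff.2 ha.2).symm (h.mem y hy)⟩
    have := H.mul_mem (H.mul_mem (H.inv_mem ha.1) e) ha.1
    have e2 : a⁻¹ * (a * pr i y * a⁻¹) * a = pr i y := by group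
    rwa [e2] at this
  · rintro _ ⟨h1, y, hy, rfl⟩
    have hyN := h.mem y hy
    have e1 : T i ⊓ (H ⊓ normalizer (T i : Set G)) = T i ⊓ H :=
      le_antisymm (inf_le_inf_left _ inf_le_left) (le_inf inf_le_left (le_inf inf_le_right
        (inf_le_left.trans le_normalizer)))
    have e2 : (cj (pr i y) (H ⊓ normalizer (T i : Set G))).subgroupOf (T i ⊓ H) = (cj y H).subgroupOf (T i ⊓ H) := by
      ext x
      rw [mem_subgroupOf, mem_subgroupOf, mem_cj, mem_cj]
      have h2 := c.conj_T (i := i) (N.inv_mem hyN) x.2.1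
      rw [inv_inv, c.inv i hyN, inv_inv] at h2
      rw [h2]
      refine ⟨fun e => e.1, fun e => ⟨e, le_normalizer ?_⟩⟩
      have h3 := c.mem i y hyN
      exact (T i).mul_mem ((T i).mul_mem ((T i).inv_mem h3) x.2.1) h3
    rw [e1, relIndex, e2]
    refine (H408.Core.relIndex_dvd_of_le_normalizer _ (inf_le_inf_right H (c.le i)) ?_).trans (h.idx y hy)
    exact norm_inf (norm_of_conj fun n hn t ht => c.norm i n hn.1 t ht) (inf_le_right.trans le_normalizer)

end socle

/-- the almost simple quotient -/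
theorem as_of_quo {L G' : Type*} [Group L] [Group G'] {φ : L →* G'} {T A : Subgroup L} (hQ : Quo φ T A) {r : ℕ}
    {Ya Yb : Set L} {da db : ℕ} (prime : r.Prime) (ch : ChR r (T ⊓ A : Subgroup L)) (hA : Dr T A Ya da)
    (hB : Dr T A Yb db) (cop : da.Coprime db) (ra : ¬ r ∣ da) (rb : ¬ r ∣ db) :
    ∃ Q : Subgroup G', AS (T.map φ) (A.map φ) Q r (φ '' Ya) (φ '' Yb) da db := by
  have hmem : ∀ t ∈ T, φ t ∈ A.map φ → t ∈ A := fun t ht => hQ.mem_of_map ht
  have ch' : ChR r (T.map φ ⊓ A.map φ : Subgroup G') := by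
    rw [map_inf_of hmem]
    exact ch.map fun s hs t ht => hQ.inj hs.1 ht.1
  have hne : T.map φ ⊓ A.map φ ≠ ⊥ := by
    intro e
    apply hQ.inter
    rw [eq_bot_iff]
    intro x hx
    have : φ x ∈ T.map φ ⊓ A.map φ := ⟨⟨x, hx.2, rfl⟩, ⟨x, hx.1, rfl⟩⟩
    rw [e, mem_bot, ← map_one φ] at this
    exact mem_bot.2 (hQ.inj hx.2 T.one_mem this)
  refine ⟨_, Cfg.of_chR hQ.norm' hQ.coatom hQ.core' prime ch' hne (hA.map hmem) (hB.map hmem) cop ra rb,
    hQ.simple', ?_, hQ.cent'⟩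
  intro hc
  obtain ⟨a, ha, b, hb, hab⟩ := hQ.nonab'
  exact hab (congrArg Subtype.val (hc.is_comm.comm ⟨a, ha⟩ ⟨b, hb⟩))

/-- **Reduction** to the almost simple configuration, in `Type` -/
theorem false_of_noAS₀ (no : NoAS) {G : Type} [Group G] [Finite G] {H Q : Subgroup G} {r : ℕ} {Ya Yb : Set G}
    {da db : ℕ} (h : Cfg ⊤ H Q r Ya Yb da db) : False := by
  obtain ⟨y0, hy0⟩ := h.A.ne
  have hnt : Nontrivial G := ⟨⟨1, y0, fun e => h.A.notMem y0 hy0 (e ▸ H.one_mem)⟩⟩
  obtain ⟨N, hN, hNb, hmin⟩ := H717.Sims.exists_minimal_normal G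
  obtain ⟨Q', Ya', Yb', h'⟩ := h.descend (N := N) le_top hNb
  have hcent := H717.Sims.centralizer_eq_bot h.coatom h.core h'.M_ne
  have hna : ¬ ∀ x ∈ N, ∀ y ∈ N, Commute x y := by
    intro e
    apply hNb
    rw [eq_bot_iff, ← hcent]
    intro x hx
    exact mem_centralizer_iff.2 fun y hy => e y hy x hx
  obtain ⟨m, T, pr, hm, c⟩ := H717.Sims.exists_co N hmin hna
  rcases c.dichotomy h.coatom with hP | hD
  · let i : Fin m := ⟨0, hm⟩
    have hQ := c.quo h.coatom h.core h'.sup_eq h'.M_ne hP i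
    have ch : ChR r (T i ⊓ H : Subgroup G) := h'.chR.normal h.prime (inf_le_inf_right H (c.le i))
      (norm_inf (norm_of_conj fun n hn t ht => c.norm i n hn.1 t ht) (inf_le_right.trans le_normalizer))
    have ch' : ChR r ((T i).subgroupOf (normalizer (T i : Set G)) ⊓ H.subgroupOf (normalizer (T i : Set G)) :
        Subgroup (normalizer (T i : Set G))) := by
      have e : (T i).subgroupOf (normalizer (T i : Set G)) ⊓ H.subgroupOf (normalizer (T i : Set G)) =
          (T i ⊓ H).subgroupOf (normalizer (T i : Set G)) := rfl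
      rw [e]
      exact ch.of_equiv (subgroupOfEquivOfLe (inf_le_left.trans le_normalizer)).symm
    obtain ⟨Q'', h''⟩ := as_of_quo hQ h.prime ch'
      ((dr_product c h'.sup_eq h'.A i).subgroupOf le_normalizer)
      ((dr_product c h'.sup_eq h'.B i).subgroupOf le_normalizer) h.cop h.ra h.rb
    exact no _ _ _ _ _ _ _ _ _ h'' trivial
  · exact false_of_subdirect h' c hD

/-- **Reduction** to the almost simple configuration -/
theorem false_of_noAS (no : NoAS) [Finite G] {H : Subgroup G} {r : ℕ} {Ya Yb : Set G} {da db : ℕ}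
    (coatom : IsCoatom H) (core : H.normalCore = ⊥) (prime : r.Prime) (ch : ChR r H) (ne : H ≠ ⊥)
    (A : Dr ⊤ H Ya da) (B : Dr ⊤ H Yb db) (cop : da.Coprime db) (ra : ¬ r ∣ da) (rb : ¬ r ∣ db) : False := by
  obtain ⟨G', _, _, ⟨e⟩⟩ := H149.S3527Core.exists_type0 G
  have hmem : ∀ t ∈ (⊤ : Subgroup G), e.toMonoidHom t ∈ H.map e.toMonoidHom → t ∈ H := by
    rintro t - ⟨s, hs, e'⟩
    rwa [← e.injective e']
  have A' := A.map hmem
  have B' := B.map hmem
  rw [map_top_of_surjective _ e.surjective] at A' B'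
  refine false_of_noAS₀ no (Cfg.of_chR inferInstance ?_ ?_ prime ?_ ?_ A' B' cop ra rb)
  · exact ((e.mapSubgroup).isCoatom_iff H).2 coatom
  · rw [eq_bot_iff]
    intro x hx
    obtain ⟨x, rfl⟩ := e.surjective x
    have : x ∈ H.normalCore := fun b => hmem _ trivial (by simpa using hx (e b))
    rw [core, mem_bot] at this
    rw [this, map_one]
    exact one_mem _
  · rw [top_inf_eq]
    exact ch.map fun s _ t _ e' => e.injective e'
  · rw [top_inf_eq]
    exact fun e' => ne ((map_eq_bot_iff_of_injective _ e.injective).1 e')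

end Cfsg.Agent.T44
end

-- part: R2/T3544/LemD
section
prune_inst 0xd52023440d62020000180592510020246c00019201600c01dd600f460207f3620d0329414d801c13183aab0800040008128000f000000000000004000800052188aa5200b348010426009f803087180c00000000000000000000000000041004200000000
set_option linter.all false
open scoped Cfsg.Agent.FastGrp

/-!
# S3544: Lemma D (helper1's argument): a chief factor in `N₂/C` has smaller weight
-/

set_option autoImplicit false
set_option linter.unusedSectionVars false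

namespace Cfsg.Agent.R2.T3544

open Subgroup
open scoped commutatorElement

variable {G : Type*} [Group G] [Finite G]

/-! ### index lemmas -/

theorem card_rel {H K : Subgroup G} (h : H ≤ K) : Nat.card H * H.relIndex K = Nat.card K := by
  rw [← Subgroup.relIndex_bot_left, ← Subgroup.relIndex_bot_left, Subgroup.relIndex_mul_relIndex _ _ _ bot_le h]

theorem card_inf_rel (A C : Subgroup G) : Nat.card ↥(C ⊓ A) * C.relIndex A = Nat.card A := by
  rw [← Subgroup.inf_relIndex_right, card_rel inf_le_right]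

theorem relIndex_sup_nr {A M : Subgroup G} (h : A ≤ normalizer (M : Set G)) :
    A.relIndex (A ⊔ M) = A.relIndex M := by
  have h0 := relIndex_sup_nl h
  have h1 := card_rel (le_sup_left : A ≤ A ⊔ M)
  have h2 := card_rel (le_sup_right : M ≤ A ⊔ M)
  have h3 := card_inf_rel M A
  have h4 := card_inf_rel A M
  rw [inf_comm] at h4
  rw [h0] at h2
  have h5 : 0 < Nat.card A := Nat.card_pos
  apply Nat.eq_of_mul_eq_mul_left h5
  rw [h1, ← h2, ← h3, ← h4]
  ring

theorem relIndex_dvd_nr {A M O : Subgroup G} (hA : A ≤ O) (hM : M ≤ O) (h : O ≤ normalizer (M : Set G)) :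
    A.relIndex M ∣ A.relIndex O := by
  rw [← relIndex_sup_nr (hA.trans h)]
  exact ⟨_, (relIndex_mul_relIndex A (A ⊔ M) O le_sup_left (sup_le hA hM)).symm⟩

theorem relIndex_dvd_nl {S E J : Subgroup G} (hE : E ≤ J) (h : J ≤ normalizer (S : Set G)) :
    S.relIndex E ∣ S.relIndex J := by
  have hn : (S.subgroupOf J).Normal := normal_subgroupOf_of_le_normalizer h
  have h1 := relIndex_dvd_index_of_normal (S.subgroupOf J) (E.subgroupOf J)
  rw [relIndex_subgroupOf hE] at h1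
  exact h1

theorem relIndex_pos (H K : Subgroup G) : 0 < H.relIndex K :=
  Nat.pos_of_ne_zero (Subgroup.index_ne_zero_of_finite (H := H.subgroupOf K))

/-- a strictly larger subgroup has a smaller index -/
theorem relIndex_lt_of_lt {S T A : Subgroup G} (h : S < T) (hT : T ≤ A) : T.relIndex A < S.relIndex A := by
  rw [← relIndex_mul_relIndex S T A h.le hT]
  have h1 : S.relIndex T ≠ 1 := fun h1 => h.not_ge (relIndex_eq_one.1 h1)
  have h2 := relIndex_pos S T
  have h3 := relIndex_pos T A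
  nlinarith [show 2 ≤ S.relIndex T by omega]

/-- the power of the relative index lies in a subgroup normalised -/
theorem pow_relIndex_mem {S M : Subgroup G} (h : M ≤ normalizer (S : Set G)) {m : G} (hm : m ∈ M) :
    m ^ S.relIndex M ∈ S := by
  have hn : (S.subgroupOf M).Normal := normal_subgroupOf_of_le_normalizer h
  exact Subgroup.pow_index_mem (S.subgroupOf M) ⟨m, hm⟩

theorem mem_of_pow_coprime {S : Subgroup G} {b : G} {m n : ℕ} (hc : m.Coprime n) (h1 : b ^ m ∈ S) (h2 : b ^ n ∈ S) :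
    b ∈ S := by
  have h3 : b ^ (Nat.gcd m n : ℤ) ∈ S := by
    rw [Nat.gcd_eq_gcd_ab, zpow_add, zpow_mul, zpow_mul, zpow_natCast, zpow_natCast]
    exact S.mul_mem (S.zpow_mem h1 _) (S.zpow_mem h2 _)
  rw [hc] at h3
  simpa using h3

/-! ### the setting of Lemma D -/

/-- the setting of Lemma D -/
structure DSet (O X A N N2 : Subgroup G) (d1 d2 : ℕ) : Prop where
  nX : X ≤ normalizer (O : Set G)
  A_eq : A = O ⊓ centralizer (X : Set G)
  N_eq : N = ⁅O, X⁆
  NX : ⁅N, X⁆ = N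
  N2A : N2 ≤ A
  nN2 : A ≤ normalizer (N2 : Set G)
  idx : A.relIndex O ∣ d1
  cop : d1.Coprime d2

section

variable {O X A N N2 : Subgroup G} {d1 d2 : ℕ}

theorem DSet.AO (h : DSet O X A N N2 d1 d2) : A ≤ O := by rw [h.A_eq]; exact inf_le_left

theorem DSet.AX (h : DSet O X A N N2 d1 d2) : A ≤ centralizer (X : Set G) := by rw [h.A_eq]; exact inf_le_right

theorem DSet.commAX (h : DSet O X A N N2 d1 d2) : ⁅A, X⁆ = ⊥ :=
  commutator_eq_bot_iff_le_centralizer.2 h.AX

theorem DSet.NO (h : DSet O X A N N2 d1 d2) : N ≤ O := by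
  rw [h.N_eq]
  exact comm_le_l h.nX

theorem DSet.nN (h : DSet O X A N N2 d1 d2) : O ⊔ X ≤ normalizer (N : Set G) := by
  rw [h.N_eq]
  exact sup_le (normalizer_commutator_ge_left _ _) (normalizer_commutator_ge_right _ _)

/-- `X` commutes with `A` -/
theorem DSet.conjA (h : DSet O X A N N2 d1 d2) {x a : G} (hx : x ∈ X) (ha : a ∈ A) : x * a * x⁻¹ = a := by
  have h1 := mem_centralizer_iff.1 (h.AX ha) x hx
  rw [h1, mul_inv_cancel_right]

/-- the index of `A` in a subgroup normal in `O` divides `d₁` -/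
theorem DSet.idx' (h : DSet O X A N N2 d1 d2) {M : Subgroup G} (hM : M ≤ O) (hn : O ≤ normalizer (M : Set G)) :
    A.relIndex M ∣ d1 := (relIndex_dvd_nr h.AO hM hn).trans h.idx

/-- a chief factor `M/M'` of `OX` inside `N` -/
structure OXC (O X N M' M : Subgroup G) : Prop where
  lt : M' < M
  le : M ≤ N
  nM' : O ⊔ X ≤ normalizer (M' : Set G)
  nM : O ⊔ X ≤ normalizer (M : Set G)
  min : ∀ K : Subgroup G, O ⊔ X ≤ normalizer (K : Set G) → M' ≤ K → K ≤ M → K = M' ∨ K = M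

theorem OXC.oM' {M' M : Subgroup G} (c : OXC O X N M' M) : O ≤ normalizer (M' : Set G) := le_sup_left.trans c.nM'
theorem OXC.oM {M' M : Subgroup G} (c : OXC O X N M' M) : O ≤ normalizer (M : Set G) := le_sup_left.trans c.nM
theorem OXC.xM' {M' M : Subgroup G} (c : OXC O X N M' M) : X ≤ normalizer (M' : Set G) := le_sup_right.trans c.nM'
theorem OXC.xM {M' M : Subgroup G} (c : OXC O X N M' M) : X ≤ normalizer (M : Set G) := le_sup_right.trans c.nM

/-- s2: the order of the factor is not coprime to `d₁` -/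
theorem s2 (h : DSet O X A N N2 d1 d2) {M' M : Subgroup G} (c : OXC O X N M' M) (h1 : ¬ ⁅M, X⁆ ≤ M') :
    ¬ (M'.relIndex M).Coprime d1 := by
  intro hc
  apply h1
  have hMO : M ≤ O := c.le.trans h.NO
  have hle : (A ⊓ M) ⊔ M' ≤ M := sup_le inf_le_right c.lt.le
  have e1 : ((A ⊓ M) ⊔ M').relIndex M ∣ d1 := by
    refine (relIndex_dvd_of_le_left (L := M) (le_sup_left : A ⊓ M ≤ (A ⊓ M) ⊔ M')).trans ?_
    rw [inf_relIndex_right]
    exact h.idx' hMO c.oM
  have e2 : ((A ⊓ M) ⊔ M').relIndex M ∣ M'.relIndex M := relIndex_dvd_of_le_left (L := M) le_sup_right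
  have e3 := Nat.eq_one_of_dvd_coprimes hc e2 e1
  have e4 : M ≤ (A ⊓ M) ⊔ M' := relIndex_eq_one.1 e3
  refine (commutator_mono e4 le_rfl).trans ?_
  refine H231.sup_commutator_le ((inf_le_right.trans hMO).trans c.oM') le_normalizer ?_ (comm_le_l c.xM')
  exact (commutator_mono inf_le_left le_rfl).trans (by rw [h.commAX]; exact bot_le)

/-- s3: a minimal normal subgroup of `O` in `M/M'` -/
theorem s3 {M' M : Subgroup G} (c : OXC O X N M' M) (hMO : M ≤ O) :
    ∃ M1, Chf O M' M1 ∧ M1 ≤ M := by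
  obtain ⟨M1, ⟨h1, h2, h3⟩, h4⟩ := Set.Finite.exists_minimal (s := {K : Subgroup G | M' < K ∧ K ≤ M ∧ O ≤ normalizer (K : Set G)})
    (Set.toFinite _) ⟨M, c.lt, le_rfl, c.oM⟩
  refine ⟨M1, ⟨h1, h2.trans hMO, c.oM', h3, fun K hK hK1 hK2 => ?_⟩, h2⟩
  rcases eq_or_lt_of_le hK1 with e | e
  · exact Or.inl e.symm
  · exact Or.inr (le_antisymm hK2 (h4 ⟨e, hK2.trans h2, hK⟩ hK2))

/-- the conjugates of `M1` under `X` generate `M` -/
theorem s4a (h : DSet O X A N N2 d1 d2) {M' M M1 : Subgroup G} (c : OXC O X N M' M) (hM1 : Chf O M' M1)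
    (hle : M1 ≤ M) : ⨆ x : X, M1.map (MulAut.conj (x : G)).toMonoidHom = M := by
  have hX := nrm_iff.1 h.nX
  have hXM := nrm_iff.1 c.xM
  set K := ⨆ x : X, M1.map (MulAut.conj (x : G)).toMonoidHom with hK
  have hKM : K ≤ M := iSup_le fun x => (map_mono hle).trans (hXM x x.2).le
  have h1K : M1 ≤ K := by
    have := le_iSup (fun x : X => M1.map (MulAut.conj (x : G)).toMonoidHom) 1
    refine le_trans (le_of_eq ?_) this
    ext y
    simp
  have hn : O ⊔ X ≤ normalizer (K : Set G) := by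
    refine sup_le ?_ ?_
    · rw [nrm_iff]
      intro g hg
      rw [hK, Subgroup.map_iSup]
      refine iSup_congr fun x => ?_
      rw [Subgroup.map_map]
      have hg' : (x : G)⁻¹ * g * x ∈ O := by
        have := hX (x : G)⁻¹ (X.inv_mem x.2)
        rw [← this]
        exact ⟨g, hg, by show (x : G)⁻¹ * g * (x : G)⁻¹⁻¹ = _; rw [inv_inv]⟩
      have e : (MulAut.conj g).toMonoidHom.comp (MulAut.conj (x : G)).toMonoidHom =
          (MulAut.conj (x : G)).toMonoidHom.comp (MulAut.conj ((x : G)⁻¹ * g * x)).toMonoidHom := by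
        ext y
        show g * ((x : G) * y * (x : G)⁻¹) * g⁻¹ = x * (((x : G)⁻¹ * g * x) * y * ((x : G)⁻¹ * g * x)⁻¹) * (x : G)⁻¹
        group
      rw [e, ← Subgroup.map_map, nrm_iff.1 hM1.nH _ hg']
    · rw [nrm_iff]
      intro g hg
      rw [hK, Subgroup.map_iSup]
      apply le_antisymm
      · refine iSup_le fun x => ?_
        refine le_trans (le_of_eq ?_) (le_iSup _ (⟨g, hg⟩ * x : X))
        rw [Subgroup.map_map]
        congr 1
        ext y
        show g * ((x : G) * y * (x : G)⁻¹) * g⁻¹ = (g * x) * y * (g * x)⁻¹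
        group
      · refine iSup_le fun x => ?_
        refine le_trans (le_of_eq ?_) (le_iSup _ (⟨g, hg⟩⁻¹ * x : X))
        rw [Subgroup.map_map]
        congr 1
        ext y
        show (x : G) * y * (x : G)⁻¹ = g * ((g⁻¹ * x) * y * (g⁻¹ * x)⁻¹) * g⁻¹
        group
  rcases c.min K hn (hM1.lt.le.trans h1K) hKM with e | e
  · exact absurd (h1K.trans e.le) hM1.lt.not_ge
  · exact e

/-- s4: `C_A(M1/M') = C_A(M/M')` -/
theorem s4 (h : DSet O X A N N2 d1 d2) {M' M M1 : Subgroup G} (c : OXC O X N M' M) (hM1 : Chf O M' M1)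
    (hle : M1 ≤ M) : CF A M' M1 = CF A M' M := by
  have hMO : M ≤ O := c.le.trans h.NO
  apply le_antisymm
  · refine le_CF (CF_le _ _ _) ((CF_le _ _ _).trans (h.AO.trans c.oM')) ?_
    rw [← s4a h c hM1 hle]
    refine H231.commutator_iSup_le (fun x => ?_) (fun x => ?_)
    · exact ((map_mono hle).trans (nrm_iff.1 c.xM x x.2).le).trans (hMO.trans c.oM')
    · rw [commutator_le]
      rintro a ha _ ⟨m, hm, rfl⟩
      have h1 := ha.2.2 m hm
      have h2 : x * ⁅a, m⁆ * (x : G)⁻¹ ∈ M' := (mem_normalizer_iff.1 (c.xM' x.2) _).1 h1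
      have h3 := h.conjA x.2 ha.1
      have e : ⁅a, (MulAut.conj (x : G)).toMonoidHom m⁆ = x * ⁅a, m⁆ * (x : G)⁻¹ := by
        show ⁅a, (x : G) * m * (x : G)⁻¹⁆ = _
        conv_lhs => rw [← h3]
        simp only [commutatorElement_def]
        group
      rwa [e]
  · refine le_CF (CF_le _ _ _) ((CF_le _ _ _).trans (h.AO.trans c.oM')) ?_
    exact (commutator_mono le_rfl hle).trans (CF_comm _ _ _)

/-- s5: the order of `M1/M'` is not coprime to `d₁` -/
theorem s5 (h : DSet O X A N N2 d1 d2) {M' M M1 : Subgroup G} (c : OXC O X N M' M) (hM1 : Chf O M' M1)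
    (hle : M1 ≤ M) (hd : ¬ (M'.relIndex M).Coprime d1) : Act d1 M' M1 := by
  intro hc
  have hMO : M ≤ O := c.le.trans h.NO
  obtain ⟨J, ⟨h1, h2, h3, h4⟩, h5⟩ := Set.Finite.exists_maximal
    (s := {K : Subgroup G | M' ≤ K ∧ K ≤ M ∧ O ≤ normalizer (K : Set G) ∧ (M'.relIndex K).Coprime d1})
    (Set.toFinite _) ⟨M', le_rfl, c.lt.le, c.oM', by rw [relIndex_self]; exact Nat.coprime_one_left _⟩
  apply hd
  have hJ : J = M := by
    apply le_antisymm h2
    rw [← s4a h c hM1 hle]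
    refine iSup_le fun x => ?_
    have hXM' := nrm_iff.1 c.xM' x x.2
    have hXM := nrm_iff.1 c.xM x x.2
    have hxO := nrm_iff.1 h.nX x x.2
    set K := M1.map (MulAut.conj (x : G)).toMonoidHom with hK
    have hKM : K ≤ M := (map_mono hle).trans hXM.le
    have hnK : O ≤ normalizer (K : Set G) := by
      rw [nrm_iff]
      intro g hg
      rw [hK, Subgroup.map_map]
      have hg' : (x : G)⁻¹ * g * x ∈ O := by
        have := nrm_iff.1 h.nX (x : G)⁻¹ (X.inv_mem x.2)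
        rw [← this]
        exact ⟨g, hg, by show (x : G)⁻¹ * g * (x : G)⁻¹⁻¹ = _; rw [inv_inv]⟩
      have e : (MulAut.conj g).toMonoidHom.comp (MulAut.conj (x : G)).toMonoidHom =
          (MulAut.conj (x : G)).toMonoidHom.comp (MulAut.conj ((x : G)⁻¹ * g * x)).toMonoidHom := by
        ext y
        show g * ((x : G) * y * (x : G)⁻¹) * g⁻¹ = x * (((x : G)⁻¹ * g * x) * y * ((x : G)⁻¹ * g * x)⁻¹) * (x : G)⁻¹
        group
      rw [e, ← Subgroup.map_map, nrm_iff.1 hM1.nH _ hg']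
    have hMK : M' ≤ K := by rw [← hXM']; exact map_mono hM1.lt.le
    have hidx : M'.relIndex K = M'.relIndex M1 := by
      have e1 := card_rel hMK
      have e2 := card_rel hM1.lt.le
      have e3 : Nat.card K = Nat.card M1 := card_map_of_injective (MulAut.conj (x : G)).injective
      have e4 : 0 < Nat.card M' := Nat.card_pos
      apply Nat.eq_of_mul_eq_mul_left e4
      rw [e1, e2, e3]
    have hcop : (M'.relIndex (K ⊔ J)).Coprime d1 := by
      rw [← relIndex_mul_relIndex M' J (K ⊔ J) h1 le_sup_right, relIndex_sup_nl ((hKM.trans hMO).trans h3)]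
      refine Nat.Coprime.mul_left h4 (Nat.Coprime.coprime_dvd_left ?_ hc)
      rw [← hidx]
      exact relIndex_dvd_of_le_left (L := K) h1
    exact le_sup_left.trans (h5 ⟨h1.trans le_sup_right, sup_le hKM h2, nrm_sup hnK h3, hcop⟩ le_sup_right)
  rwa [← hJ]

/-- s1: `X` acts nontrivially on `M/M'` -/
theorem s1 (h : DSet O X A N N2 d1 d2) {M' M L H : Subgroup G} (c : OXC O X N M' M) (hL : CF N2 M' N ≤ L)
    (hlt : L < H) (hH : H ≤ N2) (hc : ⁅H, N⁆ ≤ M) : ¬ ⁅M, X⁆ ≤ M' := by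
  intro h1
  apply hlt.not_ge
  refine le_trans (le_CF hH ((hH.trans (h.N2A.trans h.AO)).trans c.oM') ?_) hL
  have hHM' : H ≤ normalizer (M' : Set G) := (hH.trans (h.N2A.trans h.AO)).trans c.oM'
  have h3 := H231.three_subgroups (P := M') (A := N) (B := X) (C := H) (h.NO.trans c.oM') c.xM' hHM' ?_ ?_
  · rw [h.NX] at h3
    rwa [commutator_comm]
  · have e : ⁅X, H⁆ = ⊥ := by
      rw [eq_bot_iff, ← h.commAX, commutator_comm]
      exact commutator_mono (hH.trans h.N2A) le_rfl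
    rw [e, commutator_bot_left]
    exact bot_le
  · exact (commutator_mono hc le_rfl).trans h1

/-- a nonabelian chief factor has trivial centre -/
theorem s6n {M' M : Subgroup G} (c : OXC O X N M' M) (hMO : M ≤ O) (hab : ¬ ⁅M, M⁆ ≤ M') : CF M M' M ≤ M' := by
  rcases c.min (CF M M' M) (nrm_CF c.nM c.nM' c.nM)
    (le_CF c.lt.le le_normalizer (comm_le_l (hMO.trans c.oM'))) (CF_le _ _ _) with e | e
  · exact e.le
  · exfalso
    apply hab
    have := CF_comm M M' M
    rwa [e] at this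

/-- s6, nonabelian case -/
theorem s6a (h : DSet O X A N N2 d1 d2) {M' M H : Subgroup G} (c : OXC O X N M' M)
    (hH : H ≤ N2) (hc : ⁅H, N⁆ ≤ M) (hab : ¬ ⁅M, M⁆ ≤ M') : H ⊓ CF A M' M ≤ CF N2 M' N := by
  have hMO : M ≤ O := c.le.trans h.NO
  have hHM' : H ≤ normalizer (M' : Set G) := (hH.trans (h.N2A.trans h.AO)).trans c.oM'
  refine le_CF (inf_le_left.trans hH) (inf_le_left.trans hHM') ?_
  have h1 : ⁅H ⊓ CF A M' M, N⁆ ≤ M := (commutator_mono inf_le_left le_rfl).trans hc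
  refine le_trans (le_CF h1 (h1.trans (hMO.trans c.oM')) ?_) (s6n c hMO hab)
  have hX : ⁅H ⊓ CF A M' M, M⁆ ≤ M' := (commutator_mono inf_le_right le_rfl).trans (CF_comm _ _ _)
  refine H231.three_subgroups (P := M') (inf_le_left.trans hHM') (h.NO.trans c.oM') (hMO.trans c.oM') ?_ ?_
  · refine (commutator_mono (comm_le_r (h.NO.trans c.oM)) le_rfl).trans ?_
    rw [commutator_comm]
    exact hX
  · rw [commutator_comm M]
    exact (commutator_mono hX le_rfl).trans (comm_le_l (h.NO.trans c.oM'))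

/-- powers of an element centralising `N/M` and `M/M'` -/
theorem pow_comm {M' M : Subgroup G} (hM : M ≤ normalizer (M' : Set G)) {b n : G}
    (hb2 : ∀ m ∈ M, ⁅b, m⁆ ∈ M') (hn : ⁅b, n⁆ ∈ M) (hbM : b ∈ normalizer (M : Set G)) (k : ℕ) :
    ⁅b ^ k, n⁆ ∈ M ∧ ⁅b ^ k, n⁆ * (⁅b, n⁆ ^ k)⁻¹ ∈ M' := by
  induction k with
  | zero => simp
  | succ k ih =>
    obtain ⟨ih1, ih2⟩ := ih
    have e : ⁅b ^ (k + 1), n⁆ = b * ⁅b ^ k, n⁆ * b⁻¹ * ⁅b, n⁆ := by
      simp only [commutatorElement_def, pow_succ']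
      group
    have h1 : b * ⁅b ^ k, n⁆ * b⁻¹ ∈ M := (mem_normalizer_iff.1 hbM _).1 ih1
    refine ⟨by rw [e]; exact M.mul_mem h1 hn, ?_⟩
    have e2 : ⁅b ^ (k + 1), n⁆ * (⁅b, n⁆ ^ (k + 1))⁻¹ = ⁅b, ⁅b ^ k, n⁆⁆ * (⁅b ^ k, n⁆ * (⁅b, n⁆ ^ k)⁻¹) := by
      rw [e, pow_succ]
      simp only [commutatorElement_def]
      group
    rw [e2]
    exact M'.mul_mem (hb2 _ ih1) ih2

/-- the elements of `M` whose `k`-th power lies in `M'`, for `M/M'` abelian -/
def powSub (M' M : Subgroup G) (hM : M ≤ normalizer (M' : Set G)) (hab : ⁅M, M⁆ ≤ M') (k : ℕ) : Subgroup G where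
  carrier := {m | m ∈ M ∧ m ^ k ∈ M'}
  one_mem' := ⟨M.one_mem, by rw [one_pow]; exact M'.one_mem⟩
  mul_mem' := by
    rintro a b ⟨ha1, ha2⟩ ⟨hb1, hb2⟩
    refine ⟨M.mul_mem ha1 hb1, ?_⟩
    have hn : (M'.subgroupOf M).Normal := normal_subgroupOf_of_le_normalizer hM
    let q := QuotientGroup.mk' (M'.subgroupOf M)
    have hcomm : Commute (q ⟨a, ha1⟩) (q ⟨b, hb1⟩) := by
      rw [commute_iff_eq, ← map_mul, ← map_mul]
      apply QuotientGroup.eq.2
      show ((a * b)⁻¹ * (b * a) : G) ∈ M'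
      have : (a * b)⁻¹ * (b * a) = ⁅b⁻¹, a⁻¹⁆ := by simp only [commutatorElement_def]; group
      rw [this]
      exact hab (commutator_mem_commutator (M.inv_mem hb1) (M.inv_mem ha1))
    have h1 : q (⟨a, ha1⟩ * ⟨b, hb1⟩) ^ k = 1 := by
      rw [map_mul, hcomm.mul_pow, ← map_pow, ← map_pow]
      have e1 : q (⟨a, ha1⟩ ^ k) = 1 := (QuotientGroup.eq_one_iff _).2 ha2
      have e2 : q (⟨b, hb1⟩ ^ k) = 1 := (QuotientGroup.eq_one_iff _).2 hb2
      rw [e1, e2, one_mul]
    rw [← map_pow] at h1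
    have h2 : ((⟨a, ha1⟩ * ⟨b, hb1⟩ : M) ^ k) ∈ M'.subgroupOf M := (QuotientGroup.eq_one_iff _).1 h1
    exact h2
  inv_mem' := by
    rintro a ⟨ha1, ha2⟩
    exact ⟨M.inv_mem ha1, by rw [inv_pow]; exact M'.inv_mem ha2⟩

theorem nrm_powSub {B M' M : Subgroup G} (hM : M ≤ normalizer (M' : Set G)) (hab : ⁅M, M⁆ ≤ M') (k : ℕ)
    (h1 : B ≤ normalizer (M : Set G)) (h2 : B ≤ normalizer (M' : Set G)) :
    B ≤ normalizer (powSub M' M hM hab k : Set G) := by
  intro g hg
  rw [mem_normalizer_iff]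
  intro m
  show (m ∈ M ∧ m ^ k ∈ M') ↔ (g * m * g⁻¹ ∈ M ∧ (g * m * g⁻¹) ^ k ∈ M')
  rw [conj_pow, ← mem_normalizer_iff.1 (h1 hg), ← mem_normalizer_iff.1 (h2 hg)]

/-- s6, abelian case: exponents -/
theorem s6b (h : DSet O X A N N2 d1 d2) {M' M : Subgroup G} (c : OXC O X N M' M)
    (hab : ⁅M, M⁆ ≤ M') (h1 : ¬ ⁅M, X⁆ ≤ M') {q : ℕ} (hq : q.Prime) (hqd : q ∣ d2) :
    ∃ v : ℕ, q.Coprime v ∧ ∀ m ∈ M, m ^ v ∈ M' := by
  have hMO : M ≤ O := c.le.trans h.NO
  have hMn : M ≤ normalizer (M' : Set G) := hMO.trans c.oM'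
  obtain ⟨a, v, hv, hn⟩ := Nat.exists_eq_pow_mul_and_not_dvd (relIndex_pos M' M).ne' q hq.ne_one
  have hqv : q.Coprime v := (Nat.Prime.coprime_iff_not_dvd hq).2 hv
  refine ⟨v, hqv, ?_⟩
  rcases c.min (powSub M' M hMn hab v) (nrm_powSub hMn hab v c.nM c.nM')
    (fun m hm => ⟨c.lt.le hm, M'.pow_mem hm v⟩) (fun m hm => hm.1) with e | e
  · exfalso
    apply h1
    have hp : ∀ m ∈ M, m ^ (q ^ a) ∈ M' := by
      intro m hm
      rw [← e]
      refine ⟨M.pow_mem hm _, ?_⟩
      rw [← pow_mul, ← hn]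
      exact pow_relIndex_mem hMn hm
    have e4 : M ≤ (A ⊓ M) ⊔ M' := by
      intro m hm
      have hM0 : M ≤ normalizer (((A ⊓ M) ⊔ M' : Subgroup G) : Set G) := by
        refine le_normalizer_iff_commutator_le_right.2 ?_
        exact ((commutator_mono le_rfl (sup_le inf_le_right c.lt.le)).trans hab).trans le_sup_right
      have hd : ((A ⊓ M) ⊔ M').relIndex M ∣ d1 := by
        refine (relIndex_dvd_of_le_left (L := M) (le_sup_left : A ⊓ M ≤ (A ⊓ M) ⊔ M')).trans ?_
        rw [inf_relIndex_right]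
        exact h.idx' hMO c.oM
      have hcop : (((A ⊓ M) ⊔ M').relIndex M).Coprime (q ^ a) := by
        apply Nat.Coprime.pow_right
        exact (h.cop.coprime_dvd_left hd).coprime_dvd_right hqd
      exact mem_of_pow_coprime hcop (pow_relIndex_mem hM0 hm) (le_sup_right (a := A ⊓ M) (hp m hm))
    refine (commutator_mono e4 le_rfl).trans ?_
    refine H231.sup_commutator_le ((inf_le_right.trans hMO).trans c.oM') le_normalizer ?_ (comm_le_l c.xM')
    exact (commutator_mono inf_le_left le_rfl).trans (by rw [h.commAX]; exact bot_le)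
  · intro m hm
    rw [← e] at hm
    exact hm.2

/-- s6: `H ∩ C(M/M') ≤ L` -/
theorem s6 (h : DSet O X A N N2 d1 d2) {M' M L H : Subgroup G} (c : OXC O X N M' M) (hL : CF N2 M' N ≤ L)
    (hLH : Chf A L H) (hH : H ≤ N2) (hc : ⁅H, N⁆ ≤ M) (hact : Act d2 L H) : H ⊓ CF A M' M ≤ L := by
  by_cases hab : ⁅M, M⁆ ≤ M'
  swap
  · exact (s6a h c hH hc hab).trans hL
  have hMO : M ≤ O := c.le.trans h.NO
  have hMn : M ≤ normalizer (M' : Set G) := hMO.trans c.oM'
  have hHO : H ≤ O := hH.trans (h.N2A.trans h.AO)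
  set D := H ⊓ CF A M' M with hD
  have hDn : A ≤ normalizer (D : Set G) :=
    nrm_inf hLH.nH (nrm_CF le_normalizer (h.AO.trans c.oM') (h.AO.trans c.oM))
  by_contra hDL
  have h1 : L ⊔ D = H := by
    rcases hLH.min (L ⊔ D) (nrm_sup hLH.nL hDn) le_sup_left (sup_le hLH.lt.le inf_le_left) with e | e
    · exact absurd (le_sup_right.trans e.le) hDL
    · exact e
  obtain ⟨q, hq, hq1, hq2⟩ := Nat.Prime.not_coprime_iff_dvd.1 hact
  obtain ⟨v, hv, hv2⟩ := s6b h c hab (s1 h c hL hLH.lt hH hc) hq hq2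
  have h2 : L.relIndex H = L.relIndex D := by
    rw [← h1, sup_comm, relIndex_sup_nl ((inf_le_left.trans hLH.le).trans hLH.nL)]
  have h3 : q ∣ (L.subgroupOf D).index := by
    have : q ∣ L.relIndex D := h2 ▸ hq1
    exact this
  have hnn : (L.subgroupOf D).Normal := normal_subgroupOf_of_le_normalizer ((inf_le_left.trans hLH.le).trans hLH.nL)
  haveI := Fact.mk hq
  obtain ⟨x, hx⟩ := exists_prime_orderOf_dvd_card' (G := D ⧸ L.subgroupOf D) q (by rwa [← index_eq_card])
  obtain ⟨b, rfl⟩ := QuotientGroup.mk_surjective x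
  have hb1 : (b : G) ∉ L := by
    intro hb
    have : (QuotientGroup.mk b : D ⧸ L.subgroupOf D) = 1 := (QuotientGroup.eq_one_iff _).2 hb
    rw [this, orderOf_one] at hx
    exact hq.one_lt.ne hx
  have hb2 : (b : G) ^ q ∈ L := by
    have h4 := pow_orderOf_eq_one (QuotientGroup.mk b : D ⧸ L.subgroupOf D)
    rw [hx, ← QuotientGroup.mk_pow] at h4
    have h5 : b ^ q ∈ L.subgroupOf D := (QuotientGroup.eq_one_iff _).1 h4
    exact h5
  apply hb1
  refine mem_of_pow_coprime hv hb2 (hL ?_)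
  have hbH : (b : G) ∈ H := b.2.1
  refine ⟨N2.pow_mem (hH hbH) v, (hHO.trans c.oM') (H.pow_mem hbH v), fun n hn => ?_⟩
  have h5 := pow_comm (M' := M') (M := M) hMn (b := (b : G)) (n := n) b.2.2.2.2
    (hc (commutator_mem_commutator hbH hn)) ((hHO.trans c.oM) hbH) v
  have h6 := hv2 _ (hc (commutator_mem_commutator hbH hn))
  have h7 := M'.mul_mem h5.2 h6
  rwa [inv_mul_cancel_right] at h7

/-- the end of the nonabelian case -/
theorem s9 (h : DSet O X A N N2 d1 d2) {M' M M1 L H : Subgroup G} (c : OXC O X N M' M)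
    (hM1 : Chf O M' M1) (hle : M1 ≤ M) (hLH : Chf A L H) (hact : Act d2 L H)
    (hDL : H ⊓ CF A M' M1 ≤ L) (hna : ¬ ⁅M1, M1⁆ ≤ M') (hS : CF A M' M1 = CF A L H)
    (hidx : (CF O M' M1).relIndex A = (CF O M' M1).relIndex O) : False := by
  have hMO : M ≤ O := c.le.trans h.NO
  set K := CF O M' M1 with hK
  have hKn : O ≤ normalizer (K : Set G) := nrm_CF le_normalizer hM1.nL hM1.nH
  have hAK : A ⊔ K = O := by
    apply le_antisymm (sup_le h.AO (CF_le _ _ _))
    have h1 := relIndex_mul_relIndex K (A ⊔ K) O le_sup_right (sup_le h.AO (CF_le _ _ _))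
    rw [relIndex_sup_nl (h.AO.trans hKn), hidx] at h1
    have h2 := relIndex_pos K O
    have h3 : (A ⊔ K).relIndex O = 1 := by
      have : K.relIndex O * (A ⊔ K).relIndex O = K.relIndex O * 1 := by rw [h1, mul_one]
      exact Nat.eq_of_mul_eq_mul_left h2 this
    exact relIndex_eq_one.1 h3
  by_cases hx : X ≤ normalizer (M1 : Set G)
  · apply hna
    have hN : N ≤ K := by
      rw [h.N_eq, ← hAK]
      refine H231.sup_commutator_le (h.AO.trans hKn) le_normalizer ?_ ?_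
      · rw [h.commAX]; exact bot_le
      · exact comm_le_l (nrm_CF h.nX c.xM' hx)
    exact (commutator_mono ((hle.trans c.le).trans hN) le_rfl).trans (CF_comm _ _ _)
  · obtain ⟨x, hxX, hx1⟩ : ∃ x ∈ X, M1.map (MulAut.conj x).toMonoidHom ≠ M1 := by
      by_contra hcon
      push Not at hcon
      exact hx (nrm_iff.2 hcon)
    -- `A ⊓ M1 ≤ M'`
    have hAM : A ⊓ M1 ≤ M' := by
      set Mx := M1.map (MulAut.conj x).toMonoidHom with hMx
      have hnx : O ≤ normalizer (Mx : Set G) := by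
        rw [nrm_iff]
        intro g hg
        rw [hMx, Subgroup.map_map]
        have hg' : (x : G)⁻¹ * g * x ∈ O := by
          have := nrm_iff.1 h.nX (x : G)⁻¹ (X.inv_mem hxX)
          rw [← this]
          exact ⟨g, hg, by show (x : G)⁻¹ * g * (x : G)⁻¹⁻¹ = _; rw [inv_inv]⟩
        have e : (MulAut.conj g).toMonoidHom.comp (MulAut.conj (x : G)).toMonoidHom =
            (MulAut.conj (x : G)).toMonoidHom.comp (MulAut.conj ((x : G)⁻¹ * g * x)).toMonoidHom := by
          ext y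
          show g * ((x : G) * y * (x : G)⁻¹) * g⁻¹ = x * (((x : G)⁻¹ * g * x) * y * ((x : G)⁻¹ * g * x)⁻¹) * (x : G)⁻¹
          group
        rw [e, ← Subgroup.map_map, nrm_iff.1 hM1.nH _ hg']
      have hMle : M' ≤ Mx := by
        rw [← nrm_iff.1 c.xM' x hxX]
        exact map_mono hM1.lt.le
      have hle' : A ⊓ M1 ≤ M1 ⊓ Mx := by
        rintro a ⟨ha, ha1⟩
        refine ⟨ha1, ⟨a, ha1, ?_⟩⟩
        exact h.conjA hxX ha
      rcases hM1.min (M1 ⊓ Mx) (nrm_inf hM1.nH hnx) (le_inf hM1.lt.le hMle) inf_le_left with e | e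
      · exact hle'.trans e.le
      · exfalso
        apply hx1
        have h5 : M1 ≤ Mx := inf_eq_left.1 e
        refine (eq_of_le_of_card_ge h5 ?_).symm
        rw [hMx, card_map_of_injective (MulAut.conj x).injective]
    have hd : M'.relIndex M1 ∣ d1 := by
      refine (relIndex_dvd_of_le_left (L := M1) hAM).trans ?_
      rw [inf_relIndex_right]
      exact h.idx' hM1.le hM1.nH
    set J := A ⊓ (M1 ⊔ K) with hJ
    have hJn : A ≤ normalizer (J : Set G) :=
      nrm_inf le_normalizer (nrm_sup (h.AO.trans hM1.nH) (h.AO.trans hKn))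
    have hJA : J ≤ A := inf_le_left
    have hJK : J ⊔ K = M1 ⊔ K := by
      have h6 := dede (H := A) (D := K) (M := M1 ⊔ K) (h.AO.trans hKn) le_sup_right
      rw [hAK, inf_eq_right.2 (sup_le hM1.le (CF_le _ _ _))] at h6
      exact h6.symm
    rcases hLH.alt hJn with e | e
    · apply hna
      have h7 : J ≤ CF A L H := by
        refine le_CF hJA (hJA.trans hLH.nL) ?_
        rw [← e]
        exact le_inf (comm_le_r (hJA.trans hLH.nH)) ((comm_le_l (hLH.le.trans hJn)).trans le_sup_right)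
      rw [← hS, CF_inf h.AO] at h7
      have h8 : M1 ≤ K := by
        have : M1 ≤ J ⊔ K := by rw [hJK]; exact le_sup_left
        exact this.trans (sup_le (h7.trans inf_le_right) le_rfl)
      exact (commutator_mono h8 le_rfl).trans (CF_comm _ _ _)
    · have h9 := (hLH.iso_down hJn e).relIndex
      have h10 : (L ⊓ J).relIndex (H ⊓ J) ∣ (CF A M' M1).relIndex (H ⊓ J) := by
        have : CF A M' M1 ⊓ (H ⊓ J) ≤ L ⊓ J := by
          refine le_inf ?_ (inf_le_right.trans inf_le_right)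
          exact (le_inf (inf_le_right.trans inf_le_left) inf_le_left).trans hDL
        have h11 := relIndex_dvd_of_le_left (L := H ⊓ J) this
        rwa [inf_relIndex_right] at h11
      have h12 : (CF A M' M1).relIndex (H ⊓ J) ∣ (CF A M' M1).relIndex J :=
        relIndex_dvd_nl inf_le_right (hJA.trans (nrm_CF le_normalizer (h.AO.trans hM1.nL) (h.AO.trans hM1.nH)))
      have h13 : (CF A M' M1).relIndex J = K.relIndex J := by
        rw [CF_inf h.AO, ← inf_relIndex_right, ← inf_relIndex_right K J]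
        congr 1
        rw [inf_comm A, inf_assoc, inf_eq_right.2 hJA]
      have h14 : K.relIndex J = K.relIndex M1 := by
        rw [← relIndex_sup_nl (hJA.trans (h.AO.trans hKn)), hJK, relIndex_sup_nl (hM1.le.trans hKn)]
      have h15 : K.relIndex M1 ∣ M'.relIndex M1 :=
        relIndex_dvd_of_le_left (L := M1) (le_CF hM1.lO (hM1.lO.trans hM1.nL) (comm_le_l (hM1.le.trans hM1.nL)))
      apply hact
      rw [Act.eq_def] at *
      have h16 : L.relIndex H ∣ d1 := by
        rw [h9]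
        exact h10.trans (h12.trans (by rw [h13, h14]; exact h15.trans hd))
      exact h.cop.coprime_dvd_left h16

theorem wt_of_comm {O L H : Subgroup G} (h : ⁅H, H⁆ ≤ L) : wt O L H = 2 * (CF O L H).relIndex O + 1 := by
  unfold wt
  rw [if_pos h]

theorem wt_of_not_comm {O L H : Subgroup G} (h : ¬ ⁅H, H⁆ ≤ L) : wt O L H = 2 * (CF O L H).relIndex O := by
  unfold wt
  rw [if_neg h, add_zero]

theorem le_wt (O L H : Subgroup G) : 2 * (CF O L H).relIndex O ≤ wt O L H := by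
  unfold wt
  exact Nat.le_add_right _ _

/-- the core of Lemma D -/
theorem lemD_core (h : DSet O X A N N2 d1 d2) {M' M L H : Subgroup G} (c : OXC O X N M' M)
    (hL : CF N2 M' N ≤ L) (hLH : Chf A L H) (hH : H ≤ N2) (hc : ⁅H, N⁆ ≤ M) (hact : Act d2 L H) :
    ∃ M1, Chf O M' M1 ∧ M1 ≤ N ∧ Act d1 M' M1 ∧ wt A L H < wt O M' M1 := by
  have hMO : M ≤ O := c.le.trans h.NO
  obtain ⟨M1, hM1, hle⟩ := s3 c hMO
  have h1 := s1 h c hL hLH.lt hH hc
  have h4 := s4 h c hM1 hle
  refine ⟨M1, hM1, hle.trans c.le, s5 h c hM1 hle (s2 h c h1), ?_⟩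
  have hDL : H ⊓ CF A M' M1 ≤ L := by
    rw [h4]
    exact s6 h c hL hLH hH hc hact
  -- `S ≤ C_A(H/L)`
  have hSn : A ≤ normalizer (CF A M' M1 : Set G) :=
    nrm_CF le_normalizer (h.AO.trans hM1.nL) (h.AO.trans hM1.nH)
  have hS : CF A M' M1 ≤ CF A L H := by
    refine le_CF (CF_le _ _ _) ((CF_le _ _ _).trans hLH.nL) ?_
    refine le_trans (le_inf ?_ ?_) hDL
    · exact comm_le_r ((CF_le _ _ _).trans hLH.nH)
    · exact comm_le_l (hLH.le.trans hSn)
  have e1 : (CF A L H).relIndex A ≤ (CF A M' M1).relIndex A :=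
    Nat.le_of_dvd (relIndex_pos _ _) (relIndex_dvd_of_le_left (L := A) hS)
  have e2 : (CF A M' M1).relIndex A = (CF O M' M1).relIndex A := by
    rw [CF_inf h.AO, inf_relIndex_left]
  have e3 : (CF O M' M1).relIndex A ≤ (CF O M' M1).relIndex O :=
    Nat.le_of_dvd (relIndex_pos _ _) (relIndex_dvd_nl h.AO (nrm_CF le_normalizer hM1.nL hM1.nH))
  have e4 := le_wt O M' M1
  by_cases hab : ⁅H, H⁆ ≤ L
  · rw [wt_of_comm hab]
    have h5 : CF A M' M1 < CF A L H := by
      refine lt_of_le_of_ne hS fun e => ?_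
      have h6 : H ≤ CF A L H := le_CF hLH.le (hLH.le.trans hLH.nL) hab
      rw [← e] at h6
      exact hLH.lt.not_ge ((le_inf le_rfl h6).trans hDL)
    have h7 := relIndex_lt_of_lt h5 (CF_le A L H)
    omega
  · rw [wt_of_not_comm hab]
    by_cases h8 : (CF A L H).relIndex A < (CF O M' M1).relIndex O
    · omega
    · have h9 : (CF A L H).relIndex A = (CF O M' M1).relIndex O := by omega
      by_cases hY : ⁅M1, M1⁆ ≤ M'
      · rw [wt_of_comm hY]
        omega
      · exfalso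
        refine s9 h c hM1 hle hLH hact hDL hY ?_ (by omega)
        refine le_antisymm hS ?_
        have h10 : (CF A M' M1).relIndex A = (CF A L H).relIndex A := by omega
        have h11 := relIndex_mul_relIndex _ _ A hS (CF_le A L H)
        rw [h10] at h11
        have h12 := relIndex_pos (CF A L H) A
        have h13 : (CF A M' M1).relIndex (CF A L H) = 1 := by
          have : (CF A M' M1).relIndex (CF A L H) * (CF A L H).relIndex A = 1 * (CF A L H).relIndex A := by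
            rw [h11, one_mul]
          exact Nat.eq_of_mul_eq_mul_right h12 this
        exact relIndex_eq_one.1 h13

/-- **Lemma D** -/
theorem lemD (h : DSet O X A N N2 d1 d2) : ∀ {L H : Subgroup G}, N2 ⊓ centralizer (N : Set G) ≤ L →
    Chf A L H → H ≤ N2 → Act d2 L H →
    ∃ M' M1, Chf O M' M1 ∧ M1 ≤ N ∧ Act d1 M' M1 ∧ wt A L H < wt O M' M1 := by
  have key : ∀ n : ℕ, ∀ M : Subgroup G, Nat.card M = n → O ⊔ X ≤ normalizer (M : Set G) → M ≤ N →
      ∀ L H : Subgroup G, N2 ⊓ centralizer (N : Set G) ≤ L → Chf A L H → H ≤ N2 → ⁅H, N⁆ ≤ M → Act d2 L H →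
      ∃ M' M1, Chf O M' M1 ∧ M1 ≤ N ∧ Act d1 M' M1 ∧ wt A L H < wt O M' M1 := by
    intro n
    induction n using Nat.strong_induction_on with
    | _ n ih =>
      intro M hMc hMn hMN L H hC hLH hH hc hact
      have hMb : M ≠ ⊥ := by
        rintro rfl
        apply hLH.lt.not_ge
        refine le_trans (le_inf hH ?_) hC
        rw [← commutator_eq_bot_iff_le_centralizer]
        exact le_bot_iff.1 hc
      obtain ⟨M', ⟨h1, h2⟩, h3⟩ := Set.Finite.exists_maximal
        (s := {K : Subgroup G | K < M ∧ O ⊔ X ≤ normalizer (K : Set G)})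
        (Set.toFinite _) ⟨⊥, bot_lt_iff_ne_bot.2 hMb, by rw [nrm_iff]; intro g _; exact Subgroup.map_bot _⟩
      have c : OXC O X N M' M := by
        refine ⟨h1, hMN, h2, hMn, fun K hK hK1 hK2 => ?_⟩
        rcases eq_or_lt_of_le hK2 with e | e
        · exact Or.inr e
        · exact Or.inl (le_antisymm (h3 ⟨e, hK⟩ hK1) hK1)
      have hN2O : N2 ≤ O := h.N2A.trans h.AO
      set D := CF N2 M' N with hD
      have hDn : A ≤ normalizer (D : Set G) :=
        nrm_CF h.nN2 (h.AO.trans c.oM') (h.AO.trans (le_sup_left.trans h.nN))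
      have hDA : D ≤ A := (CF_le _ _ _).trans h.N2A
      have hCD : N2 ⊓ centralizer (N : Set G) ≤ D := by
        refine le_CF inf_le_left ((inf_le_left.trans hN2O).trans c.oM') ?_
        rw [commutator_eq_bot_iff_le_centralizer.2 inf_le_right]
        exact bot_le
      rcases hLH.move hDn hDA with ⟨h4, h5, h6⟩ | ⟨h4, h5, h6⟩
      · obtain ⟨M1, h7⟩ := lemD_core h c (L := L ⊔ D) (H := H ⊔ D) le_sup_right h5
          (sup_le hH (CF_le _ _ _)) (by
            refine H231.sup_commutator_le ((hH.trans hN2O).trans c.oM) ((CF_le _ _ _).trans (hN2O.trans c.oM)) hc ?_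
            exact (CF_comm _ _ _).trans c.lt.le) (h6.act.2 hact)
        rw [h6.wt] at h7
        exact ⟨M', M1, h7⟩
      · have hcard : Nat.card M' < n := by
          rw [← hMc]
          refine lt_of_le_of_ne (Nat.card_le_card_of_injective _ (Subgroup.inclusion_injective h1.le)) fun e => ?_
          exact h1.ne (eq_of_le_of_card_ge h1.le e.ge)
        obtain ⟨M'', M1, h7⟩ := ih _ hcard M' rfl h2 (h1.le.trans hMN) (L ⊓ D) (H ⊓ D) (le_inf hC hCD) h5
          (inf_le_left.trans hH) ((commutator_mono inf_le_right le_rfl).trans (CF_comm _ _ _)) (h6.act.1 hact)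
        rw [← h6.wt] at h7
        exact ⟨M'', M1, h7⟩
  intro L H hC hLH hH hact
  refine key _ N rfl h.nN le_rfl L H hC hLH hH ?_ hact
  exact comm_le_r ((hH.trans (h.N2A.trans h.AO)).trans (le_sup_left.trans h.nN))

end

end Cfsg.Agent.R2.T3544

private theorem dce_145023d3e4b0 : _root_.True := by
  try have : _root_.True := by simp only [_root_.Cfsg.Agent.R2.T3544.Act.eq_def]
  exact _root_.True.intro
end

-- part: R2/T3544/NLcFin
section
prune_inst 0xd52023441d4002000018059271003c46ee000192016b0c01dd600f460686ff632d032f61fdc01e13193aa36c003c800812dc00f90010000020008600411805218ca872c2b348b10427009fc0f887180c00000000000000000000000000041004200000000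
set_option linter.all false
open scoped Cfsg.Agent.FastGrp

-- part: R2/T3544/CopLem
section
/-!
# S3544: coprime action, the forms used in Lemma D (thin wrappers of S0026 and S0027)
-/

set_option autoImplicit false
set_option linter.unusedSectionVars false

namespace Cfsg.Agent.R2.T3544.CopLem

open Subgroup Cfsg
open scoped commutatorElement

variable {G : Type*} [Group G] [Finite G] {O X : Subgroup G}

/-- `O = [O, X] C_O(X)` -/
theorem sup_eq (hX : X ≤ normalizer (O : Set G)) (hc : (Nat.card X).Coprime (Nat.card O))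
    (hs : Group.IsSolvable X) : ⁅O, X⁆ ⊔ (O ⊓ centralizer (X : Set G)) = O :=
  S0026.result X O hX hc (Or.inl hs)

/-- `[[O, X], X] = [O, X]` -/
theorem comm_comm (hX : X ≤ normalizer (O : Set G)) (hc : (Nat.card X).Coprime (Nat.card O))
    (hs : Group.IsSolvable X) : ⁅⁅O, X⁆, X⁆ = ⁅O, X⁆ :=
  S0027.result X O hX hc (Or.inl hs)

/-- `[O, X] ≤ O` -/
theorem comm_le (hX : X ≤ normalizer (O : Set G)) : ⁅O, X⁆ ≤ O := by
  rw [commutator_le]
  intro o ho x hx
  rw [commutatorElement_def, mul_assoc, mul_assoc, ← mul_assoc x]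
  exact O.mul_mem ho ((mem_normalizer_iff.1 (hX hx) _).1 (inv_mem ho))

/-- a `p`-group is soluble -/
theorem solv_of_isPGroup {p : ℕ} [Fact p.Prime] (h : IsPGroup p X) : Group.IsSolvable X := by
  have := h.isNilpotent
  infer_instance

end Cfsg.Agent.R2.T3544.CopLem
end

-- part: R2/T3544/MuStep
section
/-!
# S3544: the descent for the intensive measure (helper18's and helper10's idea), abstract form

`MuLe O V m`: the group `O / C_O(V)` is a subdirect product of groups of order at most `m`.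
-/

set_option autoImplicit false
set_option linter.unusedSectionVars false

namespace Cfsg.Agent.R2.T3544

open Subgroup

variable {G : Type*} [Group G]

/-- `O / C_O(V)` is a subdirect product of groups of order at most `m` -/
def MuLe (O V : Subgroup G) (m : ℕ) : Prop :=
  ∀ g ∈ O, (∃ v ∈ V, g * v * g⁻¹ ≠ v) →
    ∃ K : Subgroup G, O ≤ normalizer (K : Set G) ∧ (∀ k ∈ O, (∀ v ∈ V, k * v * k⁻¹ = v) → k ∈ K) ∧
      g ∉ K ∧ K.relIndex O ≤ m

/-- the data for one direction of the descent -/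
structure MuData {Ω : Type*} (r : Ω → Ω → Prop) (O N V W : Ω → Subgroup G) : Prop where
  fac : ∀ x y, r x y → ∀ g ∈ O x, ∃ n ∈ N x, ∃ o ∈ O x ⊓ O y, g = n * o
  cen : ∀ x, ∀ n ∈ N x, ∀ v ∈ V x, n * v * n⁻¹ = v
  norm : ∀ x, O x ≤ normalizer (V x : Set G)
  sh : ∀ x y, r x y → V x ≤ O x ⊓ O y
  nil : ∀ x, Group.IsNilpotent (V x)
  faith : ∀ x, ∀ v ∈ V x, v ≠ 1 → ∃ y, r x y ∧ ∃ w ∈ W y, v * w * v⁻¹ ≠ w
  le : ∀ x, N x ≤ O x

theorem MuLe.mono {O V : Subgroup G} {m n : ℕ} (h : MuLe O V m) (hmn : m ≤ n) : MuLe O V n := by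
  intro g hg hv
  obtain ⟨K, h1, h2, h3, h4⟩ := h g hg hv
  exact ⟨K, h1, h2, h3, h4.trans hmn⟩

theorem MuLe.card [Finite G] {O V : Subgroup G} (h : O ≤ normalizer (V : Set G)) :
    MuLe O V (Nat.card G) := by
  rintro g hg ⟨v, hv, hgv⟩
  refine ⟨centralizer (V : Set G), ?_, ?_, ?_, ?_⟩
  · refine h.trans ?_
    intro a ha
    rw [mem_normalizer_iff]
    have key : ∀ a ∈ normalizer (V : Set G), ∀ c ∈ centralizer (V : Set G), a * c * a⁻¹ ∈ centralizer (V : Set G) := by
      intro a ha c hc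
      rw [mem_centralizer_iff] at hc ⊢
      intro v hv
      have h1 : a⁻¹ * v * a ∈ V := (mem_normalizer_iff''.1 ha v).1 hv
      have h2 := hc _ h1
      calc v * (a * c * a⁻¹) = a * ((a⁻¹ * v * a) * c) * a⁻¹ := by group
        _ = a * (c * (a⁻¹ * v * a)) * a⁻¹ := by rw [h2]
        _ = a * c * a⁻¹ * v := by group
    intro c
    refine ⟨key a ha c, fun hc => ?_⟩
    have := key a⁻¹ (inv_mem ha) _ hc
    have e : a⁻¹ * (a * c * a⁻¹) * a⁻¹⁻¹ = c := by group
    rwa [e] at this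
  · intro k _ hk
    rw [mem_centralizer_iff]
    intro v hv
    have := hk v hv
    rw [mul_inv_eq_iff_eq_mul] at this
    exact this.symm
  · intro hc
    apply hgv
    rw [mem_centralizer_iff] at hc
    rw [← hc v hv, mul_inv_cancel_right]
  · refine le_trans ?_ (Nat.card_le_card_of_injective O.subtype O.subtype_injective)
    exact Nat.le_of_dvd Nat.card_pos (index_dvd_card _)

end Cfsg.Agent.R2.T3544
end

-- part: R2/T3544/SolNL
section
/-!
# S3544: functors `X` (acting) and `O` (acted on), coprime: the soluble case NL (helper18, helper8, helper10)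
-/

set_option autoImplicit false
set_option linter.unusedSectionVars false

namespace Cfsg.Agent.R2.T3544

open Subgroup Cfsg MulAction
open scoped commutatorElement
open Cfsg.Agent.Lib

section

variable {G : Type*} [Group G]

theorem exists_mul_of_mem_sup {A N : Subgroup G} (h : A ≤ normalizer (N : Set G)) {g : G} (hg : g ∈ N ⊔ A) :
    ∃ n ∈ N, ∃ a ∈ A, g = n * a := by
  rw [← SetLike.mem_coe, coe_mul_of_right_le_normalizer_left N A h] at hg
  obtain ⟨n, hn, a, ha, rfl⟩ := hg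
  exact ⟨n, hn, a, ha, rfl⟩

end

section

variable {G : Type*} [Group G] {Ω : Type*} [MulAction G Ω]

/-- `N_r(x)`: the join of the `[O(x), X(y)]`, `y` a neighbour of `x` -/
def Nf (r : Ω → Ω → Prop) (X O : Ω → Subgroup G) (x : Ω) : Subgroup G := ⨆ y, ⨆ (_ : r x y), ⁅O x, X y⁆

theorem le_Nf {r : Ω → Ω → Prop} {X O : Ω → Subgroup G} {x y : Ω} (h : r x y) : ⁅O x, X y⁆ ≤ Nf r X O x :=
  le_iSup₂_of_le y h le_rfl

theorem Nf_le {r : Ω → Ω → Prop} {X O : Ω → Subgroup G} {x : Ω} {K : Subgroup G}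
    (h : ∀ y, r x y → ⁅O x, X y⁆ ≤ K) : Nf r X O x ≤ K := iSup₂_le h

theorem Nf_map_le {r : Ω → Ω → Prop} {X O : Ω → Subgroup G} (FX : Fun G X) (FO : Fun G O)
    (hr : ∀ (g : G) {x y : Ω}, r x y → r (g • x) (g • y)) (g : G) (x : Ω) :
    (Nf r X O x).map (MulAut.conj g).toMonoidHom ≤ Nf r X O (g • x) := by
  rw [map_le_iff_le_comap]
  refine Nf_le fun y hy => ?_
  rw [← map_le_iff_le_comap, map_commutator, ← FX.smul, ← FO.smul]
  exact le_Nf (hr g hy)

end

/-- the hypotheses: coprime functors `X`, `O` with `O` soluble and `O(x) ∩ G_y ≤ O(y)` for neighbours -/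
structure XO (G : Type*) [Group G] {Ω : Type*} [MulAction G Ω] (r : Ω → Ω → Prop) (X O : Ω → Subgroup G) : Prop where
  FX : Fun G X
  FO : Fun G O
  X1 : ∀ x, X x ≠ ⊥
  O1 : ∀ x, O x ≠ ⊥
  cop : ∀ x y, (Nat.card (X x)).Coprime (Nat.card (O y))
  sol : ∀ x, Group.IsSolvable (O x)
  nb : ∀ {x y}, r x y → X y ≤ stabilizer G x
  sh : ∀ {x y}, r x y → O x ⊓ stabilizer G y ≤ O y

section

variable {G : Type*} [Group G] [Finite G] {Ω : Type*} [MulAction G Ω]

variable {ra rb : Ω → Ω → Prop} {da db : ℕ} {X O : Ω → Subgroup G}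

theorem XO.inf_bot {r : Ω → Ω → Prop} (h : XO G r X O) (x y : Ω) : O x ⊓ X y = ⊥ := by
  rw [inf_comm]
  exact (disjoint_of_coprime_natCard (h.cop y x)).eq_bot

/-- `O(x) ∩ G_y` centralises `X(y)` -/
theorem XO.comm {r : Ω → Ω → Prop} (h : XO G r X O) {x y : Ω} (hy : r x y) :
    ⁅O x ⊓ stabilizer G y, X y⁆ = ⊥ := by
  rw [eq_bot_iff, ← h.inf_bot x y]
  refine le_inf ?_ ?_
  · exact (commutator_mono inf_le_left le_rfl).trans
      (le_normalizer_iff_commutator_le_left.1 ((h.nb hy).trans (h.FO.norm x)))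
  · exact (commutator_mono inf_le_right le_rfl).trans
      (le_normalizer_iff_commutator_le_right.1 (h.FX.norm y))

theorem XO.cent_le {r : Ω → Ω → Prop} (P : PP G Ω) (h : XO G r X O) (y : Ω) :
    centralizer (X y : Set G) ≤ stabilizer G y := h.FX.centralizer_le P (h.X1 y)

/-- the factorization of `O(x)` -/
theorem XO.fac {r : Ω → Ω → Prop} (P : PP G Ω) (h : XO G r X O) {x y : Ω} (hy : r x y) {g : G} (hg : g ∈ O x) :
    ∃ n ∈ Nf r X O x, ∃ o ∈ O x ⊓ O y, g = n * o := by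
  have hn : X y ≤ normalizer (O x : Set G) := (h.nb hy).trans (h.FO.norm x)
  have h1 := S0026.result (X y) (O x) hn (h.cop y x) (Or.inr (h.sol x))
  have h2 : O x ⊓ centralizer (X y : Set G) ≤ normalizer ((⁅O x, X y⁆ : Subgroup G) : Set G) :=
    inf_le_left.trans (normalizer_commutator_ge_left (O x) (X y))
  rw [← h1] at hg
  obtain ⟨n, hn, o, ho, rfl⟩ := exists_mul_of_mem_sup h2 hg
  refine ⟨n, le_Nf hy hn, o, ⟨ho.1, h.sh hy ⟨ho.1, h.cent_le P y ho.2⟩⟩, rfl⟩

theorem XO.Nf_le_O {r : Ω → Ω → Prop} (h : XO G r X O) (x : Ω) : Nf r X O x ≤ O x :=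
  Nf_le fun _ hy => le_normalizer_iff_commutator_le_left.1 ((h.nb hy).trans (h.FO.norm x))

theorem Fun.of_map_le {X : Ω → Subgroup G} (h1 : ∀ x, X x ≤ stabilizer G x)
    (h2 : ∀ (g : G) (x : Ω), (X x).map (MulAut.conj g).toMonoidHom ≤ X (g • x)) : Fun G X := by
  refine ⟨h1, fun g x => le_antisymm ?_ (h2 g x)⟩
  have h3 := map_mono (f := (MulAut.conj g).toMonoidHom) (h2 g⁻¹ (g • x))
  rw [inv_smul_smul] at h3
  refine le_trans (le_of_eq ?_) h3
  have h4 := map_map_conj_inv (X (g • x)) g⁻¹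
  rw [inv_inv] at h4
  exact h4.symm

theorem XO.FN {r : Ω → Ω → Prop} {d : ℕ} (D : Dir G r d) (h : XO G r X O) : Fun G (Nf r X O) :=
  Fun.of_map_le (fun x => (h.Nf_le_O x).trans (h.FO.le x))
    (Nf_map_le h.FX h.FO fun g {_ _} hxy => D.smul g hxy)

/-- `N_a(x) ≤ M_b(x)` -/
theorem XO.Nf_le_Mk (B : Dir G rb db) (ha : XO G ra X O) (hma : ∀ {x y : Ω}, ra x y → X y ≤ Mk G rb x) (x : Ω) :
    Nf ra X O x ≤ Mk G rb x :=
  Nf_le fun _ hy => (commutator_mono le_rfl (hma hy)).trans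
    (le_normalizer_iff_commutator_le_right.1 ((ha.FO.le x).trans (B.Mk_norm x)))

/-- `[N_b(x), N_a(x)] = 1` -/
theorem XO.Nf_comm (A : Dir G ra da) (B : Dir G rb db) (ha : XO G ra X O) (hb : XO G rb X O)
    (hma : ∀ {x y : Ω}, ra x y → X y ≤ Mk G rb x) (x : Ω) : ⁅Nf rb X O x, Nf ra X O x⁆ = ⊥ := by
  rw [commutator_eq_bot_iff_le_centralizer]
  refine Nf_le fun w hw => ?_
  rw [← commutator_eq_bot_iff_le_centralizer]
  have h1 : ⁅Nf ra X O x, X w⁆ = ⊥ := by
    rw [eq_bot_iff, ← hb.comm hw]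
    exact commutator_mono (le_inf (ha.Nf_le_O x) ((ha.Nf_le_Mk B hma x).trans (Mk_le_nbr hw))) le_rfl
  apply commutator_commutator_eq_bot_of_rotate
  · rw [commutator_comm (X w), h1, commutator_bot_left]
  · rw [eq_bot_iff, ← h1]
    refine commutator_mono ?_ le_rfl
    exact le_normalizer_iff_commutator_le_left.1 ((ha.FO.le x).trans ((ha.FN A).norm x))

end

end Cfsg.Agent.R2.T3544
end

-- part: R2/T3544/ChfConj
section
/-!
# S3544: chief factors, weights and activity are invariant under automorphisms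
-/

set_option autoImplicit false

namespace Cfsg.Agent.R2.T3544

open Subgroup
open scoped commutatorElement

variable {G : Type*} [Group G]

theorem mem_normalizer_map_iff (e : G ≃* G) {L : Subgroup G} {y : G} :
    y ∈ normalizer (L.map e.toMonoidHom : Set G) ↔ e.symm y ∈ normalizer (L : Set G) := by
  rw [mem_normalizer_iff, mem_normalizer_iff]
  constructor
  · intro h l
    have h1 := h (e l)
    rw [mem_map_equiv, mem_map_equiv] at h1
    simpa using h1
  · intro h l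
    rw [mem_map_equiv, mem_map_equiv]
    simpa using h (e.symm l)

theorem le_normalizer_map_iff (e : G ≃* G) {O L : Subgroup G} :
    O.map e.toMonoidHom ≤ normalizer (L.map e.toMonoidHom : Set G) ↔ O ≤ normalizer (L : Set G) := by
  constructor
  · intro h g hg
    have h1 := h (mem_map_of_mem e.toMonoidHom hg)
    rw [mem_normalizer_map_iff] at h1
    simpa using h1
  · rintro h _ ⟨g, hg, rfl⟩
    rw [mem_normalizer_map_iff]
    simpa using h hg

theorem CF_map_equiv (e : G ≃* G) (O L H : Subgroup G) :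
    CF (O.map e.toMonoidHom) (L.map e.toMonoidHom) (H.map e.toMonoidHom) = (CF O L H).map e.toMonoidHom := by
  ext y
  rw [mem_map_equiv, mem_CF, mem_CF, mem_map_equiv, mem_normalizer_map_iff]
  refine and_congr_right fun _ => and_congr_right fun _ => ?_
  constructor
  · intro h x hx
    have h1 := h (e x) (mem_map_of_mem e.toMonoidHom hx)
    rw [mem_map_equiv, map_commutatorElement] at h1
    simpa using h1
  · rintro h _ ⟨x, hx, rfl⟩
    rw [mem_map_equiv, map_commutatorElement]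
    simpa using h x hx

theorem map_symm_map (e : G ≃* G) (K : Subgroup G) :
    (K.map e.symm.toMonoidHom).map e.toMonoidHom = K := by
  ext y
  rw [mem_map_equiv, mem_map_equiv]
  simp

theorem Chf.map_equiv (e : G ≃* G) {O L H : Subgroup G} (h : Chf O L H) :
    Chf (O.map e.toMonoidHom) (L.map e.toMonoidHom) (H.map e.toMonoidHom) where
  lt := by
    refine lt_of_le_of_ne (map_mono h.lt.le) fun h1 => h.lt.ne ?_
    exact map_injective (f := e.toMonoidHom) e.injective h1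
  le := map_mono h.le
  nL := (le_normalizer_map_iff e).2 h.nL
  nH := (le_normalizer_map_iff e).2 h.nH
  min M h1 h2 h3 := by
    have e1 := map_symm_map e M
    rw [← e1] at h1 h2 h3 ⊢
    rw [le_normalizer_map_iff] at h1
    rw [map_le_map_iff_of_injective e.injective] at h2 h3
    rcases h.min _ h1 h2 h3 with h4 | h4
    · left; rw [h4]
    · right; rw [h4]

theorem wt_map_equiv (e : G ≃* G) (O L H : Subgroup G) :
    wt (O.map e.toMonoidHom) (L.map e.toMonoidHom) (H.map e.toMonoidHom) = wt O L H := by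
  have h1 : ⁅H.map e.toMonoidHom, H.map e.toMonoidHom⁆ ≤ L.map e.toMonoidHom ↔ ⁅H, H⁆ ≤ L := by
    rw [← map_commutator, map_le_map_iff_of_injective e.injective]
  have h2 : (CF (O.map e.toMonoidHom) (L.map e.toMonoidHom) (H.map e.toMonoidHom)).relIndex (O.map e.toMonoidHom) =
      (CF O L H).relIndex O := by
    rw [CF_map_equiv]
    exact relIndex_map_map_of_injective _ _ e.injective
  unfold wt
  rw [h2]
  by_cases h : ⁅H, H⁆ ≤ L
  · rw [if_pos h, if_pos (h1.2 h)]
  · rw [if_neg h, if_neg fun h' => h (h1.1 h')]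

theorem Act.map_equiv (e : G ≃* G) {d : ℕ} {L H : Subgroup G} (h : Act d L H) :
    Act d (L.map e.toMonoidHom) (H.map e.toMonoidHom) := by
  unfold Act at h ⊢
  rwa [relIndex_map_map_of_injective _ _ (f := e.toMonoidHom) e.injective]

end Cfsg.Agent.R2.T3544
end

-- part: R2/T3544/NLc
section
/-!
# S3544, case NL with arbitrary `O(x)`: the final assembly (proof by helper1, helper10)

Coprime functors `X` (soluble), `O` (arbitrary), both nontrivial, `O(x) ∩ G_y ≤ O(y)` for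
neighbours: impossible.
-/

set_option autoImplicit false
set_option linter.unusedSectionVars false

namespace Cfsg.Agent.R2.T3544

open Subgroup Cfsg MulAction
open scoped commutatorElement

/-- the hypotheses: coprime functors `X`, `O` with `X` soluble and `O(x) ∩ G_y ≤ O(y)` for neighbours -/
structure XU (G : Type*) [Group G] {Ω : Type*} [MulAction G Ω] (r : Ω → Ω → Prop) (X O : Ω → Subgroup G) : Prop where
  FX : Fun G X
  FO : Fun G O
  X1 : ∀ x, X x ≠ ⊥
  O1 : ∀ x, O x ≠ ⊥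
  cop : ∀ x y, (Nat.card (X x)).Coprime (Nat.card (O y))
  sol : ∀ x, Group.IsSolvable (X x)
  nb : ∀ {x y}, r x y → X y ≤ stabilizer G x
  sh : ∀ {x y}, r x y → O x ⊓ stabilizer G y ≤ O y

section

variable {G : Type*} [Group G] [Finite G] {Ω : Type*} [MulAction G Ω]

variable {ra rb : Ω → Ω → Prop} {da db : ℕ} {X O : Ω → Subgroup G}

theorem XU.norm {r : Ω → Ω → Prop} (h : XU G r X O) {x y : Ω} (hy : r x y) : X y ≤ normalizer (O x : Set G) :=
  (h.nb hy).trans (h.FO.norm x)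

theorem XU.inf_bot {r : Ω → Ω → Prop} (h : XU G r X O) (x y : Ω) : O x ⊓ X y = ⊥ := by
  rw [inf_comm]
  exact (disjoint_of_coprime_natCard (h.cop y x)).eq_bot

/-- `O(x) ∩ G_y` centralises `X(y)` -/
theorem XU.comm {r : Ω → Ω → Prop} (h : XU G r X O) {x y : Ω} (hy : r x y) :
    ⁅O x ⊓ stabilizer G y, X y⁆ = ⊥ := by
  rw [eq_bot_iff, ← h.inf_bot x y]
  refine le_inf ?_ ?_
  · exact (commutator_mono inf_le_left le_rfl).trans
      (le_normalizer_iff_commutator_le_left.1 (h.norm hy))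
  · exact (commutator_mono inf_le_right le_rfl).trans
      (le_normalizer_iff_commutator_le_right.1 (h.FX.norm y))

theorem XU.cent_le {r : Ω → Ω → Prop} (P : PP G Ω) (h : XU G r X O) (y : Ω) :
    centralizer (X y : Set G) ≤ stabilizer G y := h.FX.centralizer_le P (h.X1 y)

/-- `C_{O(x)}(X(y)) = O(x) ∩ G_y` -/
theorem XU.inf_cent {r : Ω → Ω → Prop} (P : PP G Ω) (h : XU G r X O) {x y : Ω} (hy : r x y) :
    O x ⊓ centralizer (X y : Set G) = O x ⊓ stabilizer G y := by
  refine le_antisymm (inf_le_inf_left _ (h.cent_le P y)) (le_inf inf_le_left ?_)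
  exact commutator_eq_bot_iff_le_centralizer.1 (h.comm hy)

theorem XU.inf_cent' {r : Ω → Ω → Prop} {d : ℕ} (P : PP G Ω) (D : Dir G r d) (h : XU G r X O) {x y : Ω}
    (hy : r x y) : O x ⊓ centralizer (X y : Set G) = O x ⊓ O y := by
  rw [h.inf_cent P hy]
  exact le_antisymm (le_inf inf_le_left (h.sh hy)) (inf_le_inf_left _ (h.FO.le y))

/-- the factorization of `O(x)` -/
theorem XU.sup {r : Ω → Ω → Prop} (h : XU G r X O) {x y : Ω} (hy : r x y) :
    ⁅O x, X y⁆ ⊔ (O x ⊓ centralizer (X y : Set G)) = O x :=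
  S0026.result (X y) (O x) (h.norm hy) (h.cop y x) (Or.inl (h.sol y))

theorem XU.fac {r : Ω → Ω → Prop} {d : ℕ} (P : PP G Ω) (D : Dir G r d) (h : XU G r X O) {x y : Ω} (hy : r x y)
    {g : G} (hg : g ∈ O x) : ∃ n ∈ Nf r X O x, ∃ o ∈ O x ⊓ O y, g = n * o := by
  have h2 : O x ⊓ centralizer (X y : Set G) ≤ normalizer ((⁅O x, X y⁆ : Subgroup G) : Set G) :=
    inf_le_left.trans (normalizer_commutator_ge_left (O x) (X y))
  rw [← h.sup hy] at hg
  obtain ⟨n, hn, o, ho, rfl⟩ := exists_mul_of_mem_sup h2 hg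
  rw [h.inf_cent' P D hy] at ho
  exact ⟨n, le_Nf hy hn, o, ho, rfl⟩

theorem XU.Nf_le_O {r : Ω → Ω → Prop} (h : XU G r X O) (x : Ω) : Nf r X O x ≤ O x :=
  Nf_le fun _ hy => le_normalizer_iff_commutator_le_left.1 (h.norm hy)

theorem XU.FN {r : Ω → Ω → Prop} {d : ℕ} (D : Dir G r d) (h : XU G r X O) : Fun G (Nf r X O) :=
  Fun.of_map_le (fun x => (h.Nf_le_O x).trans (h.FO.le x))
    (Nf_map_le h.FX h.FO fun g {_ _} hxy => D.smul g hxy)

/-- `[O(y), X(x)] ≠ 1` -/
theorem XU.comm_ne_bot {r : Ω → Ω → Prop} {d : ℕ} (P : PP G Ω) (D : Dir G r d) (h : XU G r X O) {x y : Ω}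
    (hy : r x y) : ⁅O x, X y⁆ ≠ ⊥ := by
  intro h1
  refine h.FO.not_le P D hy (h.O1 x) ?_
  have h2 := h.sup hy
  rw [h1, bot_sup_eq, h.inf_cent' P D hy] at h2
  rw [← h2]
  exact inf_le_right

/-- `N_a(x) ≤ M_b(x)` -/
theorem XU.Nf_le_Mk (B : Dir G rb db) (ha : XU G ra X O) (hma : ∀ {x y : Ω}, ra x y → X y ≤ Mk G rb x) (x : Ω) :
    Nf ra X O x ≤ Mk G rb x :=
  Nf_le fun _ hy => (commutator_mono le_rfl (hma hy)).trans
    (le_normalizer_iff_commutator_le_right.1 ((ha.FO.le x).trans (B.Mk_norm x)))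

/-- `[N_b(x), N_a(x)] = 1` -/
theorem XU.Nf_comm (A : Dir G ra da) (B : Dir G rb db) (ha : XU G ra X O) (hb : XU G rb X O)
    (hma : ∀ {x y : Ω}, ra x y → X y ≤ Mk G rb x) (x : Ω) : ⁅Nf rb X O x, Nf ra X O x⁆ = ⊥ := by
  rw [commutator_eq_bot_iff_le_centralizer]
  refine Nf_le fun w hw => ?_
  rw [← commutator_eq_bot_iff_le_centralizer]
  have h1 : ⁅Nf ra X O x, X w⁆ = ⊥ := by
    rw [eq_bot_iff, ← hb.comm hw]
    exact commutator_mono (le_inf (ha.Nf_le_O x) ((ha.Nf_le_Mk B hma x).trans (Mk_le_nbr hw))) le_rfl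
  apply commutator_commutator_eq_bot_of_rotate
  · rw [commutator_comm (X w), h1, commutator_bot_left]
  · rw [eq_bot_iff, ← h1]
    refine commutator_mono ?_ le_rfl
    exact le_normalizer_iff_commutator_le_left.1 ((ha.FO.le x).trans ((ha.FN A).norm x))

/-- the index of `C_{O(y)}(X(x))` in `O(y)` divides `d` -/
theorem XU.idx {r : Ω → Ω → Prop} {d : ℕ} (P : PP G Ω) (D : Dir G r d) (h : XU G r X O) {x y : Ω} (hy : r x y) :
    (O x ⊓ centralizer (X y : Set G)).relIndex (O x) ∣ d := by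
  rw [h.inf_cent P hy, inf_comm, inf_relIndex_right, ← D.idx hy]
  exact (SubnIn.of_normal (h.FO.le x) (h.FO.norm x)).relIndex_dvd (stabilizer G y)

end

/-! ### The statements used -/

/-- Lemma D -/
def LemDStmt (G : Type*) [Group G] : Prop :=
  ∀ {O X N2 L H : Subgroup G} {d1 d2 : ℕ}, X ≤ normalizer (O : Set G) → (Nat.card X).Coprime (Nat.card O) →
    Group.IsSolvable X → (O ⊓ centralizer (X : Set G)).relIndex O ∣ d1 → d1.Coprime d2 →
    N2 ≤ O ⊓ centralizer (X : Set G) → O ⊓ centralizer (X : Set G) ≤ normalizer (N2 : Set G) →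
    Chf (O ⊓ centralizer (X : Set G)) L H → N2 ⊓ centralizer ((⁅O, X⁆ : Subgroup G) : Set G) ≤ L → H ≤ N2 →
    Act d2 L H → ∃ M' M1, Chf O M' M1 ∧ M1 ≤ ⁅O, X⁆ ∧ Act d1 M' M1 ∧ wt (O ⊓ centralizer (X : Set G)) L H < wt O M' M1

/-- C1: the residual -/
def ResidStmt (G : Type*) [Group G] : Prop :=
  ∀ {O N2 : Subgroup G} (d r : ℕ), O ≤ normalizer (N2 : Set G) → N2 ≤ O →
    ∃ R : Subgroup G, R ≤ N2 ∧ O ≤ normalizer (R : Set G) ∧
      (∀ L H, Chf O L H → R ≤ L → H ≤ N2 → Act d L H → wt O L H ≠ r) ∧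
      ∀ R' : Subgroup G, R' ≤ N2 → O ≤ normalizer (R' : Set G) →
        (∀ L H, Chf O L H → R' ≤ L → H ≤ N2 → Act d L H → wt O L H ≠ r) → R ≤ R'

/-- C2: change of the acting group -/
def CoverStmt (G : Type*) [Group G] : Prop :=
  ∀ {O A N2 : Subgroup G}, A ≤ O → N2 ≤ A → (∀ g ∈ O, ∃ n ∈ O ⊓ centralizer (N2 : Set G), ∃ a ∈ A, g = n * a) →
    ∀ {L H : Subgroup G}, L ≤ N2 → H ≤ N2 → Chf O L H → Chf A L H ∧ wt A L H = wt O L H

/-- (Top): there is an active chief factor -/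
def TopStmt (G : Type*) [Group G] : Prop :=
  ∀ {O X : Subgroup G} {d : ℕ}, X ≤ normalizer (O : Set G) → (Nat.card X).Coprime (Nat.card O) →
    Group.IsSolvable X → (O ⊓ centralizer (X : Set G)).relIndex O ∣ d → ⁅O, X⁆ ≠ ⊥ →
    ∃ L H, Chf O L H ∧ H ≤ ⁅O, X⁆ ∧ Act d L H

section

variable {G : Type*} [Group G] [Finite G] {Ω : Type*} [MulAction G Ω]

variable {ra rb : Ω → Ω → Prop} {da db : ℕ} {X O : Ω → Subgroup G}

/-- `N_b(x) ≤ O(x) ∩ O(y)` for `y ~_a x` -/
theorem XU.Nf_le_inf (P : PP G Ω) (A : Dir G ra da) (ha : XU G ra X O) (hb : XU G rb X O)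
    (hmb : ∀ {x y : Ω}, rb x y → X y ≤ Mk G ra x) {x y : Ω} (hy : ra x y) : Nf rb X O x ≤ O x ⊓ O y :=
  le_inf (hb.Nf_le_O x) ((le_inf (hb.Nf_le_O x) ((hb.Nf_le_Mk A hmb x).trans (Mk_le_nbr hy))).trans (ha.sh hy))

/-- the main step: a chief factor of `N_b(x)` not centralised by `[O(y), X(x)]` has smaller weight than one in `N_a(y)` -/
theorem XU.step (LD : LemDStmt G) (CV : CoverStmt G) (P : PP G Ω) (A : Dir G ra da) (B : Dir G rb db)
    (hc : da.Coprime db) (ha : XU G ra X O) (hb : XU G rb X O)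
    (hma : ∀ {x y : Ω}, ra x y → X y ≤ Mk G rb x) (hmb : ∀ {x y : Ω}, rb x y → X y ≤ Mk G ra x)
    {x y : Ω} (hy : ra x y) {L H : Subgroup G} (hC : Chf (O x) L H)
    (hL : Nf rb X O x ⊓ centralizer ((⁅O y, X x⁆ : Subgroup G) : Set G) ≤ L) (hH : H ≤ Nf rb X O x)
    (hact : Act db L H) :
    ∃ M' M1, Chf (O y) M' M1 ∧ M1 ≤ Nf ra X O y ∧ Act da M' M1 ∧ wt (O x) L H < wt (O y) M' M1 := by
  have hyx := A.symm hy
  have hAe : O y ⊓ centralizer (X x : Set G) = O x ⊓ O y := by rw [ha.inf_cent' P A hyx, inf_comm]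
  have hN2 := XU.Nf_le_inf P A ha hb hmb hy
  have hcov : ∀ g ∈ O x, ∃ n ∈ O x ⊓ centralizer (Nf rb X O x : Set G), ∃ a ∈ O x ⊓ O y, g = n * a := by
    intro g hg
    obtain ⟨n, hn, o, ho, e⟩ := ha.fac P A hy hg
    refine ⟨n, ⟨ha.Nf_le_O x hn, ?_⟩, o, ho, e⟩
    have h1 := XU.Nf_comm A B ha hb hma x
    rw [commutator_comm] at h1
    exact commutator_eq_bot_iff_le_centralizer.1 h1 hn
  obtain ⟨h1, h2⟩ := CV inf_le_left hN2 hcov (hC.lt.le.trans hH) hH hC
  rw [← hAe] at h1 h2 hN2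
  have hnorm : O y ⊓ centralizer (X x : Set G) ≤ normalizer (Nf rb X O x : Set G) := by
    rw [hAe]
    exact inf_le_left.trans ((hb.FO.le x).trans ((hb.FN B).norm x))
  obtain ⟨M', M1, k1, k2, k3, k4⟩ := LD (ha.norm hyx) (ha.cop x y) (ha.sol x) (ha.idx P A hyx) hc hN2 hnorm h1 hL hH hact
  exact ⟨M', M1, k1, k2.trans (le_Nf hyx), k3, h2 ▸ k4⟩

/-- the contradiction when the largest weight is attained in `N_b(x)` -/
theorem XU.false_of_max (LD : LemDStmt G) (CV : CoverStmt G) (RS : ResidStmt G) (P : PP G Ω) (A : Dir G ra da)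
    (B : Dir G rb db) (hc : da.Coprime db) (ha : XU G ra X O) (hb : XU G rb X O)
    (hma : ∀ {x y : Ω}, ra x y → X y ≤ Mk G rb x) (hmb : ∀ {x y : Ω}, rb x y → X y ≤ Mk G ra x)
    {r : ℕ} {x : Ω} {L₀ H₀ : Subgroup G} (h₀ : Chf (O x) L₀ H₀) (h₀N : H₀ ≤ Nf rb X O x) (h₀a : Act db L₀ H₀)
    (h₀w : wt (O x) L₀ H₀ = r)
    (hmax : ∀ (y : Ω) (L H : Subgroup G), Chf (O y) L H → H ≤ Nf ra X O y → Act da L H → wt (O y) L H ≤ r) :
    False := by
  have hOn : O x ≤ normalizer (Nf rb X O x : Set G) := (hb.FO.le x).trans ((hb.FN B).norm x)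
  obtain ⟨R, hR1, hR2, hR3, hR4⟩ := RS db r hOn (hb.Nf_le_O x)
  have hRne : R ≠ ⊥ := by
    rintro rfl
    exact hR3 L₀ H₀ h₀ bot_le h₀N h₀a h₀w
  have hRx : R ≤ stabilizer G x := hR1.trans ((hb.Nf_le_O x).trans (hb.FO.le x))
  have hRn : stabilizer G x ≤ normalizer (R : Set G) := by
    have key : ∀ g ∈ stabilizer G x, R ≤ R.map (MulAut.conj g).toMonoidHom := by
      intro g hg
      have eO : (O x).map (MulAut.conj g).toMonoidHom = O x := by
        rw [← hb.FO.smul, mem_stabilizer_iff.1 hg]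
      have eN : (Nf rb X O x).map (MulAut.conj g).toMonoidHom = Nf rb X O x := by
        rw [← (hb.FN B).smul, mem_stabilizer_iff.1 hg]
      refine hR4 _ ?_ ?_ ?_
      · rw [← eN]
        exact map_mono hR1
      · rw [← eO]
        exact (le_normalizer_map_iff (MulAut.conj g)).2 hR2
      · intro L H hC hRL hH hact hw
        have eO' : (O x).map (MulAut.conj g).symm.toMonoidHom = O x := by
          conv_lhs => rw [← eO]
          rw [map_map]
          have : (MulAut.conj g).symm.toMonoidHom.comp (MulAut.conj g).toMonoidHom = MonoidHom.id G := by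
            ext t; simp
          rw [this, map_id]
        have eN' : (Nf rb X O x).map (MulAut.conj g).symm.toMonoidHom = Nf rb X O x := by
          conv_lhs => rw [← eN]
          rw [map_map]
          have : (MulAut.conj g).symm.toMonoidHom.comp (MulAut.conj g).toMonoidHom = MonoidHom.id G := by
            ext t; simp
          rw [this, map_id]
        have eR' : (R.map (MulAut.conj g).toMonoidHom).map (MulAut.conj g).symm.toMonoidHom = R := by
          rw [map_map]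
          have : (MulAut.conj g).symm.toMonoidHom.comp (MulAut.conj g).toMonoidHom = MonoidHom.id G := by
            ext t; simp
          rw [this, map_id]
        have h1 := hC.map_equiv (MulAut.conj g).symm
        have h2 := wt_map_equiv (MulAut.conj g).symm (O x) L H
        rw [eO'] at h1 h2
        refine hR3 _ _ h1 ?_ ?_ (hact.map_equiv (MulAut.conj g).symm) (h2.trans hw)
        · rw [← eR']
          exact map_mono hRL
        · rw [← eN']
          exact map_mono hH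
    refine le_normalizer_of_map_le fun g hg => ?_
    have h1 := map_mono (f := (MulAut.conj g).toMonoidHom) (key g⁻¹ ((stabilizer G x).inv_mem hg))
    have h2 := map_map_conj_inv R g⁻¹
    rw [inv_inv] at h2
    rwa [h2] at h1
  obtain ⟨y, hy⟩ := A.ex x
  have hyx := A.symm hy
  have hRC : R ≤ Nf rb X O x ⊓ centralizer ((⁅O y, X x⁆ : Subgroup G) : Set G) := by
    refine hR4 _ inf_le_left ?_ ?_
    · intro g hg
      obtain ⟨n, hn, o, ho, rfl⟩ := ha.fac P A hy hg
      refine mul_mem ?_ ?_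
      · have h1 := XU.Nf_comm A B ha hb hma x
        rw [commutator_comm] at h1
        have h2 := commutator_eq_bot_iff_le_centralizer.1 h1 hn
        exact cent_le_norm _ (centralizer_le (fun t ht => (mem_inf.1 ht).1) h2)
      · have h1 : o ∈ normalizer (Nf rb X O x : Set G) := hOn ho.1
        have h2 : o ∈ normalizer ((⁅O y, X x⁆ : Subgroup G) : Set G) := normalizer_commutator_ge_left _ _ ho.2
        rw [mem_normalizer_iff] at h1 h2 ⊢
        intro t
        have key : ∀ {o t : G}, (∀ s, s ∈ ⁅O y, X x⁆ ↔ o * s * o⁻¹ ∈ ⁅O y, X x⁆) →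
            t ∈ centralizer ((⁅O y, X x⁆ : Subgroup G) : Set G) →
            o * t * o⁻¹ ∈ centralizer ((⁅O y, X x⁆ : Subgroup G) : Set G) := by
          intro o t h ht
          rw [mem_centralizer_iff] at ht ⊢
          intro s hs
          have h3 : o⁻¹ * s * o ∈ ⁅O y, X x⁆ := by
            rw [h]
            have e : o * (o⁻¹ * s * o) * o⁻¹ = s := by group
            rw [e]
            exact hs
          have h4 := ht _ h3
          calc s * (o * t * o⁻¹) = o * ((o⁻¹ * s * o) * t) * o⁻¹ := by group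
            _ = o * (t * (o⁻¹ * s * o)) * o⁻¹ := by rw [h4]
            _ = o * t * o⁻¹ * s := by group
        constructor
        · rintro ⟨ht1, ht2⟩
          exact ⟨(h1 t).1 ht1, key h2 ht2⟩
        · rintro ⟨ht1, ht2⟩
          refine ⟨(h1 t).2 ht1, ?_⟩
          have h3 : ∀ s, s ∈ ⁅O y, X x⁆ ↔ o⁻¹ * s * o⁻¹⁻¹ ∈ ⁅O y, X x⁆ := by
            intro s
            rw [h2 (o⁻¹ * s * o⁻¹⁻¹)]
            have e : o * (o⁻¹ * s * o⁻¹⁻¹) * o⁻¹ = s := by group
            rw [e]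
          have h4 := key h3 ht2
          have e : o⁻¹ * (o * t * o⁻¹) * o⁻¹⁻¹ = t := by group
          rwa [e] at h4
    · intro L H hC hCL hH hact hw
      obtain ⟨M', M1, k1, k2, k3, k4⟩ := XU.step LD CV P A B hc ha hb hma hmb hy hC hCL hH hact
      have := hmax y M' M1 k1 k2 k3
      omega
  -- `O(y) ≤ G_x`
  have hcen : ⁅O y, X x⁆ ≤ stabilizer G x := by
    have h1 : ⁅O y, X x⁆ ≤ centralizer (R : Set G) := le_centralizer_iff.1 (hRC.trans inf_le_right)
    exact h1.trans ((cent_le_norm R).trans (P.norm x R hRx hRne hRn))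
  have hOy : O y ≤ stabilizer G x := by
    rw [← ha.sup hyx]
    exact sup_le hcen (inf_le_right.trans (ha.cent_le P x))
  exact ha.FO.not_le P A hyx (ha.O1 y) ((le_inf le_rfl hOy).trans (ha.sh hyx))

theorem wt_le (O L H : Subgroup G) : wt O L H ≤ 2 * Nat.card G + 1 := by
  unfold wt
  have h1 : (CF O L H).relIndex O ≤ Nat.card G :=
    (Nat.le_of_dvd Nat.card_pos (relIndex_dvd_card _ _)).trans (card_le_card_group O)
  split_ifs <;> omega

theorem false_of_XU [Nonempty Ω] (LD : LemDStmt G) (CV : CoverStmt G) (RS : ResidStmt G) (TS : TopStmt G)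
    (P : PP G Ω) (A : Dir G ra da) (B : Dir G rb db) (hc : da.Coprime db) (ha : XU G ra X O) (hb : XU G rb X O)
    (hma : ∀ {x y : Ω}, ra x y → X y ≤ Mk G rb x) (hmb : ∀ {x y : Ω}, rb x y → X y ≤ Mk G ra x) : False := by
  classical
  let S : Set ℕ := {n | (∃ (x : Ω) (L H : Subgroup G), Chf (O x) L H ∧ H ≤ Nf ra X O x ∧ Act da L H ∧ wt (O x) L H = n) ∨
    ∃ (x : Ω) (L H : Subgroup G), Chf (O x) L H ∧ H ≤ Nf rb X O x ∧ Act db L H ∧ wt (O x) L H = n}
  have hne : S.Nonempty := by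
    have x : Ω := Classical.arbitrary Ω
    obtain ⟨y, hy⟩ := A.ex x
    obtain ⟨L, H, h1, h2, h3⟩ := TS (ha.norm hy) (ha.cop y x) (ha.sol y) (ha.idx P A hy) (ha.comm_ne_bot P A hy)
    exact ⟨_, Or.inl ⟨x, L, H, h1, h2.trans (le_Nf hy), h3, rfl⟩⟩
  have hbd : BddAbove S := by
    refine ⟨2 * Nat.card G + 1, ?_⟩
    rintro n (⟨x, L, H, -, -, -, rfl⟩ | ⟨x, L, H, -, -, -, rfl⟩) <;> exact wt_le _ _ _
  have hmem := Nat.sSup_mem hne hbd
  have hle : ∀ n ∈ S, n ≤ sSup S := fun n hn => le_csSup hbd hn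
  rcases hmem with ⟨x, L, H, h1, h2, h3, h4⟩ | ⟨x, L, H, h1, h2, h3, h4⟩
  · exact XU.false_of_max LD CV RS P B A hc.symm hb ha hmb hma h1 h2 h3 h4 fun y L' H' k1 k2 k3 =>
      hle _ (Or.inr ⟨y, L', H', k1, k2, k3, rfl⟩)
  · exact XU.false_of_max LD CV RS P A B hc ha hb hma hmb h1 h2 h3 h4 fun y L' H' k1 k2 k3 =>
      hle _ (Or.inl ⟨y, L', H', k1, k2, k3, rfl⟩)

/-- coprime functors `X`, `O`, both nontrivial, `X` soluble, `O(x) ∩ G_y ≤ O(y)`: impossible -/
theorem false_of_functorsU [Nonempty Ω] (LD : LemDStmt G) (CV : CoverStmt G) (RS : ResidStmt G) (TS : TopStmt G)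
    (P : PP G Ω) (A : Dir G ra da) (B : Dir G rb db) (hc : da.Coprime db)
    (FX : Fun G X) (FO : Fun G O) (X1 : ∀ x, X x ≠ ⊥) (O1 : ∀ x, O x ≠ ⊥)
    (cop : ∀ x y, (Nat.card (X x)).Coprime (Nat.card (O y)))
    (hXa : ∀ x, (Nat.card (X x)).Coprime da) (hXb : ∀ x, (Nat.card (X x)).Coprime db)
    (sol : ∀ x, Group.IsSolvable (X x))
    (sha : ∀ {x y : Ω}, ra x y → O x ⊓ stabilizer G y ≤ O y)
    (shb : ∀ {x y : Ω}, rb x y → O x ⊓ stabilizer G y ≤ O y) : False := by
  have hsub : ∀ x, SubnIn (X x) (stabilizer G x) := fun x => SubnIn.of_normal (FX.le x) (FX.norm x)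
  have hna : ∀ x, ¬ HasIdx (X x) da := fun x => not_hasIdx_of_card_dvd dvd_rfl (hXa x)
  have hnb : ∀ x, ¬ HasIdx (X x) db := fun x => not_hasIdx_of_card_dvd dvd_rfl (hXb x)
  have h1 : ∀ {x y : Ω}, ra x y → X y ≤ stabilizer G x := fun {x y} hxy =>
    (A.le_Mk_of_subn (hsub y) (hna y)).trans (Mk_le_nbr (A.symm hxy))
  have h2 : ∀ {x y : Ω}, rb x y → X y ≤ stabilizer G x := fun {x y} hxy =>
    (B.le_Mk_of_subn (hsub y) (hnb y)).trans (Mk_le_nbr (B.symm hxy))
  have h3 : ∀ {x y : Ω}, ra x y → X y ≤ Mk G rb x := fun {x y} hxy =>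
    A.le_Mk_of_subn' B hc hxy (hsub y) (h1 hxy) (hnb y)
  have h4 : ∀ {x y : Ω}, rb x y → X y ≤ Mk G ra x := fun {x y} hxy =>
    B.le_Mk_of_subn' A hc.symm hxy (hsub y) (h2 hxy) (hna y)
  exact false_of_XU LD CV RS TS P A B hc ⟨FX, FO, X1, O1, cop, sol, h1, sha⟩ ⟨FX, FO, X1, O1, cop, sol, h2, shb⟩ h3 h4

end

end Cfsg.Agent.R2.T3544
end

-- part: R2/T3544/ResFun
section
/-!
# S3544: the residual for `Act d` and weight `r`; equivariance
-/

set_option autoImplicit false
set_option linter.unusedSectionVars false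

namespace Cfsg.Agent.R2.T3544

open Subgroup MulAction
open scoped commutatorElement

namespace Resid

variable {G : Type*} [Group G]

theorem act_map (d : ℕ) (L H : Subgroup G) (g : G) :
    Act d (L.map (MulAut.conj g).toMonoidHom) (H.map (MulAut.conj g).toMonoidHom) ↔ Act d L H := by
  rw [Act, Act, relIndex_map_map_of_injective _ _ (MulAut.conj g).injective]

theorem wt_map (O L H : Subgroup G) (g : G) :
    wt (O.map (MulAut.conj g).toMonoidHom) (L.map (MulAut.conj g).toMonoidHom)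
      (H.map (MulAut.conj g).toMonoidHom) = wt O L H := by
  classical
  have h1 : ⁅H.map (MulAut.conj g).toMonoidHom, H.map (MulAut.conj g).toMonoidHom⁆ ≤
      L.map (MulAut.conj g).toMonoidHom ↔ ⁅H, H⁆ ≤ L := by
    rw [← map_commutator, map_conj_le_iff]
  unfold wt
  rw [← map_CF, relIndex_map_map_of_injective _ _ (MulAut.conj g).injective]
  by_cases h2 : ⁅H, H⁆ ≤ L
  · rw [if_pos h2, if_pos (h1.2 h2)]
  · rw [if_neg h2, if_neg (fun h3 => h2 (h1.1 h3))]

theorem inf_sup_eq {O L H D : Subgroup G} (h : Chf O L H) (hD : O ≤ normalizer (D : Set G)) (h1 : H ⊓ D ≤ L) :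
    H ⊓ (L ⊔ D) = L := by
  rcases h.alt hD with h2 | h2
  · exact h2
  · exfalso
    have h3 := h.down_eq hD h2
    rw [sup_eq_right.2 h1] at h3
    exact h.lt.ne h3

theorem le_sup_of {L H D : Subgroup G} (h1 : H ≤ L ⊔ H ⊓ D) : H ≤ L ⊔ D :=
  h1.trans (sup_le_sup_left inf_le_right _)

/-- the residual of `N` for `Act d` and weight `r` -/
noncomputable def resW (O N : Subgroup G) (d r : ℕ) : Subgroup G := res O N (fun L H => Act d L H ∧ wt O L H = r)

theorem resW_noCF [Finite G] {O N : Subgroup G} (hNO : N ≤ O) (hN : O ≤ normalizer (N : Set G)) (d r : ℕ) :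
    NoCF O N (fun L H => Act d L H ∧ wt O L H = r) (resW O N d r) := by
  apply noCF_res hNO hN
  · intro L H D h hD hDO h1 hp
    have hi := h.iso_up hD hDO (inf_sup_eq h hD h1)
    exact ⟨hi.act.2 hp.1, hi.wt.trans hp.2⟩
  · intro L H D h hD _ h1 hp
    have hi := h.iso_down hD (le_sup_of h1)
    exact ⟨hi.act.1 hp.1, hi.wt.symm.trans hp.2⟩

theorem resW_le {O N : Subgroup G} (hN : O ≤ normalizer (N : Set G)) (d r : ℕ) : resW O N d r ≤ N :=
  res_le_of (noCF_self hN _)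

/-- if the residual is not contained in the `O`-normal subgroup `C`, there is a chief factor above `C` -/
theorem exists_of_not_le {O N C : Subgroup G} {d r : ℕ} (hC : C ≤ N) (hn : O ≤ normalizer (C : Set G))
    (h : ¬ resW O N d r ≤ C) : ∃ L H : Subgroup G, Chf O L H ∧ C ≤ L ∧ H ≤ N ∧ Act d L H ∧ wt O L H = r := by
  by_contra hc
  push Not at hc
  exact h (res_le_of ⟨hC, hn, fun L H h1 h2 h3 h4 => hc L H h1 h2 h3 h4.1 h4.2⟩)

/-- the residual is nontrivial if `r` is attained -/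
theorem resW_ne_bot [Finite G] {O N L H : Subgroup G} (hNO : N ≤ O) (hN : O ≤ normalizer (N : Set G)) {d r : ℕ}
    (hc : Chf O L H) (hH : H ≤ N) (ha : Act d L H) (hr : wt O L H = r) : resW O N d r ≠ ⊥ := by
  intro h
  have h1 := (resW_noCF hNO hN d r).2.2 L H hc (by rw [h]; exact bot_le) hH
  exact h1 ⟨ha, hr⟩

theorem resW_map (O N : Subgroup G) (d r : ℕ) (g : G) :
    resW (O.map (MulAut.conj g).toMonoidHom) (N.map (MulAut.conj g).toMonoidHom) d r =
      (resW O N d r).map (MulAut.conj g).toMonoidHom :=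
  res_map g fun L H => by rw [act_map, wt_map]

end Resid

open Resid in
/-- the residual is a functor -/
theorem Fun.resW {G : Type*} [Group G] {Ω : Type*} [MulAction G Ω] {O N : Ω → Subgroup G} (hO : Fun G O)
    (hN : Fun G N) (d r : ℕ) : Fun G (fun x => resW (O x) (N x) d r) where
  le x := (resW_le ((hO.le x).trans (hN.norm x)) d r).trans (hN.le x)
  smul g x := by rw [hO.smul, hN.smul, resW_map]

end Cfsg.Agent.R2.T3544
end

-- part: R2/T3544/Top
section
/-!
# S3544, box D: an active chief factor inside `[O, X]`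
-/

set_option autoImplicit false

namespace Cfsg.Agent.R2.T3544

open Subgroup
open scoped commutatorElement

variable {G : Type*} [Group G]

/-- If the soluble group `X` acts coprimely on `O`, `|O : C_O(X)|` divides `d` and `[O, X] ≠ 1`, then `|[O, X]|` is not
coprime to `d`. -/
theorem act_comm [Finite G] {O X : Subgroup G} {d : ℕ} (hX : X ≤ normalizer (O : Set G))
    (hc : (Nat.card X).Coprime (Nat.card O)) (hs : Group.IsSolvable X)
    (hi : (O ⊓ centralizer (X : Set G)).relIndex O ∣ d) (hN : (⁅O, X⁆ : Subgroup G) ≠ ⊥) :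
    Act d ⊥ (⁅O, X⁆ : Subgroup G) := by
  intro h
  have h1 := S0026.result X O hX hc (Or.inl hs)
  have h2 : O ⊓ centralizer (X : Set G) ≤ normalizer ((⁅O, X⁆ : Subgroup G) : Set G) :=
    inf_le_left.trans (normalizer_commutator_ge_left O X)
  have h3 : (⁅O, X⁆ : Subgroup G) ≤ O := le_normalizer_iff_commutator_le_left.1 hX
  have h4 : (O ⊓ centralizer (X : Set G)).relIndex ⁅O, X⁆ = (O ⊓ centralizer (X : Set G)).relIndex O := by
    refine Resid.relIndex_eq_of_cover h3 fun g hg => ?_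
    rw [← h1] at hg
    obtain ⟨n, hn, o, ho, rfl⟩ := Resid.exists_mul h2 hg
    exact ⟨n, hn, by rw [inv_mul_cancel_left]; exact ho⟩
  have h5 : (O ⊓ centralizer (X : Set G)).relIndex O ∣ (⊥ : Subgroup G).relIndex ⁅O, X⁆ := by
    rw [← h4, relIndex_bot_left]
    exact relIndex_dvd_card _ _
  have h6 : (O ⊓ centralizer (X : Set G)).relIndex O = 1 := Nat.eq_one_of_dvd_coprimes h h5 hi
  have h7 : O ≤ centralizer (X : Set G) := (relIndex_eq_one.1 h6).trans inf_le_right
  exact hN (commutator_eq_bot_iff_le_centralizer.2 h7)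

/-- Box D: a chief factor of `O` inside `[O, X]` whose order is not coprime to `d`. -/
theorem exists_act [Finite G] {O X : Subgroup G} {d : ℕ} (hX : X ≤ normalizer (O : Set G))
    (hc : (Nat.card X).Coprime (Nat.card O)) (hs : Group.IsSolvable X)
    (hi : (O ⊓ centralizer (X : Set G)).relIndex O ∣ d) (hN : (⁅O, X⁆ : Subgroup G) ≠ ⊥) :
    ∃ L H : Subgroup G, Chf O L H ∧ H ≤ (⁅O, X⁆ : Subgroup G) ∧ Act d L H := by
  obtain ⟨L, H, h1, -, h3, h4⟩ := Resid.exists_chf_act (O := O) (L := ⊥) (H := ⁅O, X⁆)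
    (le_top.trans (normalizer_eq_top_iff.2 (inferInstance : (⊥ : Subgroup G).Normal)).ge)
    (normalizer_commutator_ge_left O X) (le_normalizer_iff_commutator_le_left.1 hX) bot_le
    (act_comm hX hc hs hi hN)
  exact ⟨L, H, h1, h3, h4⟩

end Cfsg.Agent.R2.T3544
end

-- part: R2/T3544/NLcIn
section
/-!
# S3544: the residual and covering statements used in `NLc`
-/

set_option autoImplicit false

namespace Cfsg.Agent.R2.T3544

open Subgroup MulAction
open scoped commutatorElement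

variable {G : Type*} [Group G] [Finite G]

theorem residStmt : ResidStmt G := by
  intro O N2 d r hO hN
  have h1 := Resid.resW_noCF hN hO d r
  exact ⟨Resid.resW O N2 d r, h1.1, h1.2.1, fun L H i1 i2 i3 i4 i5 => h1.2.2 L H i1 i2 i3 ⟨i4, i5⟩,
    fun R' i1 i2 i3 => Resid.res_le_of ⟨i1, i2, fun L H j1 j2 j3 j4 => i3 L H j1 j2 j3 j4.1 j4.2⟩⟩

theorem coverStmt : CoverStmt G := by
  intro O A N2 hAO hNA hcov L H hL hH hC
  have hO : ∀ g ∈ O, ∃ a ∈ A, ∃ c ∈ O ⊓ centralizer (N2 : Set G), g = a * c := by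
    intro g hg
    obtain ⟨n, hn, a, ha, e⟩ := hcov g⁻¹ (O.inv_mem hg)
    refine ⟨a⁻¹, A.inv_mem ha, n⁻¹, inv_mem hn, ?_⟩
    rw [← inv_inv g, e, mul_inv_rev]
  exact ⟨(Resid.chf_iff hAO hNA hO hH).2 hC, Resid.wt_eq hAO hO hC.lt.le hH⟩

theorem topStmt : TopStmt G := by
  intro O X d h1 h2 h3 h4 h5
  exact exists_act h1 h2 h3 h4 h5

end Cfsg.Agent.R2.T3544
end

-- part: R2/T3544/NLcFin
section
/-!
# S3544: the coprime functor theorem, without hypotheses
-/

set_option autoImplicit false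

namespace Cfsg.Agent.R2.T3544

open Subgroup MulAction

variable {G : Type*} [Group G] [Finite G]

theorem lemDStmt : LemDStmt G := by
  intro O X N2 L H d1 d2 hX hc hs hi hd h2 hn hC hL hH ha
  have h : DSet O X (O ⊓ centralizer (X : Set G)) ⁅O, X⁆ N2 d1 d2 :=
    ⟨hX, rfl, rfl, CopLem.comm_comm hX hc hs, h2, hn, hi, hd⟩
  exact lemD h hL hC hH ha

variable {Ω : Type*} [MulAction G Ω] {ra rb : Ω → Ω → Prop} {da db : ℕ} {X O : Ω → Subgroup G}

/-- coprime functors `X`, `O`, both nontrivial, `X` soluble, `O(x) ∩ G_y ≤ O(y)`: impossible -/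
theorem false_of_coprime_functors [Nonempty Ω]
    (P : PP G Ω) (A : Dir G ra da) (B : Dir G rb db) (hc : da.Coprime db)
    (FX : Fun G X) (FO : Fun G O) (X1 : ∀ x, X x ≠ ⊥) (O1 : ∀ x, O x ≠ ⊥)
    (cop : ∀ x y, (Nat.card (X x)).Coprime (Nat.card (O y)))
    (hXa : ∀ x, (Nat.card (X x)).Coprime da) (hXb : ∀ x, (Nat.card (X x)).Coprime db)
    (sol : ∀ x, Group.IsSolvable (X x))
    (sha : ∀ {x y : Ω}, ra x y → O x ⊓ stabilizer G y ≤ O y)
    (shb : ∀ {x y : Ω}, rb x y → O x ⊓ stabilizer G y ≤ O y) : False :=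
  false_of_functorsU lemDStmt coverStmt residStmt topStmt P A B hc FX FO X1 O1 cop hXa hXb sol sha shb

end Cfsg.Agent.R2.T3544
end
end

-- part: T44/Cl/Key1
section
prune_inst 0x343065445540000000000502700000207800000201000c00cc400a040b09a0220d00284009800013182081880000002813cc0030420000000a0004000806040108800200b1480000000096000080000000000000000000000000000000000000200000000
set_option linter.all false
open scoped Cfsg.Agent.FastGrp

/-!
# S3544, classical groups: the isometry groups of classical spaces are big or small (helper34)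
-/

set_option autoImplicit false

namespace Cfsg.Agent.T44.Cl

open Cfsg Matrix Cfsg.Agent.DS.Cl.Vec
open scoped MatrixGroups commutatorElement

/-- big or small -/
def Dich (Y : Type*) [Group Y] : Prop := Bg (commutator Y) ∨ Sm Y

theorem Dich.congr {X Y : Type*} [Group X] [Group Y] (h : Dich X) (e : X ≃* Y) : Dich Y :=
  h.imp (fun h => h.comm_congr e) fun h => h.congr e

theorem Bg.comm_of_perfect {X : Type*} [Group X] (h : Bg X) (hp : commutator X = ⊤) : Bg (commutator X) :=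
  h.of_hom (MonoidHom.id X) Function.injective_id (by rw [hp]; exact MonoidHom.range_eq_top.2 Function.surjective_id)

theorem range_eq_comm {X Y : Type*} [Group X] [Group Y] (f : X →* Y) (hp : commutator X = ⊤)
    (h : commutator Y ≤ f.range) : f.range = commutator Y := by
  refine le_antisymm ?_ h
  rw [MonoidHom.range_eq_map, ← hp, commutator_def, commutator_def, Subgroup.map_commutator]
  exact Subgroup.commutator_mono le_top le_top

variable {K : Type*} [Field K] [Fintype K]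

theorem sl2_perfect (h : 4 ≤ Fintype.card K) : commutator SL(2, K) = ⊤ := by
  obtain ⟨a, ha, ha'⟩ := exists_sq_ne h
  exact SL2.commutator_eq_top ha ha'

theorem bg_sl2 (h : 4 ≤ Fintype.card K) : Bg SL(2, K) :=
  Bg.of_perfect (sl2_perfect h) (TwoFusion.SLTwoFacts.isSimpleGroup_psl h)

theorem nsol_psl2 (h : 4 ≤ Fintype.card K) : NSol PSL(2, K) := by
  have := TwoFusion.SLTwoFacts.isSimpleGroup_psl (F := K) h
  refine NSol.of_simple fun hc => (bg_sl2 h).nsol ?_
  have h1 : Group.IsSolvable PSL(2, K) := Group.isSolvable_of_comm hc.1.1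
  have h2 : Group.IsSolvable (Subgroup.center SL(2, K)) :=
    sol_of_comm fun a ha b _ => (Subgroup.mem_center_iff.1 ha b).symm
  exact Group.isSolvable_of_ker_le_range (G'' := PSL(2, K)) (Subgroup.center SL(2, K)).subtype
    (QuotientGroup.mk' (Subgroup.center SL(2, K)))
    (by rw [QuotientGroup.ker_mk', Subgroup.range_subtype])

theorem dich_gl (n : ℕ) : Dich (GL (Fin n) K) := by
  have key : commutator SL(n, K) = ⊤ → Bg SL(n, K) → Dich (GL (Fin n) K) := fun hp hb => by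
    refine Or.inl (hb.of_hom SpecialLinearGroup.toGL (fun A B e => Subtype.ext (congrArg Units.val e))
      (range_eq_comm _ hp ((Abelianization.commutator_subset_ker
        (GeneralLinearGroup.det : GL (Fin n) K →* Kˣ)).trans ?_)))
    intro g hg
    exact ⟨⟨g, congrArg Units.val (MonoidHom.mem_ker.1 hg)⟩, Units.ext rfl⟩
  by_cases h3 : 3 ≤ n
  · exact key (S0248.result n h3) (Bg.of_perfect (S0248.result n h3) (S0249.result n h3))
  by_cases h1 : n ≤ 1
  · exact Or.inr (Sm.of_comm fun a b => Units.ext (matrix_comm h1 a.1 b.1))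
  obtain rfl : n = 2 := by omega
  have h0 := Matrix.card_GL_field (𝔽 := K) 2
  rcases card_cases K with h | h | h
  · exact Or.inr (Sm.of_23 1 1 (by rw [h0, h]; decide))
  · exact Or.inr (Sm.of_23 4 1 (by rw [h0, h]; decide))
  · exact key (sl2_perfect h) (bg_sl2 h)

theorem dich_sp (m : ℕ) : Dich (symplecticGroup (Fin m) K) := by
  by_cases h : 2 ≤ m ∧ (m = 2 → 3 ≤ Fintype.card K)
  · have hp : commutator (symplecticGroup (Fin m) K) = ⊤ :=
      LieClassical.SympPerfect.commutator_eq_top (by have := h.2; omega)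
    exact Or.inl ((Bg.of_perfect hp (S0270.result m h.1 h.2)).comm_of_perfect hp)
  have h0 := S0245.result (F := K) rfl m
  have h1 : m = 0 ∨ m = 1 ∨ m = 2 := by omega
  have h2 := card_cases K
  rcases h1 with rfl | rfl | rfl
  · exact Or.inr (Sm.of_23 0 0 (by rw [h0]; simp))
  · rcases h2 with h2 | h2 | h2
    · exact Or.inr (Sm.of_23 1 1 (by rw [h0, h2]; simp))
    · exact Or.inr (Sm.of_23 3 1 (by rw [h0, h2]; simp))
    · exact Or.inl (((bg_sl2 h2).comm_of_perfect (sl2_perfect h2)).comm_congr (H454.SpExt.spTwo K).symm)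
  · obtain ⟨e⟩ := S0247.result (F := K) (by omega)
    refine Or.inl (Bg.comm_congr ?_ e.symm)
    have h5 : 5 ≤ Nat.card (Fin 6) := by simp
    have := alternatingGroup.isSimpleGroup h5
    have h3 : Bg (alternatingGroup (Fin 6)) := by
      refine Bg.of_nsol' (NSol.of_simple fun hc => ?_)
      have h4 := commutator_alternatingGroup_eq_top h5
      rw [commutator_eq_bot] at h4
      exact bot_ne_top h4
    exact h3.congr (MulEquiv.subgroupCongr (alternatingGroup.commutator_perm_eq h5).symm)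

theorem dich_gu {q : ℕ} (hK : Fintype.card K = q ^ 2) (n : ℕ) : Dich (GU n K q) := by
  have key : commutator (SU n K q) = ⊤ → Bg (SU n K q) → Dich (GU n K q) := fun hp hb => by
    let f : SU n K q →* GU n K q :=
      ((SpecialLinearGroup.toGL : SL(n, K) →* GL (Fin n) K).comp (SU n K q).subtype).codRestrict (GU n K q) fun x => x.2
    refine Or.inl (hb.of_hom f (fun A B e => Subtype.ext (Subtype.ext (congrArg (fun t => t.1.1) e)))
      (range_eq_comm _ hp ((Abelianization.commutator_subset_ker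
        ((GeneralLinearGroup.det : GL (Fin n) K →* Kˣ).comp (GU n K q).subtype)).trans ?_)))
    intro g hg
    exact ⟨⟨⟨g.1, congrArg Units.val (MonoidHom.mem_ker.1 hg)⟩, g.2⟩, Subtype.ext (Units.ext rfl)⟩
  have h0 := S0277.result hK n
  by_cases h32 : n = 3 ∧ q = 2
  · obtain ⟨rfl, rfl⟩ := h32
    exact Or.inr (Sm.of_23 3 4 (by rw [h0]; decide))
  by_cases h3 : 3 ≤ n
  · have hp := LieClassical.HermPerfect.commutator_SU_eq_top hK h3 h32
    exact key hp (Bg.of_perfect hp (S0283.result hK n h3 h32))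
  by_cases h1 : n ≤ 1
  · exact Or.inr (Sm.of_comm fun a b => Subtype.ext (Units.ext (matrix_comm h1 a.1.1 b.1.1)))
  obtain rfl : n = 2 := by omega
  obtain ⟨p, k, hp, -, hq, hk⟩ := LieClassical.HermBasic.exists_prime_pow hK
  obtain ⟨L, _, _, hL⟩ := exists_field p k hp hk.ne'
  rw [← hq] at hL
  obtain ⟨e⟩ := S0281.result hK hL
  rcases card_cases L with h | h | h
  · obtain rfl : q = 2 := hL.symm.trans h
    exact Or.inr (Sm.of_23 1 2 (by rw [h0]; decide))
  · obtain rfl : q = 3 := hL.symm.trans h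
    exact Or.inr (Sm.of_23 5 1 (by rw [h0]; decide))
  · refine key ?_ ((bg_sl2 h).congr e.symm)
    rw [commutator_def, ← Subgroup.map_top_of_surjective e.symm.toMonoidHom e.symm.surjective,
      ← Subgroup.map_commutator, ← commutator_def, sl2_perfect h]

theorem sm_dihedral (n : ℕ) : Sm (DihedralGroup n) := by
  let f : Multiplicative (ZMod n) →* DihedralGroup n :=
    { toFun := fun i => DihedralGroup.r i.toAdd
      map_one' := rfl
      map_mul' := fun i j => by rw [DihedralGroup.r_mul_r]; rfl }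
  refine Sm.of_index f.range ?_ ?_
  · rintro _ ⟨a, rfl⟩ _ ⟨b, rfl⟩
    rw [← map_mul, ← map_mul, mul_comm]
  · rw [Subgroup.index_eq_two_iff]
    refine ⟨DihedralGroup.sr 0, ?_⟩
    rintro (b | b)
    · refine Or.inr ⟨⟨Multiplicative.ofAdd b, rfl⟩, ?_⟩
      rintro ⟨c, hc⟩
      rw [DihedralGroup.r_mul_sr] at hc
      cases hc
    · refine Or.inl ⟨⟨Multiplicative.ofAdd _, (DihedralGroup.sr_mul_sr _ _).symm⟩, ?_⟩
      rintro ⟨c, hc⟩
      cases hc

omit [Fintype K] in
theorem dich_isometryGroup {ι : Type} [Fintype ι] [DecidableEq ι] {Q : (ι → K) → K} {X Y : Type*} [Group X]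
    [Group Y] (φ : isometryGroup K Q ≃* X) (ψ : POmega K Q ≃* Y) (h : NSol Y) : Dich X :=
  Or.inl ((Bg.of_nsol (h.congr ψ.symm)).comm_congr φ)

variable {V : Type*} [AddCommGroup V] [Module K V]

theorem dich_linearEquiv [FiniteDimensional K V] : Dich (V ≃ₗ[K] V) :=
  (dich_gl _).congr (LieClassical.OrthFourCommon.glEquiv (Module.finBasis K V).equivFun.symm)

omit [Fintype K] in
theorem exists_sp_equiv [FiniteDimensional K V] (b : LinearMap.BilinForm K V) (hb : b.IsAlt) (hs : b.SeparatingLeft) :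
    ∃ m, Module.finrank K V = 2 * m ∧ Nonempty (symplecticGroup (Fin m) K ≃* Isom K fun v w => b v w) := by
  obtain ⟨m, l, c, -, -, -, h4⟩ := S0752.result b hb
  have hl : l = 0 := by
    by_contra hl
    exact c.ne_zero _ (hs _ (h4 ⟨0, Nat.pos_of_ne_zero hl⟩))
  subst hl
  have hm : Module.finrank K V = 2 * m := by
    rw [Module.finrank_eq_card_basis c]
    simp [two_mul]
  obtain ⟨e, he⟩ := ClassicalGeometry.SympIso.exists_linearEquiv_sympForm b hb hs hm
  obtain ⟨φ⟩ := exists_equiv e (sympForm m K) (fun v w => b v w) he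
  let f : symplecticGroup (Fin m) K →* preserving (Units.coeHom (Matrix (Fin m ⊕ Fin m) (Fin m ⊕ Fin m) K)) (sympForm m K) :=
    (symplecticGroup (Fin m) K).subtype.toHomUnits.codRestrict _ fun x =>
      ClassicalGeometry.SympBasic.mem_symplecticGroup_iff.1 x.2
  refine ⟨m, hm, ⟨(MulEquiv.ofBijective f ⟨fun A B e => Subtype.ext (congrArg (fun t => t.1.1) e), fun g => ?_⟩).trans φ⟩⟩
  exact ⟨⟨g.1, ClassicalGeometry.SympBasic.mem_symplecticGroup_iff.2 g.2⟩, Subtype.ext (Units.ext rfl)⟩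

theorem dich_isom_alt [FiniteDimensional K V] (b : LinearMap.BilinForm K V) (hb : b.IsAlt) (hs : b.SeparatingLeft) :
    Dich (Isom K fun v w => b v w) := by
  obtain ⟨m, -, ⟨e⟩⟩ := exists_sp_equiv b hb hs
  exact (dich_sp m).congr e

theorem dich_isom_herm [FiniteDimensional K V] {σ : K →+* K} (hσ : σ ≠ RingHom.id K) (hσ2 : ∀ a, σ (σ a) = a)
    (b : V →ₛₗ[σ] V →ₗ[K] K) (hb : b.IsSymm) (hs : b.SeparatingLeft) : Dich (Isom K fun v w => b v w) := by
  obtain ⟨q, -, hq, hσq⟩ := H324.FC.exists_q (RingEquiv.ofRingHom σ σ (RingHom.ext hσ2) (RingHom.ext hσ2)) hσ2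
    (ClassicalGeometry.InvolutiveNorm.exists_sigma_ne hσ)
  have hσq' : ∀ x, σ x = x ^ q := hσq
  rw [Nat.card_eq_fintype_card] at hq
  obtain ⟨c, hc⟩ := ClassicalGeometry.HermOrthonormal.exists_orthonormal_basis hσ hσ2 b hb hs
  obtain ⟨φ⟩ := exists_equiv c.equivFun.symm (hermForm _ K q) (fun v w => b w v) fun u v => by
    simp only [Module.Basis.equivFun_symm_apply, map_sum, LinearMap.sum_apply, LinearMap.map_smulₛₗ, map_smul,
      LinearMap.smul_apply, hc, smul_eq_mul, mul_ite, mul_one, mul_zero, Finset.sum_ite_eq', Finset.mem_univ, if_true,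
      hσq', hermForm]
  have h1 : (Isom K fun v w => b w v) = Isom K fun v w => b v w := by
    ext g
    exact ⟨fun h v w => h w v, fun h v w => h w v⟩
  exact (dich_gu hq _).congr (φ.trans (MulEquiv.subgroupCongr h1))

open LieClassical.OrthCore in
/-- orthogonal groups -/
theorem dich_O [FiniteDimensional K V] (Q : QuadraticForm K V) (hQ : Nondeg Q) : Dich (O Q) := by
  have : Finite V := Module.finite_of_finite K
  have : Finite (V ≃ₗ[K] V) := Finite.of_injective (fun g : V ≃ₗ[K] V => (g : V → V)) DFunLike.coe_injective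
  have hQ' : (QuadraticMap.polarBilin Q).Nondegenerate :=
    ⟨fun x hx => hQ x hx, fun x hx => hQ x fun y => by rw [QuadraticMap.polar_comm]; exact hx y⟩
  have han : ∀ ζ : K, (∀ t : K, t ^ 2 + t + ζ ≠ 0) → ∀ z₁ z₂ : K, z₁ ^ 2 + 1 * z₁ * z₂ + ζ * z₂ ^ 2 = 0 →
      z₁ = 0 ∧ z₂ = 0 := by
    intro ζ hζ z₁ z₂ h
    by_cases h2 : z₂ = 0
    · rw [h2] at h
      exact ⟨by simpa using h, h2⟩
    · refine absurd ?_ (hζ (z₁ / z₂))
      field_simp
      linear_combination h
  by_cases h5 : 5 ≤ Module.finrank K V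
  · have hG := LieClassical.OrthFinite.good_of_finite hQ h5
    have hp : commutator (E Q) = ⊤ := by
      rw [eq_top_iff, ← Subgroup.map_le_map_iff_of_injective (Subgroup.subtype_injective (E Q)),
        Subgroup.map_subtype_commutator, ← MonoidHom.range_eq_map, Subgroup.range_subtype, hG.E_perfect]
    refine Or.inl ((Bg.of_perfect hp (LieClassical.OrthSimple.good_isSimpleGroup hG)).of_hom
      (Subgroup.inclusion E_le_O) (Subgroup.inclusion_injective _) ?_)
    apply Subgroup.map_injective (O Q).subtype_injective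
    rw [Subgroup.map_subtype_commutator, hG.commutator_eq_E, Subgroup.inclusion_range,
      Subgroup.map_subgroupOf_eq_of_le E_le_O]
  by_cases h1 : Module.finrank K V ≤ 1
  · refine Or.inr (Sm.of_comm fun a b => Subtype.ext ?_)
    obtain ⟨v, hv⟩ := finrank_le_one_iff.1 h1
    obtain ⟨s, hs⟩ := hv (a.1 v)
    obtain ⟨t, ht⟩ := hv (b.1 v)
    ext w
    obtain ⟨c, rfl⟩ := hv w
    change a.1 (b.1 (c • v)) = b.1 (a.1 (c • v))
    simp only [map_smul, ← hs, ← ht, smul_smul]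
    rw [mul_right_comm]
  have h2 : Module.finrank K V = 2 * 1 ∨ Module.finrank K V = 2 * 1 + 1 ∨ Module.finrank K V = 2 * 2 := by omega
  rcases h2 with h2 | h2 | h2
  · rcases H174.exists_std le_rfl h2 Q hQ' with ⟨g, hg⟩ | ⟨ζ, g, hζ, hg⟩
    · obtain ⟨φ⟩ := O_equiv g _ Q one_ne_zero fun v => by rw [one_mul, hg]
      obtain ⟨ψ⟩ := S0305.result (F := K) rfl
      exact Or.inr ((sm_dihedral _).congr (ψ.symm.trans φ))
    · obtain ⟨φ⟩ := O_equiv g _ Q one_ne_zero fun v => by rw [one_mul, hg]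
      obtain ⟨ψ⟩ := S0306.result (F := K) rfl 1 ζ (han ζ hζ)
      exact Or.inr ((sm_dihedral _).congr (ψ.symm.trans φ))
  · obtain ⟨c, h3, h4, h5, h6, -⟩ := S2618.result h2 Q hQ'
    have hc : ∀ v, v = c.repr v (.inl ()) • c (.inl ()) + (c.repr v (.inr (.inl 0)) • c (.inr (.inl 0)) +
        c.repr v (.inr (.inr 0)) • c (.inr (.inr 0))) := by
      intro v
      conv_lhs => rw [← c.sum_repr v]
      simp only [Fintype.sum_sum_type, Fintype.sum_unique]
      rfl
    have h7 := h6 0 0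
    rw [if_pos rfl] at h7
    have h8 : (2 : K) ≠ 0 := by
      intro h9
      refine c.ne_zero (.inl ()) (hQ _ fun y => ?_)
      rw [hc y]
      simp only [QuadraticMap.polar_add_right, QuadraticMap.polar_smul_right, (h4 0).1, (h4 0).2, polar_self', h9,
        zero_mul, smul_zero, add_zero]
    have hodd : Odd (Fintype.card K) :=
      Nat.odd_iff.2 (FiniteField.odd_card_of_char_ne_two fun h => h8 (by
        have := (ringChar.spec K 2).2 (by rw [h])
        exact_mod_cast this))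
    let c' := c.unitsSMul (Sum.elim (fun _ => 1) (Sum.elim (fun _ => Units.mk0 _ h3) fun _ => 1))
    obtain ⟨φ⟩ := O_equiv c'.equivFun (quadFormOdd 1 K) Q h3 fun v => by
      conv_lhs => rw [hc v]
      simp only [Q_add, QuadraticMap.map_smul, QuadraticMap.polar_add_right, QuadraticMap.polar_smul_right,
        QuadraticMap.polar_smul_left, (h4 0).1, (h4 0).2, (h5 0).1, (h5 0).2, h7, smul_eq_mul, quadFormOdd, c',
        Module.Basis.equivFun_apply, Module.Basis.repr_unitsSMul, Fin.sum_univ_one, Sum.elim_inl, Sum.elim_inr,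
        inv_one, one_smul, Units.smul_def, Units.val_inv_eq_inv_val, Units.val_mk0]
      field_simp
      ring
    obtain ⟨ψ⟩ := S0298.result hodd
    rcases card_cases K with h | h | h
    · rw [h] at hodd
      exact absurd hodd (by decide)
    · refine Or.inr ((Sm.of_23 4 1 ?_).congr φ)
      rw [S0286.result h (by decide) 1]
      decide
    · exact dich_isometryGroup φ ψ (nsol_psl2 h)
  · rcases H174.exists_std (by norm_num) h2 Q hQ' with ⟨g, hg⟩ | ⟨ζ, g, hζ, hg⟩
    · obtain ⟨φ⟩ := O_equiv g _ Q one_ne_zero fun v => by rw [one_mul, hg]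
      rcases card_cases K with h | h | h
      · refine Or.inr ((Sm.of_23 3 2 ?_).congr φ)
        rw [S0287.result h 2 (by norm_num)]
        decide
      · refine Or.inr ((Sm.of_23 7 2 ?_).congr φ)
        rw [S0287.result h 2 (by norm_num)]
        decide
      · obtain ⟨ψ⟩ := S0299.result (F := K) (by omega)
        exact dich_isometryGroup φ ψ ((nsol_psl2 h).prod (nsol_psl2 h))
    · obtain ⟨φ⟩ := O_equiv g _ Q one_ne_zero fun v => by rw [one_mul, hg]
      obtain ⟨p, hp⟩ := CharP.exists K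
      obtain ⟨k, hpp, hk⟩ := FiniteField.card K p
      obtain ⟨L, _, _, hL⟩ := exists_field p (k * 2) hpp (mul_ne_zero k.ne_zero two_ne_zero)
      rw [pow_mul, ← hk] at hL
      obtain ⟨ψ⟩ := S0300.result rfl hL 1 ζ (han ζ hζ)
      have h4 : 4 ≤ Fintype.card L := by
        have : 1 < Fintype.card K := Fintype.one_lt_card
        rw [hL]
        nlinarith
      exact dich_isometryGroup φ ψ (nsol_psl2 h4)

end Cfsg.Agent.T44.Cl
end

-- part: T44/Cl/Main_mg
section
prune_inst 0xd5202704194002000000058051000000140000000140080010400800000230400002084001000812002000080004006002d40020400000000000000008000501080010009008000002000e000004000000000000000000000000000000041000200000000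
set_option linter.all false
open scoped Cfsg.Agent.FastGrp

-- part: T44/Cl/Key2
section
/-!
# S3544, classical groups: the isometry group of a form ring is big or small (helper34, after helper54's `DS/Cl/P5`)
-/

set_option autoImplicit false

namespace Cfsg.Agent.T44.Cl

open Cfsg Cfsg.Agent.DS Cfsg.Agent.DS.Cl Cfsg.Agent.DS.Cl.P5 Module

variable {A : Type} [Ring A] [StarRing A]

theorem key_L [Finite A] (F : FR A) (hM : ModL A) : Dich F.Iso := by
  obtain ⟨K, _, _, n, π, -, hπ⟩ := hM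
  have hinj : ∀ a a', π a = π a' → π (star a) = π (star a') → a = a' := fun a a' h1 h2 => hπ.1 (Prod.ext h1 h2)
  obtain ⟨ε, hε⟩ := hπ.2 (1, 0)
  have h1 : π ε = 1 := congrArg Prod.fst hε
  have h2 : π (star ε) = 0 := congrArg Prod.snd hε
  have hE : Eps ε := by
    refine ⟨Subring.mem_center_iff.2 fun a => hinj _ _ ?_ ?_, hinj _ _ ?_ ?_, hinj _ _ ?_ ?_⟩ <;>
      simp only [h1, h2, _root_.map_mul, _root_.mul_one, _root_.one_mul, _root_.StarMul.star_mul, _root_.MulZeroClass.zero_mul, _root_.MulZeroClass.mul_zero, _root_.map_add, _root_.add_zero, _root_.map_one, _root_.StarAddMonoid.star_add, _root_.star_star, _root_.zero_add, _root_.star_one]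
  have hL := F.L_eq hE.cen hE.add
  let f : F.Iso →* (End K (Fin n → K))ˣ := (Units.map (π : A →* End K (Fin n → K))).comp F.Iso.subtype
  have hf : Function.Bijective f := by
    constructor
    · rw [injective_iff_map_eq_one]
      intro u hu
      have h3 : π (u : Aˣ) = 1 := congrArg Units.val hu
      have h4 := congrArg π (FR.Iso.ms u.2)
      rw [map_mul, h3, one_mul] at h4
      exact Subtype.ext (Units.ext (hinj _ _ (by rw [h3, ← map_one π]; rfl) (by rw [h4]; simp only [_root_.map_one, _root_.OneMemClass.coe_one, _root_.Units.val_one, _root_.star_one])))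
    · intro x
      obtain ⟨u, hu⟩ := hπ.2 (x, (x⁻¹ : (End K (Fin n → K))ˣ))
      have h3 : π u = x := congrArg Prod.fst hu
      have h4 : π (star u) = (x⁻¹ : (End K (Fin n → K))ˣ) := congrArg Prod.snd hu
      have h5 : u * star u = 1 := hinj _ _ (by simp only [h3, h4, _root_.map_mul, _root_.Units.mul_inv, _root_.map_one]) (by simp only [h3, h4, _root_.StarMul.star_mul, _root_.star_star, _root_.map_mul, _root_.Units.mul_inv, _root_.star_one, _root_.map_one])
      exact ⟨⟨mkU u h5, mem_Iso_of_max hL h5⟩, Units.ext h3⟩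
  exact dich_linearEquiv.congr ((MulEquiv.ofBijective f hf).trans
    (LinearMap.GeneralLinearGroup.generalLinearEquiv K (Fin n → K))).symm

theorem key_U [Finite A] (F : FR A) (hM : ModU A) : Dich F.Iso := by
  obtain ⟨K, _, _, n, e, σ, b, hn, hσ, hσ2, hb, hs, hadj⟩ := hM
  have : Nonempty (Fin n) := ⟨⟨0, hn⟩⟩
  have hr : ∀ x, (∀ v, b v x = 0) → x = 0 := fun x hx => hs x fun v => by rw [← hb.eq, hx, map_zero]
  have hst := star_smul_one hr hadj
  have hL : F.L = Lmax A := by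
    obtain ⟨c, hc⟩ := ClassicalGeometry.InvolutiveNorm.exists_add_sigma_eq hσ hσ2 (map_one σ)
    refine F.L_eq (cen_smul e c) ?_
    rw [hst, ← map_add, ← add_smul, hc, one_smul, map_one]
  obtain ⟨φ⟩ := equiv_of e (U := F.Iso) (X := Vec.Isom K fun v w => b v w) fun u =>
    ⟨fun hu => (unitary_iff hr hadj u).1 hu.1, fun hu => mem_Iso_of_max hL ((unitary_iff hr hadj u).2 hu)⟩
  exact (dich_isom_herm hσ hσ2 b hb hs).congr φ

theorem key_B [Finite A] (F : FR A) (hM : ModB A) : Dich F.Iso := by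
  obtain ⟨K, _, _, n, e, b, hn, hb, hs, hadj⟩ := hM
  have : Nonempty (Fin n) := ⟨⟨0, hn⟩⟩
  have hr : ∀ x, (∀ v, b v x = 0) → x = 0 := fun x hx => hs x fun v => by
    rcases hb with hb | hb
    · rw [hb, hx]
    · rw [hb, hx, neg_zero]
  have hst := star_smul_one hr hadj
  have hS : F.L = Lmax A → b.IsAlt → Dich F.Iso := by
    intro hL ha
    obtain ⟨φ⟩ := equiv_of e (U := F.Iso) (X := Vec.Isom K fun v w => b v w) fun u =>
      ⟨fun hu => (unitary_iff hr hadj u).1 hu.1, fun hu => mem_Iso_of_max hL ((unitary_iff hr hadj u).2 hu)⟩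
    exact (dich_isom_alt b ha hs).congr φ
  have hO : F.L = Lmin A → (∀ v w, b w v = b v w) → Dich F.Iso := by
    intro hL hb
    let Q : QuadraticForm K (Fin n → K) := LinearMap.BilinMap.toQuadraticMap (b.compl₂ (e F.l))
    have hQ : ∀ v, Q v = b v (e F.l v) := fun _ => rfl
    have hpol : ∀ v w, QuadraticMap.polar Q v w = b v w := by
      intro v w
      rw [LinearMap.BilinMap.polar_toQuadraticMap, LinearMap.compl₂_apply, LinearMap.compl₂_apply, hb (e F.l v), hadj,
        ← map_add, ← LinearMap.add_apply, ← map_add, F.l_add, map_one, End.one_apply]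
    have hmin : ∀ x, x ∈ Lmin A ↔ ∀ v, b v (e x v) = 0 := by
      intro x
      constructor
      · rintro ⟨a, rfl⟩ v
        rw [map_sub, LinearMap.sub_apply, map_sub, ← hadj, hb, sub_self]
      · intro hx
        obtain ⟨β, hβ⟩ := Fwd.exists_half (b.compl₂ (e x)) hx
        have hnd : b.Nondegenerate := ⟨hs, hr⟩
        obtain ⟨a, ha⟩ := e.surjective ((b.toDual hnd).symm.toLinearMap.comp β.flip)
        have ha' : ∀ v w, b (e a w) v = β v w := fun v w => by
          rw [ha]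
          exact LinearMap.BilinForm.apply_toDual_symm_apply (hB := hnd) (β.flip w) v
        refine ⟨a, e.injective (LinearMap.ext fun w => ?_)⟩
        rw [← sub_eq_zero]
        refine hr _ fun v => ?_
        rw [map_sub, map_sub, LinearMap.sub_apply, map_sub, ← hadj, ha', hb (e a w), ha', hβ, LinearMap.compl₂_apply,
          sub_self]
    have hQu : ∀ (u : A) v, b v (e (u * F.l * star u - F.l) v) = Q (e (star u) v) - Q v := by
      intro u v
      rw [hQ, hQ, hadj, star_star, map_sub, LinearMap.sub_apply, map_sub, map_mul, map_mul]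
      rfl
    obtain ⟨φ⟩ := equiv_of e (U := F.Iso) (X := LieClassical.OrthCore.O Q) fun u => by
      rw [LieClassical.OrthCore.mem_O]
      constructor
      · intro hu v
        have h1 := hu.2
        rw [hL, hmin] at h1
        have h2 := h1 (e u v)
        rw [hQu, ← End.mul_apply, ← map_mul, FR.Iso.sm hu, map_one, End.one_apply, sub_eq_zero] at h2
        exact h2.symm
      · intro hu
        have h1 : (u : A) * star (u : A) = 1 := (unitary_iff hr hadj u).2 fun v w =>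
          (hpol _ _).symm.trans ((LieClassical.OrthCore.polar_map hu v w).trans (hpol v w))
        refine ⟨h1, ?_⟩
        rw [hL, hmin]
        intro v
        rw [hQu, ← hu, toLE_apply, ← End.mul_apply, ← map_mul, h1, map_one, End.one_apply, sub_self]
    exact (dich_O Q fun x hx => hs x fun y => by rw [← hpol, hx]).congr φ
  by_cases h2 : (2 : K) = 0
  · have hb' : ∀ v w, b w v = b v w := by
      rcases hb with hb | hb
      · exact hb
      · intro v w
        linear_combination hb v w - b v w * h2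
    rcases F.par with hL | hL
    · exact hO hL hb'
    · refine hS hL fun v => ?_
      have h3 : b v v = b v (e (F.l + star F.l) v) := by rw [F.l_add, map_one, End.one_apply]
      rw [map_add, LinearMap.add_apply, map_add, ← hadj, hb' (e F.l v)] at h3
      linear_combination h3 + b (e F.l v) v * h2
  · have h3 : e.symm ((2 : K)⁻¹ • 1) + star (e.symm ((2 : K)⁻¹ • 1)) = 1 := by
      rw [hst, RingHom.id_apply, ← map_add, ← add_smul, ← two_mul, mul_inv_cancel₀ h2, one_smul, map_one]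
    have hL := F.L_eq (cen_smul e _) h3
    rcases hb with hb | hb
    · exact hO (hL.trans (Lmin_eq_Lmax (cen_smul e _) h3).symm) hb
    · refine hS hL fun v => ?_
      have h4 : 2 * b v v = 0 := by linear_combination hb v v
      exact (mul_eq_zero.1 h4).resolve_left h2

/-- **the key fact** -/
theorem key [Finite A] (h : SS A) (F : FR A) : Dich F.Iso := by
  rcases exists_model h with hM | hM | hM
  · exact key_L F hM
  · exact key_U F hM
  · exact key_B F hM

end Cfsg.Agent.T44.Cl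
end

-- part: T44/Cl/Up
section
/-!
# S3544, classical groups: the isometry group of a block inside the isometry group of the ring (helper34)
-/

set_option autoImplicit false

namespace Cfsg.Agent.T44.Cl

open Cfsg Cfsg.Agent.T44 Cfsg.Agent.DS Cfsg.Agent.DS.Cl Subgroup
open scoped commutatorElement

variable {A : Type} [Ring A] [StarRing A] {F : FR A}

local notation "κ" => DS.Cl.cj

omit [StarRing A] in
theorem finite_ringAut [Finite A] : Finite (RingAut A) :=
  Finite.of_injective (fun γ : RingAut A => (γ : A → A)) DFunLike.coe_injective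

theorem up_mul (B : Blk A) {x y : A} (hx : x ∈ B.car) (hy : y ∈ B.car) :
    (x + (1 - B.e)) * (y + (1 - B.e)) = x * y + (1 - B.e) := by
  rw [add_mul, mul_add, mul_add, mul_sub, mul_one, B.mul_e x hx, sub_mul, one_mul, B.e_mul y hy, sub_mul, one_mul,
    mul_sub, mul_one, B.idem]
  abel

/-- the isometries supported on a block -/
def WB (F : FR A) (B : Blk A) : Subgroup Aˣ where
  carrier := {u | u ∈ F.Iso ∧ (u : A) - (1 - B.e) ∈ B.car}
  one_mem' := ⟨one_mem _, by rw [Units.val_one, sub_sub_cancel]; exact B.e_mem⟩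
  mul_mem' := by
    rintro u v ⟨hu, hu'⟩ ⟨hv, hv'⟩
    refine ⟨mul_mem hu hv, ?_⟩
    have h1 := up_mul B hu' hv'
    rw [sub_add_cancel, sub_add_cancel] at h1
    rw [Units.val_mul, h1, add_sub_cancel_right]
    exact mul_mem hu' hv'
  inv_mem' := by
    rintro u ⟨hu, hu'⟩
    refine ⟨inv_mem hu, ?_⟩
    have h1 := B.star_mem _ hu'
    rwa [star_sub, star_sub, star_one, B.star_e, ← FR.Iso.inv_eq hu] at h1

theorem WB_le (B : Blk A) : WB F B ≤ F.Iso := fun _ h => h.1

theorem up_mem' [Finite A] (B : BD F) (hB : B.e * F.l * B.e - B.l ∈ F.L) {u : A} (hu : u ∈ B.car)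
    (h1 : u * star u = B.e) (h2 : u * B.l * star u - B.l ∈ F.L) :
    mkU _ (Levi.up_mul_star (B := fun _ : Unit => B) (i := ()) hu h1) ∈ F.Iso := by
  refine ⟨Levi.up_mul_star (B := fun _ : Unit => B) (i := ()) hu h1, ?_⟩
  rw [mkU_val]
  have se := B.star_e
  have c1 := F.cross_mem (a := u) (b := 1 - B.e) (by rw [sub_mul, one_mul, B.e_mul _ (B.star_mem u hu), sub_self])
  have c2 := F.cross_mem (a := B.e) (b := 1 - B.e) (by rw [se, sub_mul, one_mul, B.idem, sub_self])
  have c3 := F.conj_mem hB u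
  rw [mul_sub, sub_mul, ← mul_assoc, ← mul_assoc, B.mul_e u hu, mul_assoc (u * F.l), B.e_mul _ (B.star_mem u hu)] at c3
  rw [star_sub, star_one, se] at c1 c2
  convert F.L.sub_mem (F.L.add_mem (F.L.add_mem c3 h2) (F.L.sub_mem c1 c2)) hB using 1
  rw [star_add, star_sub, star_one, se]
  noncomm_ring

/-- the isometry group of a block -/
theorem exists_WB_equiv [Finite A] (B : BD F) (hB : B.e * F.l * B.e - B.l ∈ F.L) :
    Nonempty (B.fr.Iso ≃* WB F B.toBlk) := by
  have hm : ∀ u : B.fr.Iso, B.toBlk.val (u : B.toBlk.Tˣ) * star (B.toBlk.val (u : B.toBlk.Tˣ)) = B.e :=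
    fun u => congrArg B.toBlk.val u.2.1
  let f : B.fr.Iso →* WB F B.toBlk :=
    { toFun := fun u => ⟨_, up_mem' B hB (B.toBlk.val_mem _) (hm u) u.2.2, by
        rw [mkU_val, add_sub_cancel_right]; exact B.toBlk.val_mem _⟩
      map_one' := Subtype.ext (Units.ext (add_sub_cancel _ _))
      map_mul' := fun u v => Subtype.ext (Units.ext
        (up_mul B.toBlk (B.toBlk.val_mem (u : B.toBlk.Tˣ)) (B.toBlk.val_mem (v : B.toBlk.Tˣ))).symm) }
  refine ⟨MulEquiv.ofBijective f ⟨fun u v e => ?_, fun w => ?_⟩⟩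
  · have h1 : B.toBlk.val (u : B.toBlk.Tˣ) + (1 - B.e) = B.toBlk.val (v : B.toBlk.Tˣ) + (1 - B.e) :=
      congrArg (fun t : WB F B.toBlk => ((t : Aˣ) : A)) e
    exact Subtype.ext (Units.ext (B.toBlk.val_inj (add_right_cancel h1)))
  · obtain ⟨w, hw, hw'⟩ := w
    obtain ⟨x, hx⟩ : ∃ x, x = (w : A) - (1 - B.e) := ⟨_, rfl⟩
    rw [← hx] at hw'
    have e1 : (w : A) = x + (1 - B.e) := by rw [hx, sub_add_cancel]
    have h1 := B.mul_e _ hw'
    have h2 := B.e_mul _ (B.star_mem _ hw')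
    have h3 := B.idem
    have h4 : x * star x = B.e := by
      have h5 := hw.1
      rw [e1, star_add, star_sub, star_one, B.star_e, up_mul B.toBlk hw' (B.star_mem _ hw')] at h5
      rw [eq_sub_of_add_eq h5, sub_sub_cancel]
    have h5 : B.e * w = x := by rw [e1, mul_add, B.e_mul _ hw', mul_sub, mul_one, h3, sub_self, add_zero]
    have h6 : x * B.l * star x - B.l ∈ F.L := by
      have c1 := F.conj_mem hw.2 B.e
      have c2 := F.conj_mem hB x
      rw [mul_sub, sub_mul, ← mul_assoc, ← mul_assoc, h5, mul_assoc (x * F.l), ← star_mul, h5, B.star_e] at c1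
      rw [mul_sub, sub_mul, ← mul_assoc, ← mul_assoc, h1, mul_assoc (x * F.l), h2] at c2
      convert F.L.add_mem (F.L.sub_mem c1 c2) hB using 1
      abel
    refine ⟨⟨mkU (B.toBlk.mk' x hw') (B.toBlk.val_inj h4), B.toBlk.val_inj h4, h6⟩, Subtype.ext (Units.ext e1.symm)⟩

theorem dich_WB [Finite A] (B : BD F) (hB : B.e * F.l * B.e - B.l ∈ F.L) (h0 : B.e ≠ 0) : Dich (WB F B.toBlk) := by
  obtain ⟨e⟩ := exists_WB_equiv B hB
  exact (key (B.ss.resolve_left h0) B.fr).congr e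

omit [StarRing A] in
/-- a block group normalised by `Q` is small -/
theorem sm_of_ch [Finite A] {r : ℕ} {K Q : Subgroup (RingAut A)} (h : Ch r K Q) {W : Subgroup Aˣ} (hW : Dich W)
    (hK : ⁅W.map (κ A), W.map (κ A)⁆ ≤ K) (hQ : Q ≤ normalizer (W.map (κ A) : Set (RingAut A))) : Sm W := by
  have := finite_ringAut (A := A)
  refine hW.resolve_left ?_
  let f : commutator W →* RingAut A := (κ A).comp (W.subtype.comp (commutator W).subtype)
  have hr : f.range = ⁅W.map (κ A), W.map (κ A)⁆ := by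
    rw [MonoidHom.range_comp, MonoidHom.range_comp, range_subtype, map_subtype_commutator, map_commutator]
  refine h.crit f (fun x hx => mem_center_iff.2 fun g => ?_) (hr ▸ hK) (hr ▸ norm_commutator hQ hQ)
  exact Subtype.ext (Subtype.ext (units_comm (cj_eq_one_iff.1 hx) _))

theorem Sm.sol_map {G H : Type*} [Group G] [Group H] {W : Subgroup G} (h : Sm W) (f : G →* H) :
    Group.IsSolvable (W.map f) := Cl.sol_map f h.sol

theorem Sm.alt_map {G H : Type*} [Group G] [Group H] {W : Subgroup G} (h : Sm W) (f : G →* H) :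
    Cm ⁅W.map f, W.map f⁆ ∨ P23 (W.map f) := by
  refine h.alt.imp (fun h1 => ?_) fun h1 s hs hd => h1 s hs (hd.trans (card_map_dvd _ _))
  rw [← map_commutator, ← map_subtype_commutator, map_map]
  rintro _ ⟨a, ha, rfl⟩ _ ⟨b, hb, rfl⟩
  rw [← map_mul, ← map_mul, h1 a ha b hb]

end Cfsg.Agent.T44.Cl
end

-- part: T44/Cl/Fix
section
/-!
# S3544, classical groups: fixed rings of groups of order prime to the characteristic (helper34)
-/

set_option autoImplicit false

namespace Cfsg.Agent.T44.Cl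

open Cfsg Cfsg.Agent.T44 Cfsg.Agent.DS Cfsg.Agent.DS.Cl Subgroup
open scoped commutatorElement

variable {A : Type} [Ring A] [StarRing A] {F : FR A}

local notation "κ" => DS.Cl.cj

theorem semisimple_of_regular {R : Type} [Ring R] [Finite R] (h : ∀ x : R, ∃ y, x * y * x = x) :
    IsSemisimpleRing R := by
  rw [IsArtinianRing.isSemisimpleRing_iff_jacobson, eq_bot_iff]
  intro x hx
  obtain ⟨y, hy⟩ := h x
  obtain ⟨n, hn⟩ := IsArtinianRing.isNilpotent_jacobson_bot (R := R)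
  rw [Ideal.jacobson_bot] at hn
  have h1 : (y * x) ^ n ∈ Ring.jacobson R ^ n := Ideal.pow_mem_pow (Ideal.mul_mem_left _ y hx) n
  rw [hn] at h1
  have h2 : ∀ k, x * (y * x) ^ k = x := fun k => by
    induction k with
    | zero => rw [pow_zero, mul_one]
    | succ k ih => rw [pow_succ', ← mul_assoc, ← mul_assoc, hy, ih]
  rw [Ideal.mem_bot, ← h2 n, (Ideal.mem_bot).1 h1, mul_zero]

omit [StarRing A] in
/-- the fixed ring -/
def fixR (E : Subgroup (RingAut A)) : Subring A where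
  carrier := {a | ∀ γ ∈ E, γ a = a}
  mul_mem' := fun ha hb γ hγ => by rw [map_mul, ha γ hγ, hb γ hγ]
  one_mem' := fun γ _ => map_one γ
  add_mem' := fun ha hb γ hγ => by rw [map_add, ha γ hγ, hb γ hγ]
  zero_mem' := fun γ _ => map_zero γ
  neg_mem' := fun ha γ hγ => by rw [map_neg, ha γ hγ]

theorem star_fixR {E : Subgroup (RingAut A)} (hE : E ≤ SAut A) : ∀ x ∈ fixR E, star x ∈ fixR E :=
  fun x hx γ hγ => by rw [hE hγ, hx γ hγ]

omit [StarRing A] in
theorem inv_fixR {H E : Subgroup (RingAut A)} (h : H ≤ normalizer (E : Set (RingAut A))) : _root_.Cfsg.Agent.DS.Cl.Inv H (fixR E) :=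
  fun γ hγ a ha δ hδ => by
    have h1 := ha _ (conj_mem_of_norm' h hγ hδ)
    rw [ra_mul, ra_mul] at h1
    rw [← ra_apply_inv γ (δ (γ a)), h1]

omit [StarRing A] in
theorem comm_of_fixR {E : Subgroup (RingAut A)} {u : Aˣ} (hu : κ A u ∈ E) {a : A} (ha : a ∈ fixR E) :
    (u : A) * a = a * u := by rw [← cj_mul_eq, ha _ hu]

omit [StarRing A] in
theorem cj_cent {E : Subgroup (RingAut A)} {u : Aˣ} (hu : (u : A) ∈ fixR E) :
    κ A u ∈ centralizer (E : Set (RingAut A)) := mem_centralizer_iff.2 fun δ hδ => by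
  rw [← mul_inv_eq_iff_eq_mul, conj_cj]
  exact congrArg _ (Units.ext (hu δ hδ))

/-- averaging -/
structure Avg (E : Subgroup (RingAut A)) [Fintype E] (π : A →+ A) (m : ℕ) : Prop where
  eq : ∀ a, π a = m • ∑ γ : E, γ.1 a
  card : ∀ a : A, m • Fintype.card E • a = a

omit [StarRing A] in
theorem exists_avgE [Finite A] (E : Subgroup (RingAut A)) [Fintype E] (h : IsUnit (Fintype.card E : A)) :
    ∃ π m, Avg E π m := by
  obtain ⟨u, hu⟩ := h
  obtain ⟨n, hn, h1⟩ := (isOfFinOrder_of_finite u).exists_pow_eq_one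
  obtain ⟨k, rfl⟩ := Nat.exists_eq_add_one_of_ne_zero hn.ne'
  refine ⟨{ toFun := fun a => Fintype.card E ^ k • ∑ γ : E, γ.1 a
            map_zero' := by simp only [_root_.map_zero, _root_.Finset.sum_const_zero, _root_.nsmul_zero]
            map_add' := fun a b => by simp only [map_add, Finset.sum_add_distrib, smul_add] }, _, fun _ => rfl,
    fun a => ?_⟩
  rw [smul_smul, ← pow_succ, nsmul_eq_mul, Nat.cast_pow, ← hu, ← Units.val_pow_eq_pow_val, h1, Units.val_one, one_mul]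

namespace Avg

variable {E : Subgroup (RingAut A)} [Fintype E] {π : A →+ A} {m : ℕ} (h : Avg E π m)
include h

omit [StarRing A] in
theorem mem (a : A) : π a ∈ fixR E := fun δ hδ => by
  rw [h.eq, map_nsmul, map_sum]
  congr 1
  exact Fintype.sum_equiv (Equiv.mulLeft ⟨δ, hδ⟩) _ _ fun _ => rfl

omit [StarRing A] in
theorem mul_left {x : A} (hx : x ∈ fixR E) (a : A) : π (x * a) = x * π a := by
  rw [h.eq, h.eq, mul_smul_comm, Finset.mul_sum]
  exact congrArg _ (Finset.sum_congr rfl fun γ _ => by rw [map_mul, hx γ γ.2])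

omit [StarRing A] in
theorem mul_right {x : A} (hx : x ∈ fixR E) (a : A) : π (a * x) = π a * x := by
  rw [h.eq, h.eq, smul_mul_assoc, Finset.sum_mul]
  exact congrArg _ (Finset.sum_congr rfl fun γ _ => by rw [map_mul, hx γ γ.2])

omit [StarRing A] in
theorem of_mem {x : A} (hx : x ∈ fixR E) : π x = x := by
  rw [h.eq, Finset.sum_congr rfl fun (γ : E) _ => hx γ γ.2, Finset.sum_const, Finset.card_univ, h.card]

theorem star_eq (hE : E ≤ SAut A) (a : A) : π (star a) = star (π a) := by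
  rw [h.eq, h.eq, star_nsmul, star_sum]
  exact congrArg _ (Finset.sum_congr rfl fun γ _ => hE γ.2 a)

theorem l_sub (hE : E ≤ F.Aut) : F.l - π F.l ∈ F.L := by
  have h1 : m • ∑ γ : E, (γ.1 F.l - F.l) ∈ F.L := nsmul_mem (sum_mem fun γ _ => (hE γ.2).2) _
  rw [Finset.sum_sub_distrib, smul_sub, ← h.eq, Finset.sum_const, Finset.card_univ, h.card] at h1
  simpa using neg_mem h1

omit [StarRing A] in
theorem mem_of {I : AddSubgroup A} {a : A} (ha : ∀ γ ∈ E, γ a ∈ I) : π a ∈ I := by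
  rw [h.eq]
  exact nsmul_mem (sum_mem fun (γ : E) _ => ha γ γ.2) _

end Avg

/-- a corner of the fixed ring -/
def fixBlk (E : Subgroup (RingAut A)) (hE : E ≤ SAut A) (e : A) (he : e ∈ fixR E) (hi : e * e = e) (hs : star e = e) :
    Blk A where
  car := (fixR E).toNonUnitalSubring ⊓ (Blk.corner e hi hs).car
  e := e
  e_mem := ⟨he, hi, hi⟩
  e_mul _ hx := hx.2.1
  mul_e _ hx := hx.2.2
  star_mem x hx := ⟨star_fixR hE x hx.1, (Blk.corner e hi hs).star_mem x hx.2⟩

/-- the corners of the fixed ring carry a form -/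
theorem exists_fixBD [Finite A] (hA : SS A) {E : Subgroup (RingAut A)} [Fintype E] (hE : E ≤ F.Aut)
    (hu : IsUnit (Fintype.card E : A)) {e : A} (he : e ∈ fixR E) (hi : e * e = e) (hs : star e = e) (h0 : e ≠ 0)
    (hat : ∀ f ∈ fixR E, e * f = f → f * e = f → (∀ y ∈ fixR E, e * y = y → y * e = y → y * f = f * y) → star f = f →
      f * f = f → f = 0 ∨ f = e) :
    ∃ B : BD F, B.toBlk = fixBlk E (hE.trans F.Aut_le_SAut) e he hi hs ∧ B.e * F.l * B.e - B.l ∈ F.L := by
  obtain ⟨π, m, h⟩ := exists_avgE E hu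
  have hE' := hE.trans F.Aut_le_SAut
  have hm : ∀ a, e * π a * e ∈ (fixBlk E hE' e he hi hs).car := fun a =>
    ⟨mul_mem (mul_mem he (h.mem a)) he, Blk.corner_mem hi hs _⟩
  refine ⟨⟨fixBlk E hE' e he hi hs, e * π F.l * e, hm _, ?_, Or.inr fun a ha => ⟨_, hm a, ?_⟩, Or.inr ?_⟩, rfl, ?_⟩
  · change _ = e
    rw [star_mul, star_mul, hs, ← mul_assoc, ← add_mul, ← mul_add, ← h.star_eq hE', ← map_add, F.l_add,
      h.of_mem (one_mem _), mul_one, hi]
  · rw [star_mul, star_mul, hs, ← mul_assoc, ← sub_mul, ← mul_sub, ← h.star_eq hE', ← map_sub, h.of_mem ha.1, ha.2.1,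
      ha.2.2]
  · set B := fixBlk E hE' e he hi hs
    have : IsSemisimpleRing B.T := semisimple_of_regular fun x => by
      obtain ⟨y, hy⟩ := hA.regular (B.val x)
      obtain ⟨h1, h2, h3⟩ := B.val_mem x
      refine ⟨B.mk' _ (hm y), B.val_inj ?_⟩
      change B.val x * (e * π y * e) * B.val x = B.val x
      rw [← mul_assoc, ← mul_assoc, h3, mul_assoc _ e, h2, ← h.mul_left h1, ← h.mul_right h1, hy, h.of_mem h1]
    have : Nontrivial B.T := ⟨1, 0, fun e' => h0 (congrArg B.val e')⟩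
    refine ss_of_idem fun f hf hf1 hf2 => ?_
    obtain ⟨h1, h2, h3⟩ := B.val_mem f
    exact (hat _ h1 h2 h3 (fun y y1 y2 y3 => B.mem_center_iff.1 hf y ⟨y1, y2, y3⟩) (congrArg B.val hf1)
      (congrArg B.val hf2)).imp (fun e' => B.val_inj e') fun e' => B.val_inj e'
  · change e * F.l * e - e * π F.l * e ∈ _
    have h1 := F.conj_mem (h.l_sub hE) e
    rwa [hs, mul_sub, sub_mul] at h1

/-- invariant blocks -/
theorem norm_WB {N : Subgroup (RingAut A)} (hN : N ≤ F.Aut) {B : Blk A} (hB : _root_.Cfsg.Agent.DS.Cl.Inv N B.car) :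
    N ≤ normalizer ((WB F B).map (κ A) : Set (RingAut A)) := by
  refine norm_of_conj ?_
  rintro γ hγ _ ⟨u, hu, rfl⟩
  refine ⟨um γ u, ⟨FR.um_mem_Iso (hN hγ) hu.1, ?_⟩, (conj_cj γ u).symm⟩
  have h1 := hB γ hγ _ hu.2
  rwa [map_sub, map_sub, map_one, Blk.stab_e (Blk.mem_stab hB hγ)] at h1

/-- a group acting on a small block -/
theorem sol_of_block [Finite A] {N C : Subgroup (RingAut A)} (hN : N ≤ F.Aut) (B : BD F) (h0 : B.e ≠ 0)
    (hB : B.e * F.l * B.e - B.l ∈ F.L) (hinv : _root_.Cfsg.Agent.DS.Cl.Inv N B.car) (hs : Group.IsSolvable (WB F B.toBlk))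
    (hC : Group.IsSolvable C) (hker : ∀ γ ∈ N, (∀ x ∈ B.car, γ x = x) → γ ∈ C) : Group.IsSolvable N := by
  obtain ⟨φ⟩ := exists_WB_equiv B hB
  have h1 : Group.IsSolvable B.fr.Iso := Group.isSolvable_of_isSolvable_injective (f := φ.toMonoidHom) φ.injective
  have h2 : Group.IsSolvable B.fr.Aut :=
    sol_of_commutator le_rfl (sol_of_commutator (FR.dS_two_le (B.ss.resolve_left h0)) (sol_map _ h1))
  have hst := Blk.mem_stab hinv
  let ρ : N →* RingAut B.toBlk.T := B.toBlk.res.comp (inclusion hst)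
  have h3 : Group.IsSolvable (⊤ : Subgroup N) := by
    refine sol_of_map ρ (sol_of_map_inj N.subtype_injective (sol_of_le ?_ hC)) (sol_of_le ?_ h2)
    · rintro _ ⟨γ, hγ, rfl⟩
      refine hker _ γ.2 fun x hx => ?_
      have h4 := B.toBlk.val_res (inclusion hst γ) (B.toBlk.mk' x hx)
      rw [show B.toBlk.res (inclusion hst γ) = 1 from hγ.2] at h4
      exact h4.symm
    · rintro _ ⟨γ, -, rfl⟩
      refine B.res_mem (hN γ.2).1 ?_
      have h4 := F.conj_mem (hN γ.2).2 B.e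
      have h5 := F.map_mem (hN γ.2).1 hB
      rw [map_sub, map_mul, map_mul, Blk.stab_e (hst γ.2)] at h5
      rw [B.star_e, mul_sub, sub_mul] at h4
      convert F.L.add_mem (F.L.sub_mem h4 h5) hB using 1
      change γ.1 B.l - B.l = _
      abel
  exact Group.isSolvable_of_surjective (f := (⊤ : Subgroup N).subtype) fun x => ⟨⟨x, trivial⟩, rfl⟩

end Cfsg.Agent.T44.Cl
end

-- part: T44/Cl/Four
section
/-!
# S3544, classical groups: eigenvectors of an abelian group of inner automorphisms (helper34)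
-/

set_option autoImplicit false

namespace Cfsg.Agent.T44.Cl

open Cfsg Cfsg.Agent.T44 Cfsg.Agent.DS Cfsg.Agent.DS.Cl Subgroup
open scoped commutatorElement

variable {A : Type} [Ring A] [StarRing A] {F : FR A}

local notation "κ" => DS.Cl.cj

theorem sum_char (hA : SS A) {G : Type*} [Group G] [Fintype G] {φ : G → A} (hm : ∀ g k, φ (g * k) = φ g * φ k)
    {g : G} (hc : φ g ∈ Subring.center A) (hs : φ g * star (φ g) = 1) (hne : φ g ≠ 1) : ∑ k, φ k = 0 := by
  have h1 : φ g * ∑ k, φ k = ∑ k, φ k := by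
    rw [Finset.mul_sum]
    exact Fintype.sum_equiv (Equiv.mulLeft g) _ _ fun k => (hm g k).symm
  refine (Ext.isUnit_sub_one hA hc hs hne).mul_right_eq_zero.1 ?_
  rw [sub_mul, h1, one_mul, sub_self]

omit [StarRing A] in
/-- the eigenvalue -/
def ev (δ : RingAut A) (u : Aˣ) : Aˣ := um δ u * u⁻¹

omit [StarRing A] in
theorem ev_mul_self (δ : RingAut A) (u : Aˣ) : (ev δ u : A) * u = δ u := by
  rw [ev, Units.val_mul, Units.inv_mul_cancel_right, um_val]

omit [StarRing A] in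
theorem ev_eq_one {δ : RingAut A} {u : Aˣ} : ev δ u = 1 ↔ δ u = u := by
  rw [ev, mul_inv_eq_one, Units.ext_iff, um_val]

omit [StarRing A] in
theorem ev_cen {δ : RingAut A} {u : Aˣ} (h : δ * κ A u = κ A u * δ) : (ev δ u : A) ∈ Subring.center A := by
  rw [← cj_eq_one_iff, ev, map_mul, map_inv, ← conj_cj, h, mul_inv_cancel_right, mul_inv_cancel]

theorem ev_mem {δ : RingAut A} (hδ : δ ∈ F.Aut) {u : Aˣ} (hu : u ∈ F.Iso) : ev δ u ∈ F.Iso :=
  mul_mem (FR.um_mem_Iso hδ hu) (inv_mem hu)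

omit [StarRing A] in
theorem ev_mul_left {γ δ : RingAut A} (hγ : γ ∈ Lin A) {u : Aˣ} (h : (ev δ u : A) ∈ Subring.center A) :
    ev (γ * δ) u = ev γ u * ev δ u := by
  apply Units.ext
  rw [← Units.mul_left_inj u, ev_mul_self, ra_mul, ← ev_mul_self δ, map_mul, hγ _ h, ← ev_mul_self γ, Units.val_mul,
    ← mul_assoc, cen_comm h]

omit [StarRing A] in
theorem ev_mul_right (δ : RingAut A) (u : Aˣ) {v : Aˣ} (h : (ev δ v : A) ∈ Subring.center A) :
    ev δ (u * v) = ev δ u * ev δ v := by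
  have h1 : um δ v = ev δ v * v := by rw [ev, inv_mul_cancel_right]
  rw [ev, map_mul, h1, mul_inv_rev, mul_assoc, mul_assoc, mul_inv_cancel_left, ← units_comm h, ← mul_assoc]
  rfl

omit [StarRing A] in
theorem ev_cj (w u : Aˣ) : ev (κ A w) u = ⁅w, u⁆ := Units.ext rfl

omit [StarRing A] in
theorem ev_congr {δ : RingAut A} (hδ : δ ∈ Lin A) {u v : Aˣ} (h : κ A u = κ A v) : ev δ u = ev δ v := by
  obtain ⟨z, hz, rfl⟩ := DS.Cl.cj_eq_iff.1 h
  have h1 : ev δ z = 1 := ev_eq_one.2 (hδ _ hz)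
  rw [ev_mul_right δ v (by rw [h1]; exact one_mem _), h1, mul_one]

namespace Avg

variable {E : Subgroup (RingAut A)} [Fintype E] {π : A →+ A} {m : ℕ} (h : Avg E π m) (hA : SS A) (hE : E ≤ F.PI)
include h hA hE

theorem eigen {u : Aˣ} (hu : u ∈ F.Iso) (hc : κ A u ∈ centralizer (E : Set (RingAut A))) (hn : (u : A) ∉ fixR E) :
    π u = 0 := by
  obtain ⟨δ, hδ, hne⟩ : ∃ δ ∈ E, δ (u : A) ≠ u := by
    by_contra hh
    push Not at hh
    exact hn hh
  have h1 : ∀ γ : E, (ev γ.1 u : A) ∈ Subring.center A := fun γ => ev_cen (mem_centralizer_iff.1 hc γ γ.2)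
  have h2 : ∑ γ : E, (ev γ.1 u : A) = 0 :=
    sum_char hA (φ := fun γ : E => (ev γ.1 u : A)) (g := ⟨δ, hδ⟩)
      (fun γ γ' => congrArg Units.val (ev_mul_left (F.PI_le_Lin (hE γ.2)) (h1 γ'))) (h1 _)
      (ev_mem (F.PI_le_Aut (hE hδ)) hu).1 fun e => hne (ev_eq_one.1 (Units.ext e))
  rw [h.eq, Finset.sum_congr rfl fun (γ : E) _ => (ev_mul_self γ.1 u).symm, ← Finset.sum_mul, h2, zero_mul, smul_zero]

/-- Fourier expansion -/
theorem fourier (hc : Cm E) {s : E → Aˣ} (hs : ∀ x, s x ∈ F.Iso) (hs' : ∀ x, κ A (s x) = x)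
    (hnd : ∀ δ ∈ E, (∀ x, δ (s x : A) = s x) → δ = 1) (a : A) : ∑ x, π (a * s x) * ((s x)⁻¹ : Aˣ) = a := by
  have h1 : ∀ δ x : E, (ev δ.1 (s x) : A) ∈ Subring.center A := fun δ x =>
    ev_cen (by rw [hs']; exact hc _ δ.2 _ x.2)
  have h2 : ∀ δ : E, δ ≠ 1 → ∑ x, (ev δ.1 (s x) : A) = 0 := fun δ hδ => by
    obtain ⟨x, hx⟩ : ∃ x, δ.1 (s x : A) ≠ s x := by
      by_contra hh
      push Not at hh
      exact hδ (Subtype.ext (hnd δ δ.2 hh))
    refine sum_char hA (φ := fun x : E => (ev δ.1 (s x) : A)) (g := x) (fun x y => ?_) (h1 δ x)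
      (ev_mem (F.PI_le_Aut (hE δ.2)) (hs x)).1 fun e => hx (ev_eq_one.1 (Units.ext e))
    rw [← Units.val_mul, ← ev_mul_right _ _ (h1 δ y),
      ev_congr (F.PI_le_Lin (hE δ.2)) (v := s x * s y) (by rw [map_mul, hs', hs', hs']; rfl)]
  have h3 : ∀ x, π (a * s x) * ((s x)⁻¹ : Aˣ) = m • ∑ δ : E, δ.1 a * ev δ.1 (s x) := fun x => by
    rw [h.eq, smul_mul_assoc, Finset.sum_mul]
    exact congrArg _ (Finset.sum_congr rfl fun δ _ => by rw [map_mul, mul_assoc]; rfl)
  rw [Finset.sum_congr rfl fun x _ => h3 x, ← Finset.smul_sum, Finset.sum_comm, Finset.sum_eq_single 1]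
  · rw [← h.card a]
    congr 1
    rw [Finset.sum_congr rfl fun x _ => (show (1 : E).1 (m • Fintype.card E • a) * (ev (1 : E).1 (s x) : A) = a by
      rw [h.card, ev_eq_one.2 rfl, Units.val_one, mul_one]; rfl), Finset.sum_const, Finset.card_univ]
  · intro δ _ hδ
    rw [← Finset.mul_sum, h2 δ hδ, mul_zero]
  · exact fun hh => absurd (Finset.mem_univ _) hh

theorem exists_ne (hc : Cm E) {s : E → Aˣ} (hs : ∀ x, s x ∈ F.Iso) (hs' : ∀ x, κ A (s x) = x)
    (hnd : ∀ δ ∈ E, (∀ x, δ (s x : A) = s x) → δ = 1) {a : A} (ha : a ≠ 0) : ∃ x, π (a * s x) ≠ 0 := by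
  by_contra hh
  push Not at hh
  refine ha ?_
  rw [← h.fourier hA hE hc hs hs' hnd a]
  exact Finset.sum_eq_zero fun x _ => by rw [hh, zero_mul]

end Avg

theorem exists_half (hA : SS A) {z : A} (hc : z ∈ Subring.center A) (hs : z * star z = 1) (hne : z ≠ 1) :
    ∃ c ∈ Subring.center A, c + star c = 1 := by
  obtain ⟨w, hw⟩ := Ext.isUnit_sub_one hA hc hs hne
  have hw' : (w : A) ∈ Subring.center A := hw ▸ Subring.sub_mem _ hc (Subring.one_mem _)
  have h1 : (z - 1) * ((w⁻¹ : Aˣ) : A) = 1 := by rw [← hw, Units.mul_inv]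
  have h2 : star ((w⁻¹ : Aˣ) : A) * (star z - 1) = 1 := by
    have := congrArg star h1
    rwa [star_mul, star_sub, star_one] at this
  have h3 : (star z - 1) * (-(z * ((w⁻¹ : Aˣ) : A))) = 1 := by
    calc (star z - 1) * (-(z * ((w⁻¹ : Aˣ) : A))) = (z - star z * z) * ((w⁻¹ : Aˣ) : A) := by noncomm_ring
      _ = 1 := by rw [cen_comm hc, hs, h1]
  have h4 : star ((w⁻¹ : Aˣ) : A) = -(z * ((w⁻¹ : Aˣ) : A)) := by
    rw [← mul_one (star _), ← h3, ← mul_assoc, h2, one_mul]
  refine ⟨-((w⁻¹ : Aˣ) : A), Subring.neg_mem _ (inv_cen hw'), ?_⟩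
  rw [star_neg, h4, ← h1]
  noncomm_ring

/-- the isometries centralising `E` modulo the centre -/
theorem comm_cent_le (E : Subgroup (RingAut A)) {γ : RingAut A}
    (hγ : γ ∈ ⁅F.PI ⊓ centralizer (E : Set (RingAut A)), F.PI ⊓ centralizer (E : Set (RingAut A))⁆) :
    ∃ u ∈ F.Iso, (u : A) ∈ fixR E ∧ κ A u = γ := by
  let W : Subgroup Aˣ := F.Iso ⊓ (centralizer (E : Set (RingAut A))).comap (κ A)
  have h1 : F.PI ⊓ centralizer (E : Set (RingAut A)) ≤ W.map (κ A) := by
    rintro _ ⟨⟨u, hu, rfl⟩, h⟩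
    exact ⟨u, ⟨hu, h⟩, rfl⟩
  have h2 := commutator_mono h1 h1 hγ
  rw [← map_commutator] at h2
  obtain ⟨w, hw, rfl⟩ := h2
  exact ⟨w, FR.comm_le_Iso (commutator_mono inf_le_left inf_le_left hw),
    fun γ hγ => fix_commutator (W := W) (fun v hv => mem_centralizer_iff.1 hv.2 γ hγ) w hw, rfl⟩

end Cfsg.Agent.T44.Cl
end

-- part: T44/Cl/Idem
section
/-!
# S3544, classical groups: stabilizers of orthogonal decompositions (helper34)
-/

set_option autoImplicit false

namespace Cfsg.Agent.T44.Cl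

open Cfsg Cfsg.Agent.T44 Cfsg.Agent.DS Cfsg.Agent.DS.Cl Subgroup
open scoped commutatorElement

variable {A : Type} [Ring A] [StarRing A] {F : FR A}

local notation "κ" => DS.Cl.cj

/-- the isometries which are trivial outside `e` -/
def We (F : FR A) (e : A) : Subgroup Aˣ where
  carrier := {u | u ∈ F.Iso ∧ (u : A) * (1 - e) = 1 - e ∧ (1 - e) * u = 1 - e}
  one_mem' := ⟨one_mem _, by simp, by simp⟩
  mul_mem' := by
    rintro u v ⟨hu, h1, h2⟩ ⟨hv, h3, h4⟩
    exact ⟨mul_mem hu hv, by rw [Units.val_mul, mul_assoc, h3, h1], by rw [Units.val_mul, ← mul_assoc, h2, h4]⟩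
  inv_mem' := by
    rintro u ⟨hu, h1, h2⟩
    refine ⟨inv_mem hu, ?_, ?_⟩
    · nth_rewrite 1 [← h1]
      rw [Units.inv_mul_cancel_left]
    · nth_rewrite 1 [← h2]
      rw [Units.mul_inv_cancel_right]

theorem We_eq {e : A} (he : e * e = e) (hs : star e = e) : We F e = WB F (Blk.corner e he hs) := by
  ext u
  refine and_congr_right fun _ => ?_
  change _ ↔ e * (u - (1 - e)) = u - (1 - e) ∧ (u - (1 - e)) * e = u - (1 - e)
  rw [mul_sub e, mul_sub e, mul_one, he, sub_self, sub_zero, sub_mul _ _ e, sub_mul _ _ e, one_mul, he, sub_self,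
    sub_zero, mul_sub, sub_mul, mul_one, one_mul, and_comm]
  exact and_congr ⟨fun h => by rw [← h]; abel, fun h => by rw [h]; abel⟩
    ⟨fun h => by rw [← h]; abel, fun h => by rw [h]; abel⟩

theorem dich_We [Finite A] (hA : SS A) {e : A} (he : e * e = e) (hs : star e = e) (h0 : e ≠ 0) : Dich (We F e) := by
  rw [We_eq he hs]
  exact dich_WB (BD.corner hA F e he hs) (by change e * F.l * e - e * F.l * e ∈ _; rw [sub_self]; exact zero_mem _) h0

theorem We.comm {e : A} {u : Aˣ} (hu : u ∈ We F e) : (u : A) * e = e * u := by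
  have h := hu.2.1.trans hu.2.2.symm
  rwa [mul_sub, sub_mul, mul_one, one_mul, sub_right_inj] at h

theorem We.mul_orth {e f : A} {u : Aˣ} (hu : u ∈ We F e) (h : e * f = 0) : (u : A) * f = f := by
  have h1 : (1 - e) * f = f := by rw [sub_mul, one_mul, h, sub_zero]
  rw [← h1, ← mul_assoc, hu.2.1]

theorem We.orth_mul {e f : A} {u : Aˣ} (hu : u ∈ We F e) (h : f * e = 0) : f * (u : A) = f := by
  have h1 : f * (1 - e) = f := by rw [mul_sub, mul_one, h, sub_zero]
  rw [← h1, mul_assoc, hu.2.2]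

theorem We.mul_comm {e f : A} {u v : Aˣ} (hu : u ∈ We F e) (hv : v ∈ We F f) (h1 : e * f = 0) (h2 : f * e = 0) :
    u * v = v * u := by
  apply Units.ext
  have e1 : (v : A) = f * v + (1 - f) := by rw [← hv.2.2, ← add_mul, add_sub_cancel, one_mul]
  have e2 : (v : A) = v * f + (1 - f) := by rw [← hv.2.1, ← mul_add, add_sub_cancel, mul_one]
  rw [Units.val_mul, Units.val_mul]
  calc (u : A) * v = u * (f * v + (1 - f)) := by rw [← e1]
    _ = f * v + (u - f) := by rw [mul_add, ← mul_assoc, mul_sub, mul_one, We.mul_orth hu h1]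
    _ = (v * f + (1 - f)) * u := by rw [add_mul, mul_assoc, sub_mul, one_mul, We.orth_mul hu h2, We.comm hv]
    _ = v * u := by rw [← e2]

theorem We.um_mem {e : A} {u : Aˣ} (hu : u ∈ We F e) {γ : RingAut A} (hγ : γ ∈ F.Aut) : um γ u ∈ We F (γ e) := by
  refine ⟨FR.um_mem_Iso hγ hu.1, ?_, ?_⟩
  · rw [um_val, ← map_one γ, ← map_sub, ← map_mul, hu.2.1]
  · rw [um_val, ← map_one γ, ← map_sub, ← map_mul, hu.2.2]

/-- the component of an isometry commuting with `e` -/
theorem We.exists_comp [Finite A] (hA : SS A) {e : A} (he : e * e = e) (hs : star e = e) {u : Aˣ} (hu : u ∈ F.Iso)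
    (hc : (u : A) * e = e * u) : ∃ v ∈ We F e, (v : A) = u * e + (1 - e) := by
  have h1 : (u : A) * e ∈ (BD.corner hA F e he hs).car :=
    ⟨by rw [← mul_assoc, ← hc, mul_assoc, he], by rw [mul_assoc, he]⟩
  have h2 : (u : A) * e * star ((u : A) * e) = e := by
    rw [star_mul, hs, mul_assoc, ← mul_assoc e, he, ← mul_assoc, hc, mul_assoc, hu.1, mul_one]
  have h3 := up_mem' (BD.corner hA F e he hs)
    (by change e * F.l * e - e * F.l * e ∈ _; rw [sub_self]; exact zero_mem _) h1 h2 (by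
      change (u : A) * e * (e * F.l * e) * star ((u : A) * e) - e * F.l * e ∈ _
      convert F.conj_mem hu.2 e using 1
      rw [mul_sub, sub_mul, hs, ← mul_assoc, ← mul_assoc, mul_assoc _ e e, he, star_mul, hs, ← mul_assoc,
        mul_assoc _ e e, he, ← mul_assoc, ← mul_assoc, ← hc, mul_assoc _ (star (u : A)) e, mul_assoc _ e, ← hs,
        ← star_mul, ← star_mul, hs, hc])
  rw [We_eq he hs]
  exact ⟨_, ⟨h3, by
    change (u : A) * e + (1 - e) - (1 - e) ∈ _
    rw [add_sub_cancel_right]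
    exact h1⟩, rfl⟩

theorem exists_prod [Finite A] (hA : SS A) {D : Finset A} (hD : Fr D) {u : Aˣ} (hu : u ∈ F.Iso)
    (hc : ∀ e ∈ D, (u : A) * e = e * u) : u ∈ ⨆ e ∈ (D : Set A), We F e := by
  classical
  have key : ∀ s : Finset A, s ⊆ D → ∃ v ∈ ⨆ e ∈ (D : Set A), We F e, (v : A) = u * ∑ e ∈ s, e + (1 - ∑ e ∈ s, e) := by
    intro s
    induction s using Finset.induction_on with
    | empty => exact fun _ => ⟨1, one_mem _, by simp⟩
    | insert f s hf ih =>
      intro hs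
      obtain ⟨v, hv, e1⟩ := ih ((Finset.subset_insert _ _).trans hs)
      have hfD : f ∈ D := hs (Finset.mem_insert_self _ _)
      obtain ⟨w, hw, e2⟩ := We.exists_comp hA (hD.idem f hfD) (hD.symm f hfD) hu (hc f hfD)
      have h0 : f * ∑ e ∈ s, e = 0 := by
        rw [Finset.mul_sum]
        exact Finset.sum_eq_zero fun e he => hD.orth f hfD e (hs (Finset.mem_insert_of_mem he)) fun h => hf (h ▸ he)
      refine ⟨w * v, mul_mem (mem_iSup_of_mem f (mem_iSup_of_mem hfD hw)) hv, ?_⟩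
      have h1 : f * (u * ∑ e ∈ s, e) = 0 := by rw [← mul_assoc, ← hc f hfD, mul_assoc, h0, mul_zero]
      rw [Units.val_mul, e1, e2, Finset.sum_insert hf, add_mul, mul_add, mul_add, mul_assoc, h1, mul_assoc, mul_sub f,
        h0, sub_mul, sub_mul, h1, mul_sub f, h0]
      noncomm_ring
  obtain ⟨v, hv, e⟩ := key D subset_rfl
  rw [hD.sum, mul_one, sub_self, add_zero] at e
  rwa [← Units.ext e]

theorem wr_of_frame [Finite A] (hA : SS A) {D : Finset A} (hD : Fr D) :
    Wr (F.S ⊓ setStab (RingAut A) (D : Set A)) (D : Set A) fun e => (We F e).map (κ A) := by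
  have hfix : ∀ e ∈ (D : Set A), (We F e).map (κ A) ≤ ptStab (RingAut A) (D : Set A) := by
    rintro e he _ ⟨u, hu, rfl⟩ f hf
    refine cj_eq_of_mul ?_
    by_cases hef : e = f
    · exact hef ▸ We.comm hu
    · rw [We.mul_orth hu (hD.orth e he f hf hef), We.orth_mul hu (hD.orth f hf e he (Ne.symm hef))]
  refine ⟨D.finite_toSet, inf_le_right, fun e he => le_inf ?_ ?_, ?_, ?_, hfix, ?_⟩
  · rw [FR.S_eq]
    exact commutator_mono (map_mono fun _ h => h.1) (map_mono fun _ h => h.1)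
  · exact (commutator_le_left_of_norm le_normalizer).trans ((hfix e he).trans
      (le_setStab fun g hg x hx => by rwa [hg x hx]))
  · rintro γ hγ e - _ ⟨_, ⟨u, hu, rfl⟩, rfl⟩
    exact ⟨_, We.um_mem hu (F.S_le_Aut hγ.1), (conj_cj γ u).symm⟩
  · rintro e he f hf hef _ ⟨u, hu, rfl⟩
    rw [mem_centralizer_iff]
    rintro _ ⟨v, hv, rfl⟩
    rw [← map_mul, ← map_mul, We.mul_comm hu hv (hD.orth e he f hf hef) (hD.orth f hf e he hef.symm)]
  · rintro γ ⟨hγ, hγ'⟩
    obtain ⟨u, hu, rfl⟩ := F.S_le_PI hγ.1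
    have h1 := exists_prod hA hD hu fun e he => by rw [← cj_mul_eq, show κ A u e = e from hγ' e he]
    have h2 := mem_map_of_mem (κ A) h1
    simpa only [Subgroup.map_iSup] using h2

theorem We_disj [Finite A] (hA : SS A) {D : Finset A} (hD : Fr D) (h3 : 3 ≤ D.card) {e f : A} (he : e ∈ D) (hf : f ∈ D)
    (hef : e ≠ f) : (We F e).map (κ A) ⊓ (We F f).map (κ A) = ⊥ := by
  classical
  rw [eq_bot_iff]
  rintro _ ⟨⟨u, hu, rfl⟩, v, hv, huv⟩
  obtain ⟨g, hg, hg'⟩ : ∃ g ∈ D, g ∉ ({e, f} : Finset A) :=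
    Finset.exists_mem_notMem_of_card_lt_card (lt_of_le_of_lt Finset.card_le_two (by omega))
  rw [Finset.mem_insert, Finset.mem_singleton, not_or] at hg'
  obtain ⟨z, hz, rfl⟩ := DS.Cl.cj_eq_iff.1 huv
  have h1 := We.mul_orth hv (hD.orth f hf g hg (Ne.symm hg'.2))
  rw [Units.val_mul, mul_assoc, ← cen_comm hz, ← mul_assoc, We.mul_orth hu (hD.orth e he g hg (Ne.symm hg'.1))] at h1
  have h2 : (z : A) - 1 = 0 := hA.cen_eq_zero (sub_mem hz (one_mem _)) (hD.symm g hg) (hD.ne g hg)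
    (by rw [sub_mul, one_mul, ← cen_comm hz, h1, sub_self])
  rw [show z = 1 from Units.ext (sub_eq_zero.1 h2), mul_one] at hv
  have h4 := hu.2.1
  rw [mul_sub, mul_one, We.mul_orth hv (hD.orth f hf e he hef.symm), sub_left_inj] at h4
  rw [show u = 1 from Units.ext h4, map_one]
  exact one_mem _

/-- the blocks of a frame are small -/
theorem sm_We [Finite A] (hA : SS A) {D : Finset A} (hD : Fr D) {r : ℕ} {Q : Subgroup (RingAut A)}
    (h : Ch r (F.S ⊓ setStab (RingAut A) (D : Set A)) Q) {e : A} (he : e ∈ D) : Sm (We F e) := by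
  have := finite_ringAut (A := A)
  have w := wr_of_frame (F := F) hA hD
  exact sm_of_ch (h.sub inf_le_left w.norm_base) (dich_We hA (hD.idem e he) (hD.symm e he) (hD.ne e he))
    (w.comm_le_base he) (inf_le_left.trans (w.base_norm he))

theorem alt_le_top [Finite A] (hA : SS A) {D : Finset A} (hD : Fr D) [DecidableEq (D : Set A)]
    (h5 : 5 ≤ Fintype.card (D : Set A)) (htr : ∀ e ∈ D, ∀ f ∈ D, ∃ u ∈ F.Iso, κ A u e = f) :
    alternatingGroup (D : Set A) ≤ (wr_of_frame (F := F) hA hD).top (F.S ⊓ setStab (RingAut A) (D : Set A)) := by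
  let P := F.PI ⊓ setStab (RingAut A) (D : Set A)
  have hP : (permOn P (D : Set A) inf_le_right).range = ⊤ := by
    rw [eq_top_iff, ← Equiv.Perm.closure_isSwap, closure_le]
    rintro _ ⟨e, f, hef, rfl⟩
    have hef' : e.1 ≠ f.1 := fun h => hef (Subtype.ext h)
    obtain ⟨u, hu, hue⟩ := htr e e.2 f f.2
    obtain ⟨w, hw, w1, w2, w3⟩ := hD.exists_swap e.2 f.2 hef' hu hue
    refine swap_mem_range (P := P) inf_le_right (d := κ A w) ⟨⟨w, hw, rfl⟩, fun g => ?_⟩ w1 w2 w3
    change g ∈ D ↔ κ A w g ∈ D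
    by_cases n1 : g = e
    · rw [n1, w1]; exact iff_of_true e.2 f.2
    by_cases n2 : g = f
    · rw [n2, w2]; exact iff_of_true f.2 e.2
    refine ⟨fun h1 => by rwa [w3 _ h1 n1 n2], fun h1 => ?_⟩
    have n3 : κ A w g ≠ e := fun e' => n2 ((κ A w).injective (e'.trans w2.symm))
    have n4 : κ A w g ≠ f := fun e' => n1 ((κ A w).injective (e'.trans w1.symm))
    exact (κ A w).injective (w3 _ h1 n3 n4) ▸ h1
  rw [← alternatingGroup.commutator_perm_eq (by rwa [Nat.card_eq_fintype_card]), commutator_def, ← hP,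
    MonoidHom.range_eq_map, ← map_commutator]
  rintro _ ⟨g, hg, rfl⟩
  have h1 : g.1 ∈ ⁅P, P⁆ := by rw [← map_subtype_commutator]; exact ⟨g, hg, rfl⟩
  have h2 : g.1 ∈ F.S ⊓ setStab (RingAut A) (D : Set A) :=
    ⟨by rw [FR.S_eq]; exact commutator_mono inf_le_left inf_le_left h1, g.2.2⟩
  exact ⟨⟨g.1, h2⟩, h2, rfl⟩

/-- `H` is maximal with respect to `S` -/
structure Cx (F : FR A) (H : Subgroup (RingAut A)) : Prop where
  ss : SS A
  span : F.Span
  simple : IsSimpleGroup F.S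
  noncomm : ¬ IsMulCommutative F.S
  le : H ≤ F.Aut
  not_le : ¬ F.S ≤ H
  max : ∀ P : Subgroup (RingAut A), H ≤ P → P ≤ F.Aut → ¬ F.S ≤ P → F.S ⊓ P ≤ H

namespace Cx

variable {H : Subgroup (RingAut A)} (h : Cx F H) [Finite A]
include h

theorem exists_ctx : ∃ M, Ctx F M := by
  have := finite_ringAut (A := A)
  obtain ⟨M, -, hM⟩ := Finite.exists_le_maximal (p := fun M : Subgroup (RingAut A) => M ≤ F.Aut ∧ ¬ F.S ≤ M)
    (a := H) ⟨h.le, h.not_le⟩
  exact ⟨M, h.ss, h.span, h.simple, h.noncomm, hM.1.1, hM.1.2, fun M' h1 h2 h3 => hM.2 ⟨h2, h3⟩ h1⟩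

omit [Finite A] in
theorem inf_eq {P : Subgroup (RingAut A)} (h1 : H ≤ P) (h2 : ¬ F.S ≤ P) : F.S ⊓ H = F.S ⊓ P := by
  refine le_antisymm (inf_le_inf_left _ h1) (le_inf inf_le_left ?_)
  refine le_trans ?_ (h.max (F.Aut ⊓ P) (le_inf h.le h1) inf_le_left fun e => h2 (e.trans inf_le_right))
  exact le_inf inf_le_left (le_inf (inf_le_left.trans F.S_le_Aut) inf_le_right)

theorem eq_stab {D : Finset A} (hD : Fr D) (hinv : _root_.Cfsg.Agent.DS.Cl.Inv H D) : F.S ⊓ H = F.S ⊓ setStab (RingAut A) (D : Set A) := by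
  obtain ⟨M, hM⟩ := h.exists_ctx
  exact h.inf_eq (le_setStab hinv) (hD.not_le_stab NCTV.boxNC hM)

/-- **no invariant frame** -/
theorem not_inv {r : ℕ} {Q La Lb : Subgroup (RingAut A)} (s : Sit r (F.S ⊓ H) Q La Lb) {D : Finset A} (hD : Fr D) :
    ¬ _root_.Cfsg.Agent.DS.Cl.Inv H D := by
  classical
  intro hinv
  have := finite_ringAut (A := A)
  have hker : ∀ D : Finset A, Fr D → _root_.Cfsg.Agent.DS.Cl.Inv H D →
      Group.IsSolvable (F.S ⊓ H ⊓ ptStab (RingAut A) (D : Set A) : Subgroup (RingAut A)) := fun D hD hinv => by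
    have h1 := s.toCh
    rw [h.eq_stab hD hinv] at h1 ⊢
    exact (wr_of_frame h.ss hD).sol_base fun e he => (sm_We h.ss hD h1 he).sol_map _
  by_cases htr : ∀ e ∈ D, ∀ f ∈ D, ∃ u ∈ F.Iso, κ A u e = f
  · have h0 := hker D hD hinv
    rw [h.eq_stab hD hinv] at s h0
    have w := wr_of_frame (F := F) h.ss hD
    by_cases h5 : 5 ≤ Fintype.card (D : Set A)
    · refine w.false s (fun _ e he f hf hef => We_disj h.ss hD ?_ he hf hef)
        (fun e he => (sm_We h.ss hD s.toCh he).sol_map _) (fun e he => (sm_We h.ss hD s.toCh he).alt_map _)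
        (alt_le_top h.ss hD h5 htr)
      simp only [Finset.coe_sort_coe, Fintype.card_coe] at h5
      omega
    · refine s.nsol (w.sol_of_top h0 ?_)
      have : Group.IsSolvable (Equiv.Perm (D : Set A)) := by
        refine (Sm.of_23 3 1 ?_).sol
        rw [Nat.card_eq_fintype_card, Fintype.card_perm]
        exact Nat.factorial_dvd_factorial (n := 4) (by omega)
      infer_instance
  · push Not at htr
    obtain ⟨e, he, f, hf, hef⟩ := htr
    let Q := H ⊓ F.PI
    let Z : Subring A := Subring.centralizer (Subring.centralizer (D : Set A) : Set A) ⊓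
      ⨅ γ : Q, (γ.1 : A →+* A).eqLocus (RingHom.id A)
    have hZ : ∀ z, z ∈ Z ↔ z ∈ Subring.centralizer (Subring.centralizer (D : Set A) : Set A) ∧ ∀ γ ∈ Q, γ z = z :=
      fun z => by
        rw [Subring.mem_inf, Subring.mem_iInf]
        exact and_congr Iff.rfl ⟨fun h1 γ hγ => h1 ⟨γ, hγ⟩, fun h1 γ => h1 γ γ.2⟩
    have hDD : ∀ x ∈ D, x ∈ Subring.centralizer (D : Set A) := fun x hx y hy => by
      by_cases hxy : y = x
      · rw [hxy]
      · rw [hD.orth y hy x hx hxy, hD.orth x hx y hy (Ne.symm hxy)]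
    let t := D.filter fun g => ∃ u ∈ F.Iso, κ A u e = g
    have hs : ∀ g, g ∈ t ↔ g ∈ D ∧ ∃ u ∈ F.Iso, κ A u e = g := fun g => Finset.mem_filter
    have hsQ : ∀ γ ∈ Q, ∀ g ∈ t, γ g ∈ t := by
      rintro _ ⟨hγ, v, hv, rfl⟩ g hg
      obtain ⟨g1, u, hu, rfl⟩ := (hs g).1 hg
      exact (hs _).2 ⟨hinv _ hγ _ g1, v * u, mul_mem hv hu, by rw [map_mul, ra_mul]⟩
    have hmul : ∀ g ∈ D, g * ∑ x ∈ t, x = if g ∈ t then g else 0 := by
      intro g hg
      rw [Finset.mul_sum]
      split_ifs with h1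
      · rw [Finset.sum_eq_single g (fun y hy hyx => hD.orth g hg y ((hs y).1 hy).1 hyx.symm) (fun h2 => absurd h1 h2),
          hD.idem g hg]
      · exact Finset.sum_eq_zero fun y hy => hD.orth g hg y ((hs y).1 hy).1 fun h2 => h1 (h2 ▸ hy)
    obtain ⟨D', hD', hD'Z, hD'M⟩ := exists_frame Z
      (fun x hx y hy => ((hZ y).1 hy).1 x fun d hd => ((hZ x).1 hx).1 d (hDD d hd)) (e := ∑ x ∈ t, x)
      ((hZ _).2 ⟨Subring.sum_mem _ fun x hx y hy => (hy x ((hs x).1 hx).1).symm, fun γ hγ => by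
        rw [map_sum]
        refine Finset.sum_equiv γ.toEquiv (fun z => ⟨hsQ γ hγ z, fun hz => ?_⟩) fun _ _ => rfl
        exact (ra_inv_apply γ z) ▸ hsQ _ (inv_mem hγ) _ hz⟩)
      (by rw [star_sum]; exact Finset.sum_congr rfl fun x hx => hD.symm x ((hs x).1 hx).1)
      (by rw [Finset.sum_mul]; exact Finset.sum_congr rfl fun x hx => by rw [hmul x ((hs x).1 hx).1, if_pos hx])
      (fun h0 => by
        have h1 := hmul e he
        rw [h0, mul_zero, if_pos ((hs e).2 ⟨he, 1, one_mem _, by rw [map_one, ra_one]⟩)] at h1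
        exact hD.ne e he h1.symm)
      (fun h0 => by
        have h1 := hmul f hf
        rw [h0, mul_one, if_neg fun h2 => by
          obtain ⟨-, u, hu, e'⟩ := (hs f).1 h2
          exact hef u hu e'] at h1
        exact hD.ne f hf h1)
    have hinv' : _root_.Cfsg.Agent.DS.Cl.Inv H D' := hD'M H (h.le.trans F.Aut_le_SAut) fun γ hγ z hz => (hZ _).2
      ⟨inv_centralizer (inv_centralizer hinv) γ hγ z ((hZ z).1 hz).1, fun δ hδ => by
        have h1 := ((hZ z).1 hz).2 (γ⁻¹ * δ * γ⁻¹⁻¹) ⟨H.mul_mem (H.mul_mem (inv_mem hγ) hδ.1) (inv_mem (inv_mem hγ)),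
          FR.conj_mem_PI (inv_mem (h.le hγ)) hδ.2⟩
        rw [inv_inv, ra_mul, ra_mul] at h1
        rw [← ra_apply_inv γ (δ (γ z)), h1]⟩
    refine s.nsol (sol_of_le (le_inf le_rfl ?_) (hker D' hD' hinv'))
    exact fun γ hγ d hd => ((hZ d).1 (hD'Z d hd)).2 γ ⟨hγ.2, F.S_le_PI hγ.1⟩

end Cx

end Cfsg.Agent.T44.Cl
end

-- part: T44/Cl/Main
section
/-!
# S3544, classical groups: the theorem for form rings (helper34)
-/

set_option autoImplicit false

namespace Cfsg.Agent.T44.Cl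

open Cfsg Cfsg.Agent.T44 Cfsg.Agent.DS Cfsg.Agent.DS.Cl Subgroup
open scoped commutatorElement

/-- `Ω₁ Z(Q)` -/
def OZ {G : Type*} [Group G] (r : ℕ) (Q : Subgroup G) : Subgroup G where
  carrier := {x | x ∈ Q ⊓ centralizer (Q : Set G) ∧ x ^ r = 1}
  one_mem' := ⟨one_mem _, one_pow _⟩
  mul_mem' := fun {a b} ha hb => ⟨mul_mem ha.1 hb.1, by
    rw [(show Commute a b from mem_centralizer_iff.1 hb.1.2 a ha.1.1).mul_pow, ha.2, hb.2, mul_one]⟩
  inv_mem' := fun ha => ⟨inv_mem ha.1, by rw [inv_pow, ha.2, inv_one]⟩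

theorem OZ_norm {G : Type*} [Group G] {r : ℕ} {H Q : Subgroup G} (h : H ≤ normalizer (Q : Set G)) :
    H ≤ normalizer (OZ r Q : Set G) := norm_of_conj fun a ha x hx =>
  ⟨conj_mem_of_norm (norm_inf h (norm_centralizer h)) ha hx.1, by rw [conj_pow, hx.2, mul_one, mul_inv_cancel]⟩

theorem OZ_ne {G : Type*} [Group G] [Finite G] {r : ℕ} (hr : r.Prime) {Q : Subgroup G} (hQ : IsPGroup r Q)
    (hne : Q ≠ ⊥) : OZ r Q ≠ ⊥ := by
  have : Fact r.Prime := ⟨hr⟩
  have := (nontrivial_iff_ne_bot Q).2 hne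
  have := hQ.center_nontrivial
  have h1 : r ∣ Nat.card (center Q) :=
    (hQ.to_subgroup _).card_eq_or_dvd.resolve_left (Finite.one_lt_card (α := center Q)).ne'
  obtain ⟨x, hx⟩ := exists_prime_orderOf_dvd_card' r h1
  intro e
  have h2 : (x.1 : G) ∈ OZ r Q := ⟨⟨x.1.2, mem_centralizer_iff.2 fun q hq =>
    congrArg Subtype.val (mem_center_iff.1 x.2 ⟨q, hq⟩)⟩, by
      have h3 := pow_orderOf_eq_one x
      rw [hx] at h3
      exact congrArg (fun t : center Q => (t.1 : G)) h3⟩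
  rw [e, mem_bot] at h2
  rw [show x = 1 from Subtype.ext (Subtype.ext h2), orderOf_one] at hx
  exact hr.one_lt.ne hx

variable {A : Type} [Ring A] [StarRing A] {F : FR A}

local notation "κ" => DS.Cl.cj

omit [StarRing A] in
theorem isUnit_card {r : ℕ} (hr : r.Prime) (hu : IsUnit (r : A)) {E : Subgroup (RingAut A)} [Fintype E]
    (hE : IsPGroup r E) : IsUnit (Fintype.card E : A) := by
  have : Fact r.Prime := ⟨hr⟩
  obtain ⟨k, hk⟩ := IsPGroup.iff_card.1 hE
  rw [← Nat.card_eq_fintype_card, hk, Nat.cast_pow]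
  exact hu.pow k

/-- the centraliser of the fixed ring -/
theorem ss_centralizer [Finite A] (hA : SS A) {E : Subgroup (RingAut A)} [Fintype E] (hE : E ≤ F.PI) (hc : Cm E)
    (hu : IsUnit (Fintype.card E : A)) {s : E → Aˣ} (hs : ∀ x, s x ∈ F.Iso) (hs' : ∀ x, κ A (s x) = x)
    (hnd : ∀ δ ∈ E, (∀ x, δ (s x : A) = s x) → δ = 1) {B : Blk A} (hB : SS B.T) (hBe : B.e = 1)
    (hBc : ∀ x, x ∈ B.car ↔ x ∈ fixR E) (hst : ∀ x ∈ Subring.centralizer (fixR E : Set A), star x ∈
      Subring.centralizer (fixR E : Set A)) : SS (Blk.ofSubring _ hst).T := by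
  obtain ⟨π, m, h⟩ := exists_avgE E hu
  have := hA.nontrivial
  refine Blk.ss_of _ one_ne_zero fun I h1 h2 h3 => ?_
  refine (I.bot_or_exists_ne_zero).imp id ?_
  rintro ⟨a, ha, ha0⟩
  have hlift : ∀ u : Aˣ, κ A u ∈ E → (u : A) ∈ Subring.centralizer (fixR E : Set A) :=
    fun u hu y hy => (comm_of_fixR hu hy).symm
  have h2' : ∀ x ∈ I, ∀ b ∈ Subring.centralizer (fixR E : Set A), x * b ∈ I := fun x hx b hb => by
    have h4 := h3 _ (h2 _ (h3 x hx) _ (hst b hb))
    rwa [star_mul, star_star, star_star] at h4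
  obtain ⟨x, hx⟩ := h.exists_ne hA hE hc hs hs' hnd ha0
  have h4 : π (a * s x) ∈ I := by
    refine h.mem_of fun γ hγ => ?_
    obtain ⟨u, -, rfl⟩ := hE hγ
    exact h2' _ (h2 _ (h2' _ ha _ (hlift _ (by rw [hs']; exact x.2))) _ (hlift u hγ)) _
      (hlift _ (by rw [map_inv]; exact inv_mem hγ))
  have key : ∀ c ∈ I, c ∈ fixR E → c ≠ 0 → ∀ ε : B.T, B.val ε * c = star c → (1 : A) ∈ I := by
    intro c hcI hcR h0 ε hε
    have h5 : B.mk' c ((hBc c).2 hcR) ∈ Subring.center B.T :=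
      B.mem_center_iff.2 fun y hy => h1 c hcI y ((hBc y).1 hy)
    obtain ⟨v, hv⟩ := Ext.isUnit_of_star hB h5 (e := ε) (B.val_inj hε.symm) fun e => h0 (congrArg B.val e)
    have h6 := inv_cen (u := v) (hv ▸ h5)
    have h7 : B.val (v⁻¹ : B.Tˣ) * c = 1 := by
      rw [← hBe, ← B.val_one, ← v.inv_mul, hv]
      rfl
    rw [← h7]
    exact h2 _ hcI _ fun y hy => B.mem_center_iff.1 h6 y ((hBc y).2 hy)
  have hR := h.mem (a * s x)
  by_cases h5 : π (a * s x) + star (π (a * s x)) = 0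
  · refine key _ h4 hR hx (-1) ?_
    rw [map_neg, B.val_one, hBe, neg_mul, one_mul, neg_eq_iff_add_eq_zero, h5]
  · refine key _ (add_mem h4 (h3 _ h4)) (add_mem hR (star_fixR (hE.trans (F.PI_le_Aut.trans F.Aut_le_SAut)) _ hR)) h5 1 ?_
    rw [B.val_one, hBe, one_mul, star_add, star_star, add_comm]

/-- **the theorem for form rings** -/
theorem Cx.false [Finite A] {H : Subgroup (RingAut A)} (h : Cx F H) {r : ℕ} {Q La Lb : Subgroup (RingAut A)}
    (s : Sit r (F.S ⊓ H) Q La Lb) (hu : IsUnit (r : A)) (hQ : H ≤ normalizer (Q : Set (RingAut A)))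
    (ab : Cm Q → (∀ a ∈ Q, a ^ r = 1) → (∀ K ≤ Q, H ≤ normalizer (K : Set (RingAut A)) → K = ⊥ ∨ K = Q) → False) :
    False := by
  classical
  have := finite_ringAut (A := A)
  have := h.ss.nontrivial
  obtain ⟨E, ⟨hE0, hEn, hEm⟩, hEZ⟩ := exists_minInv_le (OZ_ne s.prime s.isO.pg s.Q_ne) (OZ_norm (r := r) hQ)
  have : Fintype E := Fintype.ofFinite E
  have hEQ : E ≤ Q := fun x hx => (hEZ hx).1.1
  have hQE : Q ≤ centralizer (E : Set (RingAut A)) := le_centralizer_iff.1 fun x hx => (hEZ hx).1.2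
  have hc : Cm E := cm_iff.2 (hEQ.trans hQE)
  have hES : E ≤ F.S := hEQ.trans (s.isO.le.trans inf_le_left)
  have hEP : E ≤ F.PI := hES.trans F.S_le_PI
  have hEA : E ≤ F.Aut := hES.trans F.S_le_Aut
  have hES' : E ≤ SAut A := hEA.trans F.Aut_le_SAut
  have hcard := isUnit_card s.prime hu (s.isO.pg.to_le hEQ)
  have hNA : F.S ⊓ H ≤ F.Aut := inf_le_right.trans h.le
  have hbot : ∀ K : Subgroup (RingAut A), E ≤ K → F.S ≤ normalizer (K : Set (RingAut A)) → F.S ≤ K := by
    intro K h1 h2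
    by_contra h3
    exact hE0 (eq_bot_iff.2 fun x hx =>
      inf_eq_bot_of_simple h.simple (fun _ ha _ hk => conj_mem_of_norm h2 ha hk) h3 x (hES hx) (h1 hx))
  have hN : F.S ⊓ H = F.S ⊓ normalizer (E : Set (RingAut A)) := h.inf_eq hEn fun e =>
    h.noncomm ⟨⟨fun a b => Subtype.ext (hc _ (hbot E le_rfl e a.2) _ (hbot E le_rfl e b.2))⟩⟩
  have hRinv : _root_.Cfsg.Agent.DS.Cl.Inv H (fixR E) := inv_fixR hEn
  obtain ⟨R, hR, hRl⟩ := exists_fixBD (F := F) h.ss hEA hcard (one_mem _) (mul_one 1) (star_one A) one_ne_zero (by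
    intro f hf _ _ h1 h2 h3
    by_contra hh
    push Not at hh
    obtain ⟨D, hD, -, hD'⟩ := exists_frame (cenOf (fixR E)) (fun x hx y hy => hy.2 x hx.1)
      ⟨hf, fun y hy => h1 y hy (one_mul y) (mul_one y)⟩ h2 h3 hh.1 hh.2
    exact h.not_inv s hD (hD' H (h.le.trans F.Aut_le_SAut) (inv_cenOf hRinv)))
  have hRe : R.e = 1 := by rw [hR]; rfl
  have hRc : ∀ x, x ∈ R.car ↔ x ∈ fixR E := fun x => by
    rw [hR]; exact ⟨fun hx => hx.1, fun hx => ⟨hx, one_mul x, mul_one x⟩⟩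
  have hR0 : R.e ≠ 0 := hRe ▸ one_ne_zero
  have hRinv' : _root_.Cfsg.Agent.DS.Cl.Inv (F.S ⊓ H) R.car := fun γ hγ x hx => (hRc _).2 (hRinv γ hγ.2 x ((hRc x).1 hx))
  have hWB : ∀ (B : Blk A), B.e = 1 → ∀ u, u ∈ WB F B ↔ u ∈ F.Iso ∧ (u : A) ∈ B.car := fun B hB u => by
    change _ ∧ _ - (1 - B.e) ∈ _ ↔ _
    rw [hB, sub_self, sub_zero]
  have hsm : ∀ B : BD F, B.e ≠ 0 → B.e * F.l * B.e - B.l ∈ F.L → _root_.Cfsg.Agent.DS.Cl.Inv (F.S ⊓ H) B.car →
      ∀ P : Subgroup (RingAut A), F.S ⊓ H = F.S ⊓ P → (WB F B.toBlk).map (κ A) ≤ P → Sm (WB F B.toBlk) := by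
    intro B h0 hl hi P hP hle
    refine sm_of_ch s.toCh (dich_WB B hl h0) ?_ (s.isO.le.trans (norm_WB hNA hi))
    rw [hP]
    refine le_inf ?_ ((commutator_le_left_of_norm le_normalizer).trans hle)
    rw [FR.S_eq]
    exact commutator_mono (map_mono (WB_le _)) (map_mono (WB_le _))
  have hsR : Sm (WB F R.toBlk) := hsm R hR0 hRl hRinv' _ hN (by
    rintro _ ⟨u, hu, rfl⟩
    exact centralizer_le_normalizer _ (cj_cent ((hRc _).1 ((hWB _ hRe u).1 hu).2)))
  have hC : Group.IsSolvable (F.PI ⊓ centralizer (E : Set (RingAut A)) : Subgroup (RingAut A)) := by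
    refine sol_of_commutator (fun γ hγ => ?_) (hsR.sol_map (κ A))
    obtain ⟨u, h1, h2, rfl⟩ := comm_cent_le E hγ
    exact ⟨u, (hWB _ hRe u).2 ⟨h1, (hRc _).2 h2⟩, rfl⟩
  choose t ht ht' using fun x : E => hEP x.2
  have hker : ∀ γ ∈ F.S ⊓ H, (∀ x, γ (t x : A) = t x) → γ ∈ F.PI ⊓ centralizer (E : Set (RingAut A)) := by
    intro γ hγ h1
    refine ⟨F.S_le_PI hγ.1, mem_centralizer_iff.2 fun δ hδ => ?_⟩
    have h2 := conj_cj γ (t ⟨δ, hδ⟩)
    rw [show um γ (t ⟨δ, hδ⟩) = t ⟨δ, hδ⟩ from Units.ext (h1 _), ht'] at h2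
    exact (mul_inv_eq_iff_eq_mul.1 h2).symm
  let E₀ : Subgroup (RingAut A) := E ⊓ _root_.Cfsg.Agent.DS.Cl.Fix {a | ∃ u : Aˣ, κ A u ∈ E ∧ (u : A) = a}
  have hE₀ : ∀ δ ∈ E, (∀ x, δ (t x : A) = t x) → δ ∈ E₀ := by
    rintro δ hδ h1
    refine ⟨hδ, ?_⟩
    rintro _ ⟨u, hu, rfl⟩
    rw [← ev_eq_one, ev_congr (F.PI_le_Lin (hEP hδ)) (ht' ⟨_, hu⟩).symm, ev_eq_one]
    exact h1 _
  have hE₀n : H ≤ normalizer (E₀ : Set (RingAut A)) := by
    refine norm_of_conj fun γ hγ δ hδ => ⟨conj_mem_of_norm hEn hγ hδ.1, ?_⟩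
    rintro _ ⟨u, hu, rfl⟩
    have h1 := hδ.2 _ ⟨um γ⁻¹ u, by rw [← conj_cj, inv_inv]; exact conj_mem_of_norm' hEn hγ hu, rfl⟩
    rw [ra_mul, ra_mul, ← um_val, h1, um_val, ra_apply_inv]
  rcases hEm E₀ inf_le_left hE₀n with h0 | h0
  swap
  · refine s.nsol (sol_of_block hNA R hR0 hRl hRinv' hsR.sol hC fun γ hγ h1 => hker γ hγ fun x => h1 _ ?_)
    refine (hRc _).2 fun δ hδ => ?_
    rw [← h0] at hδ
    exact hδ.2 _ ⟨t x, by rw [ht']; exact x.2, rfl⟩
  have hnd : ∀ δ ∈ E, (∀ x, δ (t x : A) = t x) → δ = 1 := fun δ hδ h1 => by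
    have h2 := hE₀ δ hδ h1
    rwa [h0, mem_bot] at h2
  by_cases hRC : fixR E ≤ Subring.center A
  · have h1 : Q ≤ E := fun γ hγ => by
      obtain ⟨u, hu, rfl⟩ := F.S_le_PI (s.isO.le hγ).1
      obtain ⟨π, m, hπ⟩ := exists_avgE E hcard
      obtain ⟨x, hx⟩ := hπ.exists_ne h.ss hEP hc ht ht' hnd u.ne_zero
      have h2 : ((u * t x : Aˣ) : A) ∈ fixR E := by
        by_contra hh
        refine hx (hπ.eigen h.ss hEP (mul_mem hu (ht x)) ?_ hh)
        rw [map_mul, ht']
        exact mul_mem (hQE hγ) (cm_iff.1 hc x.2)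
      have h3 := cj_eq_one_iff.2 (hRC h2)
      rw [map_mul, ht'] at h3
      rw [eq_inv_of_mul_eq_one_left h3]
      exact inv_mem x.2
    obtain rfl : E = Q := le_antisymm hEQ h1
    exact ab hc (fun a ha => (hEZ ha).2) hEm
  · have hN' : F.S ⊓ H = F.S ⊓ setStab (RingAut A) (fixR E : Set A) := by
      refine h.inf_eq (le_setStab hRinv) fun e => hRC fun a ha => FR.cen_of_S h.span fun γ hγ => ?_
      exact hbot (ptStab (RingAut A) (fixR E : Set A)) (fun δ hδ x hx => hx δ hδ)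
        (norm_of_conj fun _ hg _ hk => conj_mem_ptStab (e hg) hk) hγ a ha
    obtain ⟨δ, hδ, hδ1⟩ := (E.bot_or_exists_ne_one).resolve_left hE0
    obtain ⟨x, hx⟩ : ∃ x, δ (t x : A) ≠ t x := by
      by_contra hh
      push Not at hh
      exact hδ1 (hnd δ hδ hh)
    obtain ⟨c, hc1, hc2⟩ := exists_half h.ss (ev_cen (δ := δ) (u := t x) (by rw [ht']; exact hc _ hδ _ x.2))
      (ev_mem (hEA hδ) (ht x)).1 fun e => hx (ev_eq_one.1 (Units.ext e))
    have hL := F.L_eq hc1 hc2
    have hst := star_centralizer (star_fixR hES')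
    let B : BD F := ⟨Blk.ofSubring _ hst, c, fun y _ => cen_comm hc1 y, hc2, Or.inl hL,
      Or.inr (ss_centralizer h.ss hEP hc hcard ht ht' hnd (R.ss.resolve_left hR0) hRe hRc hst)⟩
    have hBl : B.e * F.l * B.e - B.l ∈ F.L := by
      rw [hL]
      change star (1 * F.l * 1 - c) = -(1 * F.l * 1 - c)
      rw [one_mul, mul_one, star_sub, F.star_l, eq_sub_of_add_eq' hc2]
      abel
    have hBinv : _root_.Cfsg.Agent.DS.Cl.Inv (F.S ⊓ H) B.car := fun γ hγ => inv_centralizer hRinv γ hγ.2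
    have hsB : Sm (WB F B.toBlk) := hsm B one_ne_zero hBl hBinv _ hN' (by
      refine le_setStab ?_
      rintro _ ⟨u, hu, rfl⟩ y hy
      rwa [show κ A u • y = y from cj_eq_of_mul (((hWB _ rfl u).1 hu).2 y hy).symm])
    exact s.nsol (sol_of_block hNA B one_ne_zero hBl hBinv hsB.sol hC fun γ hγ h1 => hker γ hγ fun x =>
      h1 _ fun y hy => (comm_of_fixR (by rw [ht']; exact x.2) hy).symm)

end Cfsg.Agent.T44.Cl
end

-- part: T44/Cl/Sp2
section
/-!
# S3544, classical groups: small symplectic spaces over the field with two elements, index lemmas (helper34)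
-/

set_option autoImplicit false

namespace Cfsg.Agent.T44.Cl

open Cfsg Cfsg.Agent.T44 Cfsg.Agent.DS.Cl.Vec Subgroup

theorem exists_sp_ker {E N : Type} [Group E] [Finite E] [Group N] (β : E → E → ZMod 2)
    (h1 : ∀ x y z, β (x * y) z = β x z + β y z) (h2 : ∀ x y z, β x (y * z) = β x y + β x z) (h0 : ∀ x, β x x = 0)
    (hcard : Nat.card (Set.range β) ≤ 64) (φ : N →* MulAut E) (hφ : ∀ γ x y, β (φ γ x) (φ γ y) = β x y) :
    ∃ K : Subgroup N, K.index ∣ 2 ^ 9 * 3 ^ 4 * 5 * 7 ∧ ∀ γ ∈ K, ∀ x, β (φ γ x) = β x := by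
  have hsym : ∀ x y, β x y = β y x := fun x y => by
    have h := h0 (x * y)
    rw [h1, h2, h2, h0, h0, zero_add, add_zero] at h
    exact (eq_neg_of_add_eq_zero_left h).trans (ZMod.neg_eq_self_mod_two _)
  have hone : β 1 = 0 := funext fun z => by
    have h := h1 1 1 z
    rw [mul_one] at h
    exact left_eq_add.1 h
  let V : Submodule (ZMod 2) (E → ZMod 2) :=
    { carrier := Set.range β
      add_mem' := by
        rintro _ _ ⟨x, rfl⟩ ⟨y, rfl⟩
        exact ⟨x * y, funext (h1 x y)⟩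
      zero_mem' := ⟨1, hone⟩
      smul_mem' := by
        rintro c _ ⟨x, rfl⟩
        rcases (by decide : ∀ c : ZMod 2, c = 0 ∨ c = 1) c with rfl | rfl
        · exact ⟨1, by rw [hone, zero_smul]⟩
        · exact ⟨x, by rw [one_smul]⟩ }
  let π : E → V := fun x => ⟨β x, x, rfl⟩
  have hπ : ∀ x y, π (x * y) = π x + π y := fun x y => Subtype.ext (funext (h1 x y))
  have hsurj : Function.Surjective π := by
    rintro ⟨_, x, rfl⟩
    exact ⟨x, rfl⟩
  choose s hs using hsurj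
  have hs' : ∀ v, β (s v) = v.1 := fun v => congrArg Subtype.val (hs v)
  have a2 : ∀ (v : V) w w', v.1 (s (w + w')) = v.1 (s w) + v.1 (s w') := fun v w w' => by
    rw [← hs' v, hsym, hsym _ (s w), hsym _ (s w'), hs', hs', hs']
    rfl
  let B : LinearMap.BilinForm (ZMod 2) V := LinearMap.mk₂ (ZMod 2) (fun v w => v.1 (s w)) (fun _ _ _ => rfl)
    (fun _ _ _ => rfl) a2 fun c v w => ZMod.map_smul (AddMonoidHom.mk' (fun w => v.1 (s w)) (a2 v)) c w
  have hB : ∀ x y, B (π x) (π y) = β x y := fun x y => by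
    change β x (s (π y)) = _
    rw [hsym, hs', hsym]
  have key : ∀ γ x y, π x = π y → π (φ γ x) = π (φ γ y) := fun γ x y hxy => Subtype.ext (funext fun z => by
    obtain ⟨z, rfl⟩ := (φ γ).surjective z
    change β _ _ = β _ _
    rw [hφ, hφ]
    exact congrFun (congrArg Subtype.val hxy) z)
  let f : N → V →+ V := fun γ => AddMonoidHom.mk' (fun v => π (φ γ (s v))) fun v w => by
    rw [← hπ, ← map_mul]
    apply key
    rw [hπ, hs, hs, hs]
  have hf : ∀ γ x, f γ (π x) = π (φ γ x) := fun γ x => key γ _ _ (hs _)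
  let g : N →* Module.End (ZMod 2) V :=
    { toFun := fun γ => (f γ).toZModLinearMap 2
      map_one' := by
        refine LinearMap.ext fun v => ?_
        rw [← hs v]
        exact (hf 1 _).trans (by rw [map_one]; rfl)
      map_mul' := fun γ δ => by
        refine LinearMap.ext fun v => ?_
        rw [← hs v]
        change f (γ * δ) (π _) = f γ (f δ (π _))
        rw [hf, hf, hf, map_mul]
        rfl }
  let ρ : N →* (V ≃ₗ[ZMod 2] V) :=
    (LinearMap.GeneralLinearGroup.generalLinearEquiv (ZMod 2) V).toMonoidHom.comp g.toHomUnits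
  have hρ : ∀ γ x, ρ γ (π x) = π (φ γ x) := hf
  refine ⟨ρ.ker, ?_, fun γ hγ x => ?_⟩
  · have hle : ρ.range ≤ Isom (ZMod 2) fun v w => B v w := by
      rintro _ ⟨γ, rfl⟩ v w
      change B _ _ = B _ _
      rw [← hs v, ← hs w, hρ, hρ, hB, hB, hφ]
    have : Finite V := Finite.of_surjective π fun v => ⟨s v, hs v⟩
    obtain ⟨m, hm, ⟨e⟩⟩ := exists_sp_equiv B (fun v => by rw [← hs v, hB, h0]) fun v hv => Subtype.ext (funext fun z => by
      have h := hv (π z)
      rw [← hs v, hB, hs'] at h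
      exact h)
    have h3 : Nat.card V = 2 ^ (2 * m) := by rw [Module.natCard_eq_pow_finrank (K := ZMod 2), hm, Nat.card_zmod]
    have h4 : m ≤ 3 := by
      by_contra hh
      have h5 : 2 ^ 8 ≤ 2 ^ (2 * m) := Nat.pow_le_pow_right (by norm_num) (by omega)
      have h6 : Nat.card V ≤ 64 := hcard
      omega
    rw [index_ker]
    refine (card_dvd_of_le hle).trans ?_
    rw [← Nat.card_congr e.toEquiv, S0245.result (ZMod.card 2) m]
    interval_cases m <;> decide
  · have h := hρ γ x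
    rw [MonoidHom.mem_ker.1 hγ] at h
    exact (congrArg Subtype.val h).symm

variable {G : Type*} [Group G] [Finite G]

/-- if the `l`-elements of `K` lie in `Q` then the `l`-part of `|N : Q|` divides `|N : K|` -/
theorem dvd_relIndex_of_ell {l k : ℕ} (hl : l.Prime) {N Q K : Subgroup G} (hK : K ≤ N)
    (h : ∀ x ∈ K, ∀ j : ℕ, x ^ l ^ j = 1 → x ∈ Q) (hd : l ^ k ∣ Q.relIndex N) : l ^ k ∣ K.relIndex N := by
  obtain ⟨P, hP⟩ := exists_syl' hl K
  have h1 : P ≤ Q ⊓ K := le_inf (fun x hx => by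
    obtain ⟨j, hj⟩ := hP.pg ⟨x, hx⟩
    exact h x (hP.le hx) j (congrArg Subtype.val hj)) hP.le
  have h2 : ¬ l ∣ (Q ⊓ K).relIndex K := fun e => hP.idx (e.trans (relIndex_dvd_of_le_left K h1))
  have h3 := hd.trans (relIndex_dvd_of_le_left N (inf_le_left : Q ⊓ K ≤ Q))
  rw [← relIndex_mul_relIndex (Q ⊓ K) K N inf_le_right hK] at h3
  exact (((Nat.Prime.coprime_iff_not_dvd hl).2 h2).pow_left k).dvd_of_dvd_mul_left h3

theorem not_sq_dvd {l n : ℕ} (hl : l.Prime) (h5 : 5 ≤ l) (a b : ℕ) (hn : n ∣ 2 ^ a * 3 ^ b * 5 * 7) : ¬ l ^ 2 ∣ n := by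
  intro h
  have h1 := h.trans hn
  have c2 : (l ^ 2).Coprime (2 ^ a) := ((Nat.coprime_primes hl Nat.prime_two).2 (by omega)).pow _ _
  have c3 : (l ^ 2).Coprime (3 ^ b) := ((Nat.coprime_primes hl Nat.prime_three).2 (by omega)).pow _ _
  rw [mul_assoc, mul_assoc] at h1
  have h2 := c3.dvd_of_dvd_mul_left (c2.dvd_of_dvd_mul_left h1)
  have h3 := Nat.le_of_dvd (by norm_num) h2
  obtain rfl : l = 5 := by nlinarith only [h5, h3]
  exact absurd h2 (by decide)

end Cfsg.Agent.T44.Cl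
end

private theorem dce_fc31a1f2027d : _root_.True := by
  try have : _root_.True := by simp only [_root_.Cfsg.Agent.T44.Cl.ev.eq_1]
  exact _root_.True.intro
end

-- part: T44/Cl/Row
section
set_option linter.all false
open scoped Cfsg.Agent.FastGrp

/-!
# S3544, classical groups: from form rings to almost simple groups (helper34, after helper12's `DS/Cl/Row`)
-/

set_option autoImplicit false

namespace Cfsg.Agent.T44.Cl

open Cfsg Cfsg.Agent.T44 Cfsg.Agent.DS Cfsg.Agent.DS.Cl Subgroup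

variable {A : Type} [Ring A] [StarRing A]

theorem ModelOn.congr {T T' : Type} [Group T] [Group T'] (e : T' ≃* T) {Γ : Set (MulAut T)} (h : ModelOn A T Γ)
    {Γ' : Set (MulAut T')} (hΓ : ∀ α ∈ Γ', MulAut.congr e α ∈ Γ) : ModelOn A T' Γ' := by
  obtain ⟨F, f, hss, hspan, h⟩ := h
  refine ⟨F, f.trans e.symm, hss, hspan, fun α hα => ?_⟩
  obtain ⟨γ, hγ, h1⟩ := h _ (hΓ α hα)
  refine ⟨γ, hγ, fun s t hst => ?_⟩
  rw [MulEquiv.trans_apply, MulEquiv.trans_apply, h1 s t hst]
  exact e.symm_apply_apply _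

section tr

variable {G Γ : Type*} [Group G] [Group Γ] {T : Subgroup G} {S : Subgroup Γ}

/-- the embedding of a model -/
def psi (e : S ≃* T) : S →* G := T.subtype.comp e.toMonoidHom

theorem psi_inj (e : S ≃* T) : Function.Injective (psi e) := T.subtype_injective.comp e.injective

/-- transport of subgroups -/
def tr (e : S ≃* T) (X : Subgroup G) : Subgroup Γ := (X.comap (psi e)).map S.subtype

theorem mem_tr {e : S ≃* T} {X : Subgroup G} {s : S} : (s : Γ) ∈ tr e X ↔ psi e s ∈ X :=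
  mem_map_iff_mem S.subtype_injective

theorem tr_le (e : S ≃* T) (X : Subgroup G) : tr e X ≤ S := map_subtype_le _

theorem map_comap_psi (e : S ≃* T) {X : Subgroup G} (hX : X ≤ T) : (X.comap (psi e)).map (psi e) = X := by
  refine map_comap_eq_self fun x hx => ?_
  obtain ⟨s, hs⟩ := e.surjective ⟨x, hX hx⟩
  exact ⟨s, congrArg Subtype.val hs⟩

theorem tr_mono (e : S ≃* T) {X Y : Subgroup G} (h : X ≤ Y) : tr e X ≤ tr e Y := map_mono (comap_mono h)

theorem le_of_tr_le {e : S ≃* T} {X Y : Subgroup G} (hX : X ≤ T) (h : tr e X ≤ tr e Y) : X ≤ Y := fun x hx => by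
  obtain ⟨s, hs⟩ := e.surjective ⟨x, hX hx⟩
  have h1 : psi e s = x := congrArg Subtype.val hs
  rw [← h1] at hx ⊢
  exact mem_tr.1 (h (mem_tr.2 hx))

theorem Sit.tr (e : S ≃* T) {r : ℕ} {N Q La Lb : Subgroup G} (h : Sit r N Q La Lb) (hN : N ≤ T) :
    Sit r (tr e N) (tr e Q) (tr e La) (tr e Lb) := by
  refine (sit_map_iff S.subtype_injective).2 ((sit_map_iff (psi_inj e)).1 ?_)
  rwa [map_comap_psi e hN, map_comap_psi e (h.isO.le.trans hN), map_comap_psi e (h.La_le.trans hN),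
    map_comap_psi e (h.Lb_le.trans hN)]

end tr

variable {G : Type} [Group G] [Finite G] {T H Q : Subgroup G} {r : ℕ} {Ya Yb : Set G} {da db : ℕ}

theorem row_model [Finite A] (h : AS T H Q r Ya Yb da db) (hu : IsUnit (r : A))
    (hmod : ModelOn A T {α | ∃ g : G, ∀ s : T, ((α s : T) : G) = g * s * g⁻¹}) : False := by
  obtain ⟨F, e, hss, hspan, hΓ⟩ := hmod
  have hN := h.normal
  have hle : F.Aut ≤ normalizer (F.S : Set (RingAut A)) := norm_of_conj fun _ hγ _ hs => FR.conj_mem_S hγ hs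
  let θ : F.Aut →* MulAut T := (MulAut.congr e).toMonoidHom.comp (F.S.normalizerMonoidHom.comp (inclusion hle))
  have hθ : ∀ (γ : F.Aut) (s t : F.S), (t : RingAut A) = γ * s * (γ : RingAut A)⁻¹ → θ γ (e s) = e t := by
    intro γ s t h
    change e (F.S.normalizerMonoidHom (inclusion hle γ) (e.symm (e s))) = e t
    rw [e.symm_apply_apply]
    exact congrArg e (Subtype.ext h.symm)
  let ι : G →* MulAut T := MulAut.conjNormal
  have hι : Function.Injective ι := by
    rw [injective_iff_map_eq_one]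
    intro g hg
    rw [← mem_bot, ← h.centT, mem_centralizer_iff]
    intro s hsS
    have h1 : ((ι g ⟨s, hsS⟩ : T) : G) = s := by rw [hg]; rfl
    have h2 : g * s * g⁻¹ = s := h1
    rw [← mul_inv_eq_iff_eq_mul.1 h2]
  have hsurj : ∀ g : G, ∃ γ : F.Aut, θ γ = ι g := fun g => by
    obtain ⟨γ, hγ, h⟩ := hΓ (ι g) ⟨g, fun s => rfl⟩
    refine ⟨⟨γ, hγ⟩, MulEquiv.ext fun x => ?_⟩
    obtain ⟨s, rfl⟩ := e.surjective x
    rw [hθ ⟨γ, hγ⟩ s ⟨_, FR.conj_mem_S hγ s.2⟩ rfl]
    exact h s _ rfl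
  have hS : ∀ s : F.S, θ ⟨s, F.S_le_Aut s.2⟩ = ι (psi e s) := fun s => by
    refine MulEquiv.ext fun x => ?_
    obtain ⟨t, rfl⟩ := e.surjective x
    rw [hθ ⟨s, F.S_le_Aut s.2⟩ t (s * t * s⁻¹) rfl, map_mul, map_mul, map_inv]
    rfl
  let H' : Subgroup (RingAut A) := ((H.map ι).comap θ).map F.Aut.subtype
  have hH' : ∀ s : F.S, (s : RingAut A) ∈ H' ↔ psi e s ∈ H := fun s => by
    constructor
    · rintro ⟨γ, ⟨y, hy, hyγ⟩, hγ⟩
      have h1 : γ = ⟨s, F.S_le_Aut s.2⟩ := Subtype.ext hγ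
      rw [h1, hS] at hyγ
      rwa [hι hyγ] at hy
    · exact fun hs => ⟨⟨s, F.S_le_Aut s.2⟩, ⟨_, hs, (hS s).symm⟩, rfl⟩
  have hTH : ∀ K : Subgroup G, (∀ s : F.S, psi e s ∈ K) → T ≤ K := fun K hK x hx => by
    obtain ⟨s, hs⟩ := e.surjective ⟨x, hx⟩
    rw [show x = psi e s from (congrArg Subtype.val hs).symm]
    exact hK s
  have hsimple := h.simple
  have hcx : Cx F H' := by
    refine ⟨hss, hspan, e.isSimpleGroup, fun hc => h.noncomm ⟨⟨fun a b => by
      obtain ⟨a, rfl⟩ := e.surjective a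
      obtain ⟨b, rfl⟩ := e.surjective b
      rw [← map_mul, ← map_mul, hc.1.1 a b]⟩⟩, map_subtype_le _,
      fun hle => h.not_T_le (hTH H fun s => (hH' s).1 (hle s.2)), fun P h1 h2 h3 => ?_⟩
    let K : Subgroup G := ((P.subgroupOf F.Aut).map θ).comap ι
    have hHK : H ≤ K := fun x hx => by
      obtain ⟨γ, hγ⟩ := hsurj x
      exact ⟨γ, h1 ⟨γ, ⟨x, hx, hγ.symm⟩, rfl⟩, hγ⟩
    have hK : K = H := by
      by_contra hne
      have h4 : K = ⊤ := h.coatom.2 K (lt_of_le_of_ne hHK (Ne.symm hne))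
      refine h3 fun s hs' => ?_
      obtain ⟨γ, hγ, h5⟩ : psi e ⟨s, hs'⟩ ∈ K := h4 ▸ mem_top _
      rw [← hS] at h5
      have h6 : ((γ⁻¹ * ⟨s, F.S_le_Aut hs'⟩ : F.Aut) : RingAut A) ∈ P :=
        h1 ⟨γ⁻¹ * ⟨s, F.S_le_Aut hs'⟩, ⟨1, one_mem _, by rw [map_one, map_mul, map_inv, h5, inv_mul_cancel]⟩, rfl⟩
      have h7 := P.mul_mem (mem_subgroupOf.1 hγ) h6
      simpa using h7
    rintro s ⟨hs, hsP⟩
    refine (hH' ⟨s, hs⟩).2 ?_
    rw [← hK]
    exact ⟨⟨s, F.S_le_Aut hs⟩, hsP, hS ⟨s, hs⟩⟩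
  have hM : tr e (T ⊓ H) = F.S ⊓ H' := by
    ext s
    refine ⟨fun hs => ⟨tr_le e _ hs, (hH' ⟨s, tr_le e _ hs⟩).2
      (mem_inf.1 ((mem_tr (s := ⟨s, tr_le e _ hs⟩)).1 hs)).2⟩, fun hs => ?_⟩
    exact (mem_tr (s := ⟨s, hs.1⟩)).2 ⟨(e ⟨s, hs.1⟩).2, (hH' ⟨s, hs.1⟩).1 hs.2⟩
  have hnorm : ∀ K : Subgroup G, H ≤ normalizer (K : Set G) → H' ≤ normalizer (tr e K : Set (RingAut A)) := by
    intro K hK
    refine norm_of_conj ?_
    rintro _ ⟨γ, ⟨g, hg, hγ⟩, rfl⟩ _ ⟨s, hs, rfl⟩
    refine (mem_tr (s := ⟨_, FR.conj_mem_S γ.2 s.2⟩)).2 ?_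
    have h1 := hθ γ s ⟨_, FR.conj_mem_S γ.2 s.2⟩ rfl
    rw [← hγ] at h1
    have h2 : g * psi e s * g⁻¹ = psi e ⟨_, FR.conj_mem_S γ.2 s.2⟩ := congrArg Subtype.val h1
    rw [← h2]
    exact conj_mem_of_norm hK hg hs
  have hs := (sit_of_cfg h.toCfg).tr e inf_le_left
  rw [hM] at hs
  have hQ : ∀ x ∈ Q, ∃ s : F.S, psi e s = x ∧ (s : RingAut A) ∈ tr e Q := fun x hx => by
    obtain ⟨s, hs⟩ := e.surjective ⟨x, h.Q_le_T hx⟩
    have h1 : psi e s = x := congrArg Subtype.val hs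
    exact ⟨s, h1, mem_tr.2 (h1 ▸ hx)⟩
  refine hcx.false hs hu (hnorm Q h.H_norm_Q) fun h1 h2 h3 => ab h.toCfg (fun a ha b hb => ?_) (fun a ha => ?_)
    fun K hK hn => ?_
  · obtain ⟨s, rfl, hs⟩ := hQ a ha
    obtain ⟨t, rfl, ht⟩ := hQ b hb
    rw [← map_mul, ← map_mul, show s * t = t * s from Subtype.ext (h1 _ hs _ ht)]
  · obtain ⟨s, rfl, hs⟩ := hQ a ha
    rw [← map_pow, show s ^ r = 1 from Subtype.ext (h2 _ hs), map_one]
  · refine (h3 _ (tr_mono e hK) (hnorm K hn)).imp (fun h4 => ?_) fun h4 => ?_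
    · exact le_bot_iff.1 (le_of_tr_le (e := e) (hK.trans h.Q_le_T) (h4 ▸ bot_le))
    · exact le_antisymm hK (le_of_tr_le (e := e) h.Q_le_T h4.ge)

theorem row_of [Finite A] (h : AS T H Q r Ya Yb da db) (hu : IsUnit (r : A)) {X : Type} [Group X] (e : T ≃* X)
    {Γ : Set (MulAut X)} (hm : ModelOn A X Γ) (hΓ : ∀ α, α ∈ Γ) : False :=
  row_model h hu (hm.congr e fun _ _ => hΓ _)

end Cfsg.Agent.T44.Cl
end

-- part: T44/Cl/Rows
section
set_option linter.all false
open scoped Cfsg.Agent.FastGrp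

/-!
# S3544, classical groups: the rows without exotic automorphisms (helper34)
-/

set_option autoImplicit false

namespace Cfsg.Agent.T44.Cl

open Cfsg Cfsg.Agent.T44 Cfsg.Agent.DS.Cl.Fwd

theorem cast_ne_zero {F : Type} [Field F] [Finite F] {p r : ℕ} [CharP F p] (hr : r.Prime) (h : p ≠ r) : (r : F) ≠ 0 :=
  fun e => h ((Nat.prime_dvd_prime_iff_eq (CharP.char_is_prime F p) hr).1 ((CharP.cast_eq_zero_iff F p r).1 e))

theorem isUnit_EB {K V : Type} [Field K] [AddCommGroup V] [Module K V] (h : HF K V) {r : ℕ} (hr : (r : K) ≠ 0) :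
    IsUnit (r : h.EB) := by
  have h1 := hr.isUnit.map (algebraMap K (Module.End K V))
  rwa [map_natCast] at h1

theorem isUnit_LR {ι F : Type} [Fintype ι] [DecidableEq ι] [Field F] {r : ℕ} (hr : (r : F) ≠ 0) :
    IsUnit (r : LR ι F) := by
  have h1 := hr.isUnit.map (algebraMap F (Matrix ι ι F × Matrix ι ι F))
  rwa [map_natCast] at h1

theorem boxPSL : BoxPSL := by
  rintro - G _ _ T H Q r Ya Yb da db h ⟨p, hp, F, _, _, _, n, hn, hn2, ⟨e⟩⟩
  exact row_of h (isUnit_LR (cast_ne_zero h.prime hp)) e (modL F n hn hn2) fun _ => trivial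

theorem boxPSU : BoxPSU := by
  rintro - G _ _ T H Q r Ya Yb da db h ⟨p, hp, F, _, _, _, n, q, hF, hn, h32, ⟨e⟩⟩
  exact row_of h (isUnit_EB _ (cast_ne_zero h.prime hp)) e (modU F n q hF hn h32) fun _ => trivial

/-- `Sp₄(2^a)` -/
def BoxB2 : Prop := Row fun r T _ => ∃ (F : Type) (_ : Field F) (_ : Fintype F), 3 ≤ Fintype.card F ∧ (r : F) ≠ 0 ∧
  Nonempty (T ≃* PSp 2 F)

/-- `PΩ₈⁺(q)` -/
def BoxD4 : Prop := Row fun r T _ => ∃ (F : Type) (_ : Field F) (_ : Fintype F), (r : F) ≠ 0 ∧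
  Nonempty (T ≃* POmega F (quadFormPlus 4 F))

theorem boxPSp_of (hB : BoxB2) : BoxPSp := by
  rintro - G _ _ T H Q r Ya Yb da db h ⟨p, hp, F, _, _, _, m, hm, hm2, ⟨e⟩⟩
  by_cases hcase : m = 2
  · subst hcase
    exact hB G T H Q r Ya Yb da db h ⟨F, inferInstance, inferInstance, hm2 rfl, cast_ne_zero h.prime hp, ⟨e⟩⟩
  · refine row_of h (isUnit_EB _ (cast_ne_zero h.prime hp)) e (modSp F m hm hm2) fun α => ?_
    exact Cfsg.Agent.ClassicalGeometry.SympAutExists.exists_semi hm α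
      (Cfsg.Agent.ClassicalGeometry.SympAutOddA.recog hm (Or.inl (by omega)) α)

section orth

open Cfsg.Agent.LieClassical.OrthForms Cfsg.Agent.ClassicalGeometry.OrthSemiForms

theorem row_orth {G : Type} [Group G] [Finite G] {T H Q : Subgroup G} {r : ℕ} {Ya Yb : Set G} {da db : ℕ}
    (h : AS T H Q r Ya Yb da db) {F ι : Type} [Field F] [Fintype F] [Fintype ι] [DecidableEq ι] (hr : (r : F) ≠ 0)
    {q : QuadraticForm F (ι → F)} (hG : Cfsg.Agent.LieClassical.OrthTrans.Good q)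
    (hsurj : Function.Surjective (Cfsg.Agent.ClassicalGeometry.OrthSemi.Psi q)) {f : (ι → F) → F} (hf : ⇑q = f)
    (e : T ≃* POmega F f) : False := by
  subst hf
  exact row_of h (isUnit_EB _ hr) (e.trans (pomegaEquiv hG)) (modO F _ q hG) hsurj

theorem boxOOdd : BoxOOdd := by
  rintro - G _ _ T H Q r Ya Yb da db h ⟨p, hp, F, _, _, _, m, hm, hq, ⟨e⟩⟩
  have h2 : (2 : F) ≠ 0 := by
    intro h2
    have := ringChar.charP F
    have h3 : ringChar F = 2 := (Nat.prime_dvd_prime_iff_eq (CharP.char_is_prime F (ringChar F)) Nat.prime_two).1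
      ((ringChar.spec F 2).1 (by exact_mod_cast h2))
    have h4 := FiniteField.even_card_of_char_two h3
    obtain ⟨k, hk⟩ := hq
    omega
  exact row_orth h (cast_ne_zero h.prime hp) (good_odd (by omega) h2)
    (Cfsg.Agent.AutOrth.Final.surjective_odd hm h2) (coe_oddForm _ _) e

theorem boxOPlus_of (hD : BoxD4) : BoxOPlus := by
  rintro - G _ _ T H Q r Ya Yb da db h ⟨p, hp, F, _, _, _, m, hm, ⟨e⟩⟩
  by_cases h4 : m = 4
  · subst h4
    exact hD G T H Q r Ya Yb da db h ⟨F, inferInstance, inferInstance, cast_ne_zero h.prime hp, ⟨e⟩⟩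
  · exact row_orth h (cast_ne_zero h.prime hp) (good_plus (by omega))
      (Cfsg.Agent.AutOrth.Final.surjective_plus (by omega)) (coe_plusForm _ _) e

theorem boxOMinus : BoxOMinus := by
  rintro - G _ _ T H Q r Ya Yb da db h ⟨p, hp, F, _, _, _, m, a, b, hm, hab, ⟨e⟩⟩
  exact row_orth h (cast_ne_zero h.prime hp) (good_minus (by omega) a b hab)
    (Cfsg.Agent.AutOrth.Final.surjective_minus (by omega) hab) (coe_minusForm _ _ a b) e

end orth

end Cfsg.Agent.T44.Cl
end

-- part: T44/Cl/Tiny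
section
set_option linter.all false
open scoped Cfsg.Agent.FastGrp

/-!
# S3544, classical groups: rings of matrices of size at most eight; atoms (helper34)
-/

set_option autoImplicit false

namespace Cfsg.Agent.T44.Cl

open Cfsg Cfsg.Agent.DS Cfsg.Agent.DS.Cl Module

section lin

variable {K V : Type} [Field K] [AddCommGroup V] [Module K V] [FiniteDimensional K V]

theorem sum_rank_le {ι : Type} (D : Finset ι) (f : ι → End K V) (h1 : ∀ e ∈ D, f e * f e = f e)
    (h2 : ∀ e ∈ D, ∀ e' ∈ D, e ≠ e' → f e * f e' = 0) : ∑ e ∈ D, finrank K (LinearMap.range (f e)) ≤ finrank K V := by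
  let φ : (∀ e : D, LinearMap.range (f e)) →ₗ[K] V := ∑ e : D, (LinearMap.range (f e)).subtype.comp (LinearMap.proj e)
  have hφ : Function.Injective φ := by
    rw [injective_iff_map_eq_zero]
    intro v hv
    funext e
    have h3 : ∑ e' : D, f e (v e' : V) = 0 := by
      rw [← map_sum]
      have h4 : ∑ e' : D, (v e' : V) = 0 := by simpa [φ] using hv
      rw [h4, map_zero]
    rw [Finset.sum_eq_single e] at h3
    · obtain ⟨w, hw⟩ := (v e).2
      rw [← hw, ← End.mul_apply, h1 e e.2, hw] at h3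
      exact Subtype.ext h3
    · intro e' _ he'
      obtain ⟨w, hw⟩ := (v e').2
      rw [← hw, ← End.mul_apply, h2 e e.2 e' e'.2 fun h => he' (Subtype.ext h.symm), LinearMap.zero_apply]
    · exact fun h => absurd (Finset.mem_univ _) h
  have h3 := LinearMap.finrank_le_finrank_of_injective hφ
  rwa [Module.finrank_pi_fintype, Finset.sum_coe_sort D fun e => finrank K (LinearMap.range (f e))] at h3

theorem comm_of_rank_le {e x y : End K V} (h : finrank K (LinearMap.range e) ≤ 1) (hx : x * e = e * x)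
    (hy : y * e = e * y) : x * y * e = y * x * e := by
  obtain ⟨v, hv⟩ := finrank_le_one_iff.1 h
  obtain ⟨w, hw⟩ := v.2
  obtain ⟨s, hs⟩ := hv ⟨x v, x w, by rw [← End.mul_apply, ← hx, End.mul_apply, hw]⟩
  obtain ⟨t, ht⟩ := hv ⟨y v, y w, by rw [← End.mul_apply, ← hy, End.mul_apply, hw]⟩
  have hs' : x v = s • (v : V) := (congrArg Subtype.val hs).symm
  have ht' : y v = t • (v : V) := (congrArg Subtype.val ht).symm
  ext z
  obtain ⟨c, hc⟩ := hv ⟨e z, z, rfl⟩
  have hc' : e z = c • (v : V) := (congrArg Subtype.val hc).symm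
  simp only [End.mul_apply, hc', map_smul, hs', ht', smul_smul]
  rw [mul_comm t s]

end lin

variable {A : Type} [Ring A] [StarRing A]

/-- a matrix ring of size at most eight, with an involution of the first kind -/
structure Tiny (A : Type) [Ring A] [StarRing A] : Prop where
  st : ∀ c ∈ Subring.center A, star c = c
  fr : ∀ D : Finset A, (∀ e ∈ D, e * e = e) → (∀ e ∈ D, ∀ e' ∈ D, e ≠ e' → e * e' = 0) → (∀ e ∈ D, e ≠ 0) → D.card ≤ 8
  fr2 : ∀ D : Finset A, (∀ e ∈ D, e * e = e) → (∀ e ∈ D, ∀ e' ∈ D, e ≠ e' → e * e' = 0) →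
    (∀ e ∈ D, ∃ x y, x * e = e * x ∧ y * e = e * y ∧ x * y * e ≠ y * x * e) → D.card ≤ 4
  ind : ∀ (ι : Type) [Fintype ι] (x : ι → A),
    (∀ c : ι → A, (∀ i, c i ∈ Subring.center A) → ∑ i, c i * x i = 0 → ∀ i, c i = 0) → Fintype.card ι ≤ 64

theorem tiny_of {K V : Type} [Field K] [AddCommGroup V] [Module K V] [FiniteDimensional K V] [Nontrivial V]
    (φ : A ≃+* End K V) (h8 : finrank K V ≤ 8) (hs : ∀ c : K, star (φ.symm (c • 1)) = φ.symm (c • 1)) : Tiny A := by
  have key : ∀ (D : Finset A) (k : ℕ), (∀ e ∈ D, e * e = e) → (∀ e ∈ D, ∀ e' ∈ D, e ≠ e' → e * e' = 0) →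
      (∀ e ∈ D, k ≤ finrank K (LinearMap.range (φ e))) → D.card * k ≤ 8 := fun D k h1 h2 h3 => by
    have h4 := sum_rank_le D φ (fun e he => by rw [← map_mul, h1 e he])
      fun e he e' he' h => by rw [← map_mul, h2 e he e' he' h, map_zero]
    have h5 := Finset.card_nsmul_le_sum D _ _ h3
    rw [smul_eq_mul] at h5
    omega
  refine ⟨fun c hc => ?_, fun D h1 h2 h3 => ?_, fun D h1 h2 h3 => ?_, fun ι _ x h => ?_⟩
  · obtain ⟨c, rfl⟩ := P5.exists_smul φ hc
    exact hs c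
  · have h4 := key D 1 h1 h2 fun e he => Nat.one_le_iff_ne_zero.2 fun h0 => h3 e he (by
      rwa [Submodule.finrank_eq_zero, LinearMap.range_eq_bot, map_eq_zero_iff φ φ.injective] at h0)
    omega
  · have h4 := key D 2 h1 h2 fun e he => by
      obtain ⟨x, y, a1, a2, a3⟩ := h3 e he
      by_contra hlt
      refine a3 (φ.injective ?_)
      simp only [map_mul]
      exact comm_of_rank_le (by omega) (by rw [← map_mul, a1, map_mul]) (by rw [← map_mul, a2, map_mul])
    omega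
  · have h1 : LinearIndependent K fun i => φ (x i) := by
      rw [Fintype.linearIndependent_iff]
      intro g hg i
      have h2 := h (fun i => φ.symm (g i • 1)) (fun i => P5.cen_smul φ _) (φ.injective (by
        rw [map_sum, map_zero, ← hg]
        exact Finset.sum_congr rfl fun j _ => by rw [map_mul, φ.apply_symm_apply, smul_mul_assoc, one_mul])) i
      rw [map_eq_zero_iff _ φ.symm.injective] at h2
      exact (smul_eq_zero.1 h2).resolve_right one_ne_zero
    have h2 := h1.fintype_card_le_finrank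
    rw [finrank_linearMap] at h2
    nlinarith

theorem tiny_EB {K V : Type} [Field K] [AddCommGroup V] [Module K V] [Finite K] [Finite V] [Nontrivial V]
    (h : Fwd.HF K V) (hτ : ∀ c, h.τ c = c) (h8 : finrank K V ≤ 8) : Tiny h.EB := by
  have : FiniteDimensional K V := Module.Finite.of_finite
  refine tiny_of (K := K) (V := V) (RingEquiv.refl _) h8 fun c => h.ap_ext fun v => h.ext_right fun u => ?_
  rw [h.b_star]
  change h.b (c • u) v = h.b u (c • v)
  rw [h.smul_left, h.smul_right, hτ]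

/-- the atoms of the symmetric idempotents of a commutative subring -/
theorem exists_atoms [Finite A] (Z : Subring A) (hc : ∀ x ∈ Z, ∀ y ∈ Z, x * y = y * x) :
    ∃ D : Finset A, (∀ e ∈ D, e ≠ 0) ∧ (∀ e ∈ D, e * e = e) ∧ (∀ e ∈ D, star e = e) ∧
      (∀ e ∈ D, ∀ e' ∈ D, e ≠ e' → e * e' = 0) ∧ ∑ e ∈ D, e = 1 ∧ (∀ d ∈ D, d ∈ Z) ∧
      (∀ e ∈ D, ∀ f ∈ Z, star f = f → f * f = f → e * f = 0 ∨ e * f = e) ∧
      ∀ M : Subgroup (RingAut A), M ≤ SAut A → Inv M Z → Inv M D := by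
  classical
  have := Fintype.ofFinite A
  let P : A → Prop := fun x => x ∈ Z ∧ star x = x ∧ x * x = x
  have hPmul : ∀ x y, P x → P y → P (x * y) := by
    rintro x y ⟨a1, a2, a3⟩ ⟨b1, b2, b3⟩
    refine ⟨Z.mul_mem a1 b1, by rw [star_mul, a2, b2, hc x a1 y b1], ?_⟩
    rw [mul_assoc, ← mul_assoc y, ← hc x a1 y b1, mul_assoc, b3, ← mul_assoc, a3]
  have hPc : ∀ x, P x → P (1 - x) := by
    rintro x ⟨a1, a2, a3⟩
    exact ⟨Z.sub_mem Z.one_mem a1, by rw [star_sub, star_one, a2], by rw [mul_sub, mul_one, sub_mul, one_mul, a3]; simp⟩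
  let At : A → Prop := fun x => P x ∧ x ≠ 0 ∧ ∀ y, P y → x * y = 0 ∨ x * y = x
  have hAt : ∀ x, P x → x ≠ 0 → ∃ f, At f ∧ f * x = f := by
    intro x hx hx0
    obtain ⟨f, hf⟩ := (Set.toFinite {f | P f ∧ f ≠ 0 ∧ f * x = f}).exists_minimalFor (fun f => {a | f * a = a}) _
      ⟨x, hx, hx0, hx.2.2⟩
    obtain ⟨⟨f1, f2, f3⟩, f4⟩ := hf
    refine ⟨f, ⟨f1, f2, fun y hy => ?_⟩, f3⟩
    by_cases hfy : f * y = 0
    · exact Or.inl hfy
    right
    have h5 := f4 (j := f * y) ⟨hPmul _ _ f1 hy, hfy, by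
      rw [mul_assoc, hc y hy.1 x hx.1, ← mul_assoc, f3]⟩ (fun a (ha : f * y * a = a) => by
        show f * a = a
        rw [← ha, ← mul_assoc, ← mul_assoc, f1.2.2])
    have h6 : f * y * f = f := h5 f1.2.2
    rwa [mul_assoc, hc y hy.1 f f1.1, ← mul_assoc, f1.2.2] at h6
  let D : Finset A := Finset.univ.filter At
  have hD : ∀ x, x ∈ D ↔ At x := fun x => by simp [D]
  have horth : ∀ x ∈ D, ∀ y ∈ D, x ≠ y → x * y = 0 := by
    intro x hx y hy hxy
    obtain ⟨x1, -, x3⟩ := (hD x).1 hx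
    obtain ⟨y1, -, y3⟩ := (hD y).1 hy
    rcases x3 y y1 with h | h
    · exact h
    rcases y3 x x1 with h' | h'
    · rw [hc x x1.1 y y1.1, h']
    · exact absurd (by rw [← h, hc x x1.1 y y1.1, h']) hxy
  have hmul : ∀ x ∈ D, x * ∑ y ∈ D, y = x := by
    intro x hx
    rw [Finset.mul_sum, Finset.sum_eq_single x (fun y hy hyx => horth x hx y hy hyx.symm) (fun h => absurd hx h)]
    exact ((hD x).1 hx).1.2.2
  refine ⟨D, fun x hx => ((hD x).1 hx).2.1, fun x hx => ((hD x).1 hx).1.2.2, fun x hx => ((hD x).1 hx).1.2.1,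
    horth, ?_, fun x hx => ((hD x).1 hx).1.1, fun x hx y y1 y2 y3 => ((hD x).1 hx).2.2 y ⟨y1, y2, y3⟩, ?_⟩
  · by_contra hne
    have h2 : P (∑ y ∈ D, y) := by
      refine ⟨Z.sum_mem fun y hy => ((hD y).1 hy).1.1, ?_, ?_⟩
      · rw [star_sum]
        exact Finset.sum_congr rfl fun y hy => ((hD y).1 hy).1.2.1
      · rw [Finset.sum_mul]
        exact Finset.sum_congr rfl hmul
    obtain ⟨f, hf, hfe⟩ := hAt _ (hPc _ h2) (sub_ne_zero.2 (Ne.symm hne))
    rw [mul_sub, mul_one, hmul f ((hD f).2 hf), sub_self] at hfe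
    exact hf.2.1 hfe.symm
  · intro M hM hZ γ hγ x hx
    have hP : ∀ γ ∈ M, ∀ x, P x → P (γ x) := by
      rintro γ hγ x ⟨a1, a2, a3⟩
      exact ⟨hZ γ hγ x a1, by rw [← hM hγ, a2], by rw [← map_mul, a3]⟩
    obtain ⟨x1, x2, x3⟩ := (hD x).1 hx
    refine (hD _).2 ⟨hP γ hγ x x1, by rwa [map_ne_zero_iff γ γ.injective], fun y hy => ?_⟩
    rcases x3 _ (hP _ (inv_mem hγ) y hy) with h | h
    · left
      rw [← ra_apply_inv γ y, ← map_mul, h, map_zero]
    · right
      conv_lhs => rw [← ra_apply_inv γ y, ← map_mul, h]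

end Cfsg.Agent.T44.Cl
end

-- part: T44/Cl/Small
section
set_option linter.all false
open scoped Cfsg.Agent.FastGrp

/-!
# S3544, classical groups: dimension at most eight, without maximality (helper34)
-/

set_option autoImplicit false

namespace Cfsg.Agent.T44.Cl

open Cfsg Cfsg.Agent.T44 Cfsg.Agent.DS Cfsg.Agent.DS.Cl Subgroup
open scoped commutatorElement

theorem totient_lt {l r : ℕ} (hr : r.Prime) (h5 : 5 ≤ l) (h : l = r ∨ r ≤ 3) : Nat.totient (2 * r) < l := by
  rcases h with rfl | h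
  · rw [Nat.totient_two_mul_of_odd (hr.odd_of_ne_two (by omega)), Nat.totient_prime hr]
    omega
  · have := hr.two_le
    interval_cases r
    · exact lt_of_lt_of_le (by decide) h5
    · exact lt_of_lt_of_le (by decide) h5

theorem fix_cen {R : Type} [Ring R] [StarRing R] [Finite R] (h : SS R) {γ : RingAut R} (hγ : γ ∈ SAut R) {l k n : ℕ}
    (hl : l.Prime) (hn0 : n ≠ 0) (hn : Nat.totient n < l) (hk : γ ^ l ^ k = 1) {x : R} (hx : x ∈ Subring.center R)
    (hs : x * star x = 1) (hp : x ^ n = 1) : γ x = x := by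
  let G : Subgroup Rˣ :=
    { carrier := {w | (w : R) ∈ Subring.center R ∧ (w : R) * star (w : R) = 1 ∧ w ^ n = 1}
      one_mem' := ⟨one_mem _, by simp, one_pow _⟩
      mul_mem' := by
        rintro v w ⟨v1, v2, v3⟩ ⟨w1, w2, w3⟩
        refine ⟨mul_mem v1 w1, ?_, ?_⟩
        · rw [Units.val_mul, star_mul, mul_assoc, ← mul_assoc (w : R), w2, one_mul, v2]
        · rw [(show Commute v w from units_comm w1 v).mul_pow, v3, w3, mul_one]
      inv_mem' := by
        rintro w ⟨w1, w2, w3⟩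
        refine ⟨inv_cen w1, ?_, by rw [inv_pow, w3, inv_one]⟩
        rw [star_eq_inv w2, star_star, ← star_eq_inv w2, Units.inv_mul] }
  have hG : ∀ δ ∈ SAut R, ∀ w ∈ G, um δ w ∈ G := by
    rintro δ hδ w ⟨w1, w2, w3⟩
    exact ⟨map_cen δ w1, by rw [um_val, ← hδ, ← map_mul, w2, map_one], by rw [← map_pow, w3, map_one]⟩
  let φ : SAut R →* MulAut G :=
    { toFun := fun δ =>
        { toFun := fun w => ⟨um δ w, hG δ δ.2 w w.2⟩
          invFun := fun w => ⟨um δ.1⁻¹ w, hG _ (inv_mem δ.2) w w.2⟩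
          left_inv := fun w => Subtype.ext (Units.ext (ra_inv_apply δ.1 _))
          right_inv := fun w => Subtype.ext (Units.ext (ra_apply_inv δ.1 _))
          map_mul' := fun v w => Subtype.ext (map_mul _ _ _) }
      map_one' := rfl
      map_mul' := fun _ _ => rfl }
  have hc : IsCyclic G := Ext.isCyclic_of_cen h ((Units.coeHom R).comp G.subtype)
    (Units.val_injective.comp Subtype.val_injective) (fun w => w.2.1) fun w => w.2.2.1
  have h1 : Nat.card G ∣ n := by
    rw [← IsCyclic.exponent_eq_card]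
    exact Monoid.exponent_dvd_of_forall_pow_eq_one fun w => Subtype.ext w.2.2.2
  have h2 : orderOf (φ ⟨γ, hγ⟩) ∣ Nat.totient n := by
    refine (_root_.orderOf_dvd_natCard _).trans ?_
    rw [IsCyclic.card_mulAut]
    exact Nat.totient_dvd_of_dvd h1
  have h3 : orderOf (φ ⟨γ, hγ⟩) ∣ l ^ k := orderOf_dvd_of_pow_eq_one (by
    rw [← map_pow, show (⟨γ, hγ⟩ : SAut R) ^ l ^ k = 1 from Subtype.ext hk, map_one])
  have h4 : (l ^ k).Coprime (Nat.totient n) := ((Nat.Prime.coprime_iff_not_dvd hl).2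
    (Nat.not_dvd_of_pos_of_lt (Nat.totient_pos.2 (Nat.pos_of_ne_zero hn0)) hn)).pow_left k
  have h5 := orderOf_eq_one_iff.1 (Nat.eq_one_of_dvd_coprimes h4 h3 h2)
  let w : G := ⟨mkU x hs, hx, hs, Units.ext (by rw [Units.val_pow_eq_pow_val]; exact hp)⟩
  have h6 : φ ⟨γ, hγ⟩ w = w := by rw [h5]; rfl
  exact congrArg (fun t : G => ((t : Rˣ) : R)) h6

variable {A : Type} [Ring A] [StarRing A] {F : FR A}

local notation "κ" => DS.Cl.cj

omit [StarRing A] in
theorem up_pow {a e : A} (he : e * e = e) (h : a * e = e * a) (n : ℕ) :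
    (a * e + (1 - e)) ^ n = a ^ n * e + (1 - e) := by
  induction n with
  | zero => simp
  | succ n ih =>
    have h1 : e * (a * e) = a * e := by rw [← mul_assoc, ← h, mul_assoc, he]
    rw [pow_succ, ih, add_mul, mul_add, mul_add, mul_assoc, h1, mul_assoc _ e, mul_sub e, mul_one, he, sub_self,
      mul_zero, sub_mul, one_mul, h1, sub_self, mul_sub, mul_one, sub_mul, one_mul, he, pow_succ, mul_assoc]
    abel

omit [StarRing A] in
theorem eq_of_mul_atoms {D : Finset A} (hD : ∑ e ∈ D, e = 1) {a b : A} (h : ∀ e ∈ D, a * e = b * e) : a = b := by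
  rw [← mul_one a, ← mul_one b, ← hD, Finset.mul_sum, Finset.mul_sum]
  exact Finset.sum_congr rfl h

theorem Tiny.sq (t : Tiny A) {z : Aˣ} (hz : z ∈ F.Iso) (hc : (z : A) ∈ Subring.center A) : z ^ 2 = 1 := by
  apply Units.ext
  rw [pow_two, Units.val_mul, Units.val_one, ← hz.1, t.st _ hc]

/-- odd elements centralising `E` lift to the fixed ring -/
theorem Tiny.lift (t : Tiny A) {E : Subgroup (RingAut A)} (hE : E ≤ F.Aut) {γ : RingAut A} (h1 : γ ∈ F.PI)
    (h2 : γ ∈ centralizer (E : Set (RingAut A))) {n : ℕ} (hn : Odd n) (h3 : γ ^ n = 1) :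
    ∃ v ∈ F.Iso, (v : A) ∈ fixR E ∧ v ^ n = 1 ∧ κ A v = γ := by
  obtain ⟨u, hu, rfl⟩ := h1
  obtain ⟨m, hm⟩ := hn
  have h4 : ((u * u : Aˣ) : A) ∈ fixR E := fun δ hδ => by
    have h5 := ev_cen (mem_centralizer_iff.1 h2 δ hδ)
    rw [← ev_eq_one, ev_mul_right δ u h5, ← pow_two, t.sq (ev_mem (hE hδ) hu) h5]
  refine ⟨(u * u) ^ (m + 1), pow_mem (mul_mem hu hu) _, ?_, ?_, ?_⟩
  · rw [Units.val_pow_eq_pow_val]
    exact pow_mem h4 _
  · have h5 := t.sq (pow_mem hu n) (cj_eq_one_iff.1 (by rw [map_pow, h3]))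
    rw [← pow_two, ← pow_mul, ← pow_mul, show 2 * ((m + 1) * n) = n * 2 * (m + 1) by ring, pow_mul, pow_mul, h5, one_pow]
  · rw [← pow_two, ← pow_mul, map_pow, show 2 * (m + 1) = n + 1 by omega, pow_succ, h3, one_mul]

end Cfsg.Agent.T44.Cl
end

-- part: T44/Cl/Small2
section
set_option linter.all false
open scoped Cfsg.Agent.FastGrp

/-!
# S3544, classical groups: dimension at most eight, the theorem (helper34)
-/

set_option autoImplicit false

namespace Cfsg.Agent.T44.Cl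

open Cfsg Cfsg.Agent.T44 Cfsg.Agent.DS Cfsg.Agent.DS.Cl Subgroup
open scoped commutatorElement

variable {A : Type} [Ring A] [StarRing A] {F : FR A}

local notation "κ" => DS.Cl.cj

theorem val_pow_succ (B : Blk A) (x : B.T) (n : ℕ) : B.val (x ^ (n + 1)) = B.val x ^ (n + 1) := by
  induction n with
  | zero => rw [zero_add, pow_one, pow_one]
  | succ n ih => rw [pow_succ, B.val_mul, ih, ← pow_succ]

omit [StarRing A] in
theorem cent_of_fix {γ : RingAut A} {u : Aˣ} (h : γ u = u) : γ * κ A u = κ A u * γ := by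
  have h2 := conj_cj γ u
  rw [show um γ u = u from Units.ext h] at h2
  exact mul_inv_eq_iff_eq_mul.1 h2

omit [StarRing A] in
theorem ev_conj (γ δ : RingAut A) (u : Aˣ) : ev (γ * δ * γ⁻¹) (um γ u) = um γ (ev δ u) := by
  rw [ev, ev, map_mul, map_inv]
  congr 1
  exact Units.ext (by rw [um_val, um_val, um_val, um_val, ra_mul, ra_mul, ra_inv_apply])

/-- the small configuration -/
structure SC (F : FR A) (r l : ℕ) (N Q E : Subgroup (RingAut A)) : Prop where
  tiny : Tiny A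
  ss : SS A
  ch : Ch r N Q
  le : N ≤ F.S
  unit : IsUnit (r : A)
  E_le : E ≤ N
  comm : Cm E
  exp : ∀ x ∈ E, x ^ r = 1
  norm : N ≤ normalizer (E : Set (RingAut A))
  cent : F.S ⊓ centralizer (E : Set (RingAut A)) ≤ N
  prime : l.Prime
  five : 5 ≤ l
  alt : l = r ∨ r ≤ 3
  dvd : l ^ 2 ∣ Q.relIndex N

/-- the atoms of the centre of the fixed ring -/
structure Ato (N E : Subgroup (RingAut A)) (D : Finset A) : Prop where
  ne : ∀ e ∈ D, e ≠ 0
  idem : ∀ e ∈ D, e * e = e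
  symm : ∀ e ∈ D, star e = e
  orth : ∀ e ∈ D, ∀ e' ∈ D, e ≠ e' → e * e' = 0
  sum : ∑ e ∈ D, e = 1
  mem : ∀ d ∈ D, d ∈ cenOf (fixR E)
  atom : ∀ e ∈ D, ∀ f ∈ cenOf (fixR E), star f = f → f * f = f → e * f = 0 ∨ e * f = e
  stab : N ≤ setStab (RingAut A) (D : Set A)

namespace SC

variable [Finite A] {r l : ℕ} {N Q E : Subgroup (RingAut A)} (h : SC F r l N Q E)
include h

omit [Finite A] in
theorem E_PI : E ≤ F.PI := h.E_le.trans (h.le.trans F.S_le_PI)

omit [Finite A] in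
theorem E_Aut : E ≤ F.Aut := h.E_PI.trans F.PI_le_Aut

omit [Finite A] in
theorem N_Aut : N ≤ F.Aut := h.le.trans F.S_le_Aut

omit [Finite A] in
theorem card_unit [Fintype E] : IsUnit (Fintype.card E : A) :=
  isUnit_card h.ch.prime h.unit fun x => ⟨1, Subtype.ext (by rw [pow_one]; exact h.exp x x.2)⟩

theorem exists_ato : ∃ D, Ato N E D := by
  obtain ⟨D, h1, h2, h3, h4, h5, h6, h7, h8⟩ := exists_atoms (cenOf (fixR E)) fun x hx y hy => hy.2 x hx.1
  exact ⟨D, h1, h2, h3, h4, h5, h6, h7,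
    le_setStab (h8 N (h.N_Aut.trans F.Aut_le_SAut) (inv_cenOf (inv_fixR h.norm)))⟩

variable {D : Finset A} (a : Ato N E D)
include a

theorem exists_block {e : A} (he : e ∈ D) : ∃ B : BD F, B.e = e ∧
    (∀ x, x ∈ B.car ↔ x ∈ fixR E ∧ e * x = x ∧ x * e = x) ∧ SS B.toBlk.T ∧ Sm (WB F B.toBlk) ∧
      Inv (N ⊓ ptStab (RingAut A) (D : Set A)) B.car := by
  have := finite_ringAut (A := A)
  have : Fintype E := Fintype.ofFinite E
  obtain ⟨B, hB, hl⟩ := exists_fixBD (F := F) h.ss h.E_Aut h.card_unit (a.mem e he).1 (a.idem e he) (a.symm e he)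
    (a.ne e he) fun f hf f1 f2 f3 f4 f5 => by
      have h1 : f ∈ cenOf (fixR E) := ⟨hf, fun y hy => by
        have h2 : y * e = e * y := (a.mem e he).2 y hy
        have h3 := f3 (y * e) (mul_mem hy (a.mem e he).1) (by rw [← mul_assoc, ← h2, mul_assoc, a.idem e he])
          (by rw [mul_assoc, a.idem e he])
        rwa [mul_assoc, f1, h2, ← mul_assoc, f2] at h3⟩
      have h2 := a.atom e he f h1 f4 f5
      rwa [f1] at h2
  have hBe : B.e = e := by rw [hB]; rfl
  have hBc : ∀ x, x ∈ B.car ↔ x ∈ fixR E ∧ e * x = x ∧ x * e = x := fun x => by rw [hB]; rfl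
  have h0 : B.e ≠ 0 := hBe ▸ a.ne e he
  have hinv : Inv (N ⊓ ptStab (RingAut A) (D : Set A)) B.car := fun γ hγ x hx => by
    obtain ⟨x1, x2, x3⟩ := (hBc x).1 hx
    have h1 : γ e = e := hγ.2 e he
    exact (hBc _).2 ⟨inv_fixR h.norm γ hγ.1 x x1, by rw [← h1, ← map_mul, x2], by rw [← h1, ← map_mul, x3]⟩
  have hW : ∀ u ∈ WB F B.toBlk, (u : A) ∈ fixR E := fun u hu => by
    have h1 := add_mem ((hBc _).1 hu.2).1 (sub_mem (one_mem _) (a.mem e he).1)
    rwa [hBe, sub_add_cancel] at h1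
  refine ⟨B, hBe, hBc, B.ss.resolve_left h0, ?_, hinv⟩
  refine sm_of_ch (h.ch.sub inf_le_left (norm_inf le_normalizer
    (norm_of_conj fun _ hγ _ hx => conj_mem_ptStab (a.stab hγ) hx))) (dich_WB B hl h0) (le_inf ?_ ?_)
    (inf_le_left.trans (norm_WB (inf_le_left.trans h.N_Aut) hinv))
  · refine le_trans (le_inf ?_ ((commutator_le_left_of_norm le_normalizer).trans ?_)) h.cent
    · rw [FR.S_eq]
      exact commutator_mono (map_mono (WB_le _)) (map_mono (WB_le _))
    · rintro _ ⟨u, hu, rfl⟩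
      exact cj_cent (hW u hu)
  · refine (commutator_le_left_of_norm le_normalizer).trans ?_
    rintro _ ⟨u, hu, rfl⟩ d hd
    exact cj_eq_of_mul ((a.mem d hd).2 _ (hW u hu))

theorem comm_of_ell {v w : Aˣ} (hv : v ∈ F.Iso) (hw : w ∈ F.Iso) (hv' : (v : A) ∈ fixR E) (hw' : (w : A) ∈ fixR E)
    {k : ℕ} (h1 : v ^ l ^ k = 1) (h2 : w ^ l ^ k = 1) : v * w = w * v := by
  refine Units.ext (eq_of_mul_atoms a.sum fun e he => ?_)
  obtain ⟨B, hBe, hBc, -, hsm, -⟩ := h.exists_block a he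
  have key : ∀ {v : Aˣ}, v ∈ F.Iso → (v : A) ∈ fixR E → v ^ l ^ k = 1 →
      ∃ x : WB F B.toBlk, ((x : Aˣ) : A) = v * e + (1 - e) ∧ x ^ l ^ k = 1 := by
    intro v hv hv' h1
    have hc : (v : A) * e = e * v := (a.mem e he).2 _ hv'
    obtain ⟨x, hx, e1⟩ := We.exists_comp h.ss (a.idem e he) (a.symm e he) hv hc
    refine ⟨⟨x, hx.1, (hBc _).2 ?_⟩, e1, Subtype.ext (Units.ext ?_)⟩
    · rw [hBe, e1, add_sub_cancel_right]
      exact ⟨mul_mem hv' (a.mem e he).1, by rw [← mul_assoc, ← hc, mul_assoc, a.idem e he],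
        by rw [mul_assoc, a.idem e he]⟩
    · change ((x ^ l ^ k : Aˣ) : A) = 1
      rw [Units.val_pow_eq_pow_val, e1, up_pow (a.idem e he) hc, ← Units.val_pow_eq_pow_val, h1, Units.val_one, one_mul,
        add_sub_cancel]
  obtain ⟨x, x1, x2⟩ := key hv hv' h1
  obtain ⟨y, y1, y2⟩ := key hw hw' h2
  have h3 : ((x : Aˣ) : A) * (y : Aˣ) * e = ((y : Aˣ) : A) * (x : Aˣ) * e :=
    congrArg (fun t : WB F B.toBlk => ((t : Aˣ) : A) * e) (hsm.ell l h.prime h.five x y k x2 y2)
  have h4 : ∀ z : A, (z * e + (1 - e)) * e = z * e := fun z => by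
    rw [add_mul, mul_assoc, sub_mul, one_mul, a.idem e he, sub_self, add_zero]
  rw [x1, y1, mul_assoc, mul_assoc, h4, h4, (a.mem e he).2 _ hv', (a.mem e he).2 _ hw', ← mul_assoc, ← mul_assoc,
    ← (a.mem e he).2 _ hv', ← (a.mem e he).2 _ hw', h4, h4, mul_assoc, mul_assoc, ← (a.mem e he).2 _ hv',
    ← (a.mem e he).2 _ hw'] at h3
  rwa [Units.val_mul, Units.val_mul, mul_assoc, mul_assoc]

theorem ell_cent {γ : RingAut A} (h1 : γ ∈ N) (h2 : γ ∈ centralizer (E : Set (RingAut A))) {k : ℕ}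
    (h3 : γ ^ l ^ k = 1) : γ ∈ Q := by
  have := finite_ringAut (A := A)
  have hodd : ∀ k, Odd (l ^ k) := fun k => (h.prime.odd_of_ne_two (by have := h.five; omega)).pow
  refine h.ch.le_of_comm (B := Gen l (N ⊓ centralizer (E : Set (RingAut A)))) (Gen_le.trans inf_le_left)
    (norm_Gen (norm_inf le_normalizer (norm_centralizer h.norm))) (cm_iff.2 ?_) (mem_Gen ⟨h1, h2⟩ h3)
  refine Gen_le_iff.2 fun x hx i hi => ?_
  rw [← SetLike.mem_coe, ← Set.singleton_subset_iff, ← closure_le, le_centralizer_iff]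
  refine Gen_le_iff.2 fun y hy j hj => ?_
  obtain ⟨v, v1, v2, v3, rfl⟩ := h.tiny.lift h.E_Aut (F.S_le_PI (h.le hx.1)) hx.2 (hodd (i + j))
    (by rw [pow_add, pow_mul, hi, one_pow])
  obtain ⟨w, w1, w2, w3, rfl⟩ := h.tiny.lift h.E_Aut (F.S_le_PI (h.le hy.1)) hy.2 (hodd (i + j))
    (by rw [add_comm, pow_add, pow_mul, hj, one_pow])
  rw [centralizer_closure, mem_centralizer_singleton_iff, ← map_mul, ← map_mul, h.comm_of_ell a v1 w1 v2 w2 v3 w3]

theorem ell_fix {γ : RingAut A} (hγ : γ ∈ N ⊓ ptStab (RingAut A) (D : Set A)) {k : ℕ} (hk : γ ^ l ^ k = 1) {u : Aˣ}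
    (hu : u ∈ F.Iso) (h1 : κ A u ∈ E) (h2 : (u : A) ∈ fixR E) : γ u = u := by
  refine eq_of_mul_atoms a.sum fun e he => ?_
  obtain ⟨B, hBe, hBc, hss, -, hinv⟩ := h.exists_block a he
  have hc : (u : A) * e = e * u := (a.mem e he).2 _ h2
  have h3 : (u : A) * e ∈ B.car := (hBc _).2 ⟨mul_mem h2 (a.mem e he).1,
    by rw [← mul_assoc, ← hc, mul_assoc, a.idem e he], by rw [mul_assoc, a.idem e he]⟩
  have hst := Blk.mem_stab hinv hγ
  have h4 := fix_cen hss (γ := B.toBlk.res ⟨γ, hst⟩) (B.toBlk.res_SAut (h.N_Aut hγ.1).1) (k := k) h.prime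
    (mul_ne_zero two_ne_zero h.ch.prime.ne_zero) (totient_lt h.ch.prime h.five h.alt)
    (by rw [← map_pow, show (⟨γ, hst⟩ : B.toBlk.stab) ^ l ^ k = 1 from Subtype.ext hk, map_one])
    (x := B.toBlk.mk' _ h3) (B.toBlk.mem_center_iff.2 fun y hy => by
      obtain ⟨y1, y2, y3⟩ := (hBc y).1 hy
      rw [B.toBlk.val_mk', ← mul_assoc, ← comm_of_fixR h1 y1, mul_assoc, mul_assoc, y2, y3])
    (B.toBlk.val_inj (by
      change (u : A) * e * star ((u : A) * e) = B.e
      rw [hBe, star_mul, a.symm e he, mul_assoc, ← mul_assoc e, a.idem e he, ← mul_assoc, hc, mul_assoc, hu.1, mul_one]))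
    (B.toBlk.val_inj (by
      obtain ⟨n, hn⟩ := Nat.exists_eq_add_one_of_ne_zero (mul_ne_zero two_ne_zero h.ch.prime.ne_zero)
      have h5 := h.tiny.sq (pow_mem hu r) (cj_eq_one_iff.1 (by rw [map_pow, h.exp _ h1]))
      rw [← pow_mul, mul_comm, hn] at h5
      rw [hn, val_pow_succ, B.toBlk.val_mk', (show Commute (u : A) e from hc).mul_pow, ← Units.val_pow_eq_pow_val, h5,
        Units.val_one, one_mul, (show IsIdempotentElem e from a.idem e he).pow_succ_eq, B.toBlk.val_one, hBe]))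
  have h5 : γ ((u : A) * e) = u * e := congrArg B.toBlk.val h4
  rwa [map_mul, show γ e = e from hγ.2 e he] at h5

end SC

end Cfsg.Agent.T44.Cl
end

-- part: T44/Cl/Small3
section
set_option linter.all false
open scoped Cfsg.Agent.FastGrp

/-!
# S3544, classical groups: dimension at most eight, the contradiction (helper34)
-/

set_option autoImplicit false

namespace Cfsg.Agent.T44.Cl

open Cfsg Cfsg.Agent.T44 Cfsg.Agent.DS Cfsg.Agent.DS.Cl Subgroup
open scoped commutatorElement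

variable {A : Type} [Ring A] [StarRing A] {F : FR A}

local notation "κ" => DS.Cl.cj

theorem index_permOn {G X : Type} [Group G] [MulAction G X] (P : Subgroup G) (D : Finset X)
    (h : P ≤ setStab G (D : Set X)) {n : ℕ} (hn : D.card ≤ n) : (permOn P (D : Set X) h).ker.index ∣ n.factorial := by
  classical
  rw [index_ker]
  refine (card_subgroup_dvd_card _).trans ?_
  rw [Nat.card_perm, Nat.card_coe_set_eq, Set.ncard_coe_finset]
  exact Nat.factorial_dvd_factorial hn

theorem sgn_add {M : Type} [Group M] [DecidableEq M] {m z w : M} (hm : m * m = 1) (hz : z = 1 ∨ z = m)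
    (hw : w = 1 ∨ w = m) :
    (if z * w = 1 then (0 : ZMod 2) else 1) = (if z = 1 then 0 else 1) + if w = 1 then 0 else 1 := by
  by_cases h : m = 1
  · subst h
    simp [or_self_iff.1 hz, or_self_iff.1 hw]
  rcases hz with rfl | rfl <;> rcases hw with rfl | rfl <;> simp [h, hm]
  rfl

namespace SC

variable [Finite A] {r l : ℕ} {N Q E : Subgroup (RingAut A)} (h : SC F r l N Q E) {D : Finset A} (a : Ato N E D)
include h a

theorem fin (K : Subgroup N) {i j : ℕ} (hi : K.index ∣ 2 ^ i * 3 ^ j * 5 * 7)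
    (hc : ∀ γ ∈ K, ∀ k : ℕ, γ.1 ^ l ^ k = 1 → γ.1 ∈ centralizer (E : Set (RingAut A))) : False := by
  have := finite_ringAut (A := A)
  refine not_sq_dvd h.prime h.five i j hi ?_
  have h1 := dvd_relIndex_of_ell h.prime (K := K.map N.subtype) (map_subtype_le K) (by
    rintro _ ⟨γ, hγ, rfl⟩ k hk
    exact h.ell_cent a γ.2 (hc γ hγ k hk) hk) h.dvd
  rwa [relIndex, subgroupOf, comap_map_eq_self_of_injective N.subtype_injective] at h1

omit [Finite A] h in
theorem mem_ker {γ : N} (hγ : γ ∈ (permOn N (D : Set A) a.stab).ker) : γ.1 ∈ N ⊓ ptStab (RingAut A) (D : Set A) :=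
  ⟨γ.2, fun x hx => by
    have h1 := permOn_apply N D a.stab γ ⟨x, hx⟩
    rw [MonoidHom.mem_ker.1 hγ] at h1
    exact h1.symm⟩

theorem false_of_fix (hf : ∀ u ∈ F.Iso, κ A u ∈ E → (u : A) ∈ fixR E) : False := by
  refine h.fin a (permOn N (D : Set A) a.stab).ker (i := 7) (j := 2)
    (index_permOn N D a.stab (h.tiny.fr D a.idem a.orth a.ne)) fun γ hγ k hk => mem_centralizer_iff.2 fun x hx => ?_
  obtain ⟨u, hu, rfl⟩ := h.E_PI hx
  exact (cent_of_fix (h.ell_fix a (mem_ker a hγ) hk hu hx (hf u hu hx))).symm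

omit a [Finite A] in
theorem ev_sgn {δ : RingAut A} (hδ : δ ∈ E) {u : Aˣ} (hu : u ∈ F.Iso) (h1 : κ A u ∈ E) : ev δ u = 1 ∨ ev δ u = -1 := by
  refine or_iff_not_imp_left.2 fun hne => Units.ext ?_
  have h2 := ev_cen (h.comm δ hδ _ h1)
  have h3 := ev_mem (h.E_Aut hδ) hu
  have h4 := Ext.isUnit_sub_one h.ss h2 h3.1 fun e => hne (Units.ext e)
  have h5 : ((ev δ u : A) - 1) * (ev δ u + 1) = 0 := by
    rw [sub_mul, mul_add, ← Units.val_mul, ← pow_two, h.tiny.sq h3 h2, Units.val_one, mul_one, one_mul,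
      add_comm, sub_self]
  exact eq_neg_of_add_eq_zero_left (h4.mul_right_eq_zero.1 h5)

omit [Finite A] in
theorem card_le_four {u v : Aˣ} (hv : v ∈ F.Iso) (h1 : κ A u ∈ E) (h2 : κ A v ∈ E)
    (hne : ev (κ A u) v ≠ 1) : D.card ≤ 4 := by
  refine h.tiny.fr2 D a.idem a.orth fun e he => ⟨u, v, comm_of_fixR h1 (a.mem e he).1,
    comm_of_fixR h2 (a.mem e he).1, fun e1 => a.ne e he ?_⟩
  have h3 := Ext.isUnit_sub_one h.ss (ev_cen (h.comm _ h1 _ h2)) (ev_mem (h.E_Aut h1) hv).1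
    fun e => hne (Units.ext e)
  have h4 : (ev (κ A u) v : A) * (v * u) = u * v := by rw [← mul_assoc, ev_mul_self, cj_mul_eq]
  have h5 : ((ev (κ A u) v : A) - 1) * (((v * u : Aˣ) : A) * e) = 0 := by
    rw [sub_mul, one_mul, Units.val_mul, ← mul_assoc, h4, e1, sub_self]
  exact (Units.isUnit _).mul_right_eq_zero.1 (h3.mul_right_eq_zero.1 h5)

omit a [Finite A] in
theorem ell_ne {δ : RingAut A} (hδ : δ ∈ E) {u : Aˣ} (hu : u ∈ F.Iso) (h1 : κ A u ∈ E) (hne : ev δ u ≠ 1) : l ≠ r := by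
  rintro rfl
  have h2 := ev_cen (h.comm δ hδ _ h1)
  have h3 : ∀ n : ℕ, ev (δ ^ n) u = ev δ u ^ n := fun n => by
    induction n with
    | zero => rw [pow_zero, pow_zero, ev_eq_one]; rfl
    | succ n ih => rw [pow_succ, ev_mul_left (F.PI_le_Lin (h.E_PI (pow_mem hδ n))) h2, ih, pow_succ]
  obtain ⟨m, hm⟩ := h.prime.odd_of_ne_two (by have := h.five; omega)
  have h4 := h3 l
  rw [h.exp δ hδ, ev_eq_one.2 rfl, hm, pow_succ, pow_mul, h.tiny.sq (ev_mem (h.E_Aut hδ) hu) h2, one_pow,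
    one_mul] at h4
  exact hne h4.symm

open Classical in
/-- the commutator form -/
noncomputable def bt (t : E → Aˣ) (x z : E) : ZMod 2 := if ev z.1 (t x) = 1 then 0 else 1

omit a h [StarRing A] [Finite A] in
theorem bt_eq_zero {t : E → Aˣ} {x z : E} : bt t x z = 0 ↔ ev z.1 (t x) = 1 := by
  unfold bt
  split_ifs with h <;> simp [h]

variable {t : E → Aˣ} (ht : ∀ x, t x ∈ F.Iso) (ht' : ∀ x, κ A (t x) = x)
include ht ht'

omit a [Finite A] in
theorem bt_left (x y z : E) : bt t (x * y) z = bt t x z + bt t y z := by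
  classical
  have hm : ∀ x, κ A (t x) ∈ E := fun x => ht' x ▸ x.2
  unfold bt
  rw [ev_congr (F.PI_le_Lin (h.E_PI z.2)) (v := t x * t y) (by rw [map_mul, ht', ht', ht', coe_mul]),
    ev_mul_right _ _ (ev_cen (h.comm _ z.2 _ (hm y)))]
  convert sgn_add (m := -1) (by simp) (h.ev_sgn z.2 (ht x) (hm x)) (h.ev_sgn z.2 (ht y) (hm y))

omit a [Finite A] in
theorem bt_right (x y z : E) : bt t x (y * z) = bt t x y + bt t x z := by
  classical
  have hm : ∀ x, κ A (t x) ∈ E := fun x => ht' x ▸ x.2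
  unfold bt
  rw [coe_mul, ev_mul_left (F.PI_le_Lin (h.E_PI y.2)) (ev_cen (h.comm _ z.2 _ (hm x)))]
  convert sgn_add (m := -1) (by simp) (h.ev_sgn y.2 (ht x) (hm x)) (h.ev_sgn z.2 (ht x) (hm x))

omit a in
theorem bt_card : Nat.card (Set.range (bt t)) ≤ 64 := by
  have := finite_ringAut (A := A)
  have : Fintype E := Fintype.ofFinite E
  have : Fintype (Set.range (bt t)) := Fintype.ofFinite _
  have hm : ∀ x, κ A (t x) ∈ E := fun x => ht' x ▸ x.2
  obtain ⟨π, m, hπ⟩ := exists_avgE E h.card_unit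
  choose s hs using fun i : Set.range (bt t) => i.2
  rw [Nat.card_eq_fintype_card]
  refine h.tiny.ind _ (fun i => t (s i)) fun c hc h0 j => ?_
  have hc' : ∀ i, c i ∈ fixR E := fun i δ hδ => F.PI_le_Lin (h.E_PI hδ) _ (hc i)
  have h1 := congrArg (fun y => π (y * ((t (s j))⁻¹ : Aˣ))) h0
  simp only [Finset.sum_mul, map_sum, zero_mul, map_zero, mul_assoc, hπ.mul_left (hc' _)] at h1
  rw [Finset.sum_eq_single j (fun i _ hij => ?_) (fun h => absurd (Finset.mem_univ _) h), Units.mul_inv,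
    hπ.of_mem (one_mem _), mul_one] at h1
  · exact h1
  rw [← Units.val_mul, hπ.eigen h.ss h.E_PI (mul_mem (ht _) (inv_mem (ht _)))
    (by rw [map_mul, map_inv]; exact cm_iff.1 h.comm (mul_mem (hm _) (inv_mem (hm _)))) fun hf => hij ?_, mul_zero]
  refine Subtype.ext (by
    rw [← hs i, ← hs j]
    funext z
    have h2 := ev_mul_right z.1 (t (s i) * (t (s j))⁻¹) (ev_cen (h.comm _ z.2 _ (hm (s j))))
    rw [inv_mul_cancel_right, ev_eq_one.2 (hf _ z.2), one_mul] at h2
    unfold bt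
    rw [h2])

omit a [Finite A] ht in
theorem bt_conj (γ : N) (x y : E) :
    bt t (E.normalizerMonoidHom.comp (inclusion h.norm) γ x) (E.normalizerMonoidHom.comp (inclusion h.norm) γ y) =
      bt t x y := by
  have e1 : ∀ x : E, (E.normalizerMonoidHom.comp (inclusion h.norm) γ x).1 = γ.1 * x * γ.1⁻¹ := fun x => rfl
  have h1 : ev (E.normalizerMonoidHom.comp (inclusion h.norm) γ y).1
      (t (E.normalizerMonoidHom.comp (inclusion h.norm) γ x)) = um γ.1 (ev y.1 (t x)) := by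
    rw [ev_congr (F.PI_le_Lin (h.E_PI (Subtype.prop _))) (v := um γ.1 (t x)) (by rw [ht', e1, ← conj_cj, ht']), e1,
      ev_conj]
  have h2 : um γ.1 (ev y.1 (t x)) = 1 ↔ ev y.1 (t x) = 1 := map_eq_one_iff _ (Units.map_injective γ.1.injective)
  unfold bt
  rw [h1]
  by_cases h3 : ev y.1 (t x) = 1
  · rw [if_pos h3, if_pos (h2.2 h3)]
  · rw [if_neg h3, if_neg (mt h2.1 h3)]

omit ht ht' a in
theorem false : False := by
  have := finite_ringAut (A := A)
  obtain ⟨D, a⟩ := h.exists_ato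
  refine h.false_of_fix a fun v hv h1 δ hδ => ?_
  by_contra hne
  rw [← ev_eq_one] at hne
  have hlr := h.ell_ne hδ hv h1 hne
  choose t ht ht' using fun x : E => h.E_PI x.2
  have h4 := h.card_le_four a (u := t ⟨δ, hδ⟩) hv (by rw [ht']; exact hδ) h1 (by rwa [ht'])
  obtain ⟨K, hK, hK'⟩ := exists_sp_ker (bt t) (h.bt_left ht ht') (h.bt_right ht ht')
    (fun x => bt_eq_zero.2 (by rw [← ht' x, ev_cj, commutatorElement_self])) (h.bt_card ht ht')
    (E.normalizerMonoidHom.comp (inclusion h.norm)) (h.bt_conj ht')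
  refine h.fin a ((permOn N (D : Set A) a.stab).ker ⊓ K) (i := 12) (j := 5) ?_ fun γ hγ k hk =>
    mem_centralizer_iff.2 fun x hx => ?_
  · rw [← relIndex_mul_index (inf_le_right : _ ⊓ K ≤ K), inf_relIndex_right]
    exact (mul_dvd_mul ((relIndex_dvd_index_of_normal _ _).trans (index_permOn N D a.stab h4)) hK).trans (by decide)
  let c : E := E.normalizerMonoidHom.comp (inclusion h.norm) γ ⟨x, hx⟩ * ⟨x, hx⟩⁻¹
  have hc : c.1 = ⁅γ.1, x⁆ := rfl
  have h5 : (t c : A) ∈ fixR E := fun z hz => ev_eq_one.1 (bt_eq_zero (z := ⟨z, hz⟩).1 (by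
    have h6 := h.bt_left ht ht' c ⟨x, hx⟩ ⟨z, hz⟩
    rw [inv_mul_cancel_right, hK' γ hγ.2] at h6
    exact right_eq_add.1 h6))
  have h6 := cent_of_fix (h.ell_fix a (mem_ker a hγ.1) hk (ht c) (by rw [ht']; exact c.2) h5)
  rw [ht', hc] at h6
  have h7 := pow_mul_of_comm h6 (l ^ k)
  rw [hk, one_mul, mul_one, right_eq_mul] at h7
  have h8 : ⁅γ.1, x⁆ = 1 := orderOf_eq_one_iff.1 (Nat.eq_one_of_dvd_coprimes
    (((Nat.coprime_primes h.prime h.ch.prime).2 hlr).pow_left k) (orderOf_dvd_of_pow_eq_one h7)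
    (orderOf_dvd_of_pow_eq_one (h.exp _ c.2)))
  exact (commutatorElement_eq_one_iff_mul_comm.1 h8).symm

end SC

end Cfsg.Agent.T44.Cl
end

-- part: T44/Cl/Fin
section
set_option linter.all false
open scoped Cfsg.Agent.FastGrp

/-!
# S3544, classical groups: the symplectic and the plus type orthogonal rows (helper34)
-/

set_option autoImplicit false

namespace Cfsg.Agent.T44.Cl

open Cfsg Cfsg.Agent.T44 Cfsg.Agent.DS Cfsg.Agent.DS.Cl Cfsg.Agent.DS.Cl.Fwd Subgroup

section tr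

variable {G Γ : Type*} [Group G] [Group Γ] {T : Subgroup G} {S : Subgroup Γ}

theorem tr_norm (e : S ≃* T) {X Y : Subgroup G} (hX : X ≤ T) (hY : Y ≤ T) (h : X ≤ normalizer (Y : Set G)) :
    tr e X ≤ normalizer (tr e Y : Set Γ) := by
  refine (norm_map_iff S.subtype_injective).2 ((norm_map_iff (psi_inj e)).1 ?_)
  rwa [map_comap_psi e hX, map_comap_psi e hY]

theorem tr_relIndex (e : S ≃* T) {X Y : Subgroup G} (hY : Y ≤ T) : (tr e X).relIndex (tr e Y) = X.relIndex Y := by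
  rw [tr, tr, relIndex_map_map_of_injective _ _ S.subtype_injective, relIndex_comap, map_comap_psi e hY]

theorem exists_psi (e : S ≃* T) {x : G} (hx : x ∈ T) : ∃ s, psi e s = x := by
  obtain ⟨s, hs⟩ := e.surjective ⟨x, hx⟩
  exact ⟨s, congrArg Subtype.val hs⟩

end tr

variable {G : Type} [Group G] [Finite G] {T H Q : Subgroup G} {r : ℕ} {Ya Yb : Set G} {da db : ℕ}

theorem row_tiny {A : Type} [Ring A] [StarRing A] [Finite A] (h : AS T H Q r Ya Yb da db) (hu : IsUnit (r : A))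
    (ht : Tiny A) {X : Type} [Group X] (e : T ≃* X) {Γ : Set (MulAut X)} (hm : ModelOn A X Γ) : False := by
  obtain ⟨F, f, hss, -, -⟩ := hm
  obtain ⟨l, l1, l2, l3, l4⟩ := exists_ell h.toCfg
  let e' : F.S ≃* T := f.trans e.symm
  have hs := sit_of_cfg h.toCfg
  have hE : OZ r Q ≤ Q := fun x hx => hx.1.1
  have hn := OZ_norm (r := r) h.H_norm_Q
  refine SC.false (F := F) (l := l) (E := tr e' (OZ r Q)) ⟨ht, hss, (hs.tr e' inf_le_left).toCh, tr_le _ _, hu,
    tr_mono _ (hE.trans h.Q_le_M), ?_, ?_, tr_norm e' inf_le_left (hE.trans h.Q_le_T) (inf_le_right.trans hn), ?_,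
    l1, l2, l3, by rwa [tr_relIndex e' inf_le_left]⟩
  · rintro _ ⟨s, hs, rfl⟩ _ ⟨t, ht, rfl⟩
    refine congrArg Subtype.val (psi_inj e' (a₁ := s * t) (a₂ := t * s) ?_)
    rw [map_mul, map_mul]
    exact mem_centralizer_iff.1 ht.1.2 _ hs.1.1
  · rintro _ ⟨s, hs, rfl⟩
    refine congrArg Subtype.val (psi_inj e' (a₁ := s ^ r) (a₂ := 1) ?_)
    rw [map_pow, map_one]
    exact hs.2
  · rintro s ⟨s1, s2⟩
    refine (mem_tr (s := ⟨s, s1⟩)).2 ⟨(e' ⟨s, s1⟩).2, h.cent_le (hE.trans h.Q_le_H)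
      (OZ_ne h.prime hs.isO.pg hs.Q_ne) hn (mem_centralizer_iff.2 fun x hx => ?_)⟩
    obtain ⟨t, rfl⟩ := exists_psi e' (h.Q_le_T (hE hx))
    rw [← map_mul, ← map_mul, show t * ⟨s, s1⟩ = ⟨s, s1⟩ * t from
      Subtype.ext (mem_centralizer_iff.1 s2 _ (mem_tr.2 hx))]

theorem boxB2 : BoxB2 := by
  rintro G _ _ T H Q r Ya Yb da db h ⟨F, _, _, h3, hr, ⟨e⟩⟩
  exact row_tiny h (isUnit_EB _ hr) (tiny_EB (spH 2 F) (fun _ => rfl) (by simp)) e (modSp F 2 le_rfl fun _ => h3)

open Cfsg.Agent.LieClassical.OrthForms Cfsg.Agent.ClassicalGeometry.OrthSemiForms in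
theorem boxD4 : BoxD4 := by
  rintro G _ _ T H Q r Ya Yb da db h ⟨F, _, _, hr, ⟨e⟩⟩
  have hG := good_plus (F := F) (m := 4) (by omega)
  have key : ∀ f, ⇑(plusForm 4 F) = f → T ≃* POmega F f → False := by
    rintro _ rfl e
    exact row_tiny h (isUnit_EB _ hr) (tiny_EB (orH _ hG.nondeg) (fun _ => rfl) (by simp)) (e.trans (pomegaEquiv hG))
      (modO F _ _ hG)
  exact key _ (coe_plusForm _ _) e

theorem boxPSp : BoxPSp := boxPSp_of boxB2

theorem boxOPlus : BoxOPlus := boxOPlus_of boxD4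

end Cfsg.Agent.T44.Cl

private theorem dce_0c59fce4a3c4 : _root_.True := by
  try have : _root_.True := by simp only [_root_.Cfsg.Agent.T44.Cl.tr.eq_1]
  exact _root_.True.intro
end

-- part: R2/T3544/NLu_mg
section
prune_inst 0xd52023440d40020000180592510020046c00019201600c01dd600f460206f3622d0329414d801c13183aab0800040008108000f000000000000004000800052188aa5200b348010426009f803087180c00000000000000000000000000041004200000000
set_option linter.all false
open scoped Cfsg.Agent.FastGrp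

-- part: R2/T3544/Cons
section
/-!
# S3544, box B5: `u'`-subgroups normalised by a Sylow `u`-subgroup of a `u`-constrained group
-/

set_option autoImplicit false

namespace Cfsg.Agent.R2.T3544

open Subgroup Cfsg

end Cfsg.Agent.R2.T3544
end

-- part: R2/T3544/Mu
section
/-!
# S3544: the intensive measure (helper18, helper10)

Two directions and functors `E`, `N₁`, `N₂`, `F₁`, `F₂`: `E(x) = N_i(x) (E(x) ∩ E(y))` for `y ~_i x`,
`F_j` nilpotent, centralised by `N_i` and contained in `E(y)`, no element `≠ 1` of `F_j(x)` centralises `F_i(y)` for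
all `y ~_i x`.  The measure of `F` is the least `m` such that `E(x) / C(F(x))` is a subdirect product of groups of order
at most `m`: it decreases strictly from `F_i` to `F_j`, in both directions.
-/

set_option autoImplicit false
set_option linter.unusedSectionVars false

namespace Cfsg.Agent.R2.T3544

open Subgroup MulAction
open scoped commutatorElement

variable {G : Type*} [Group G]

/-- the elements of `E` acting trivially on `F` modulo `D` -/
def actK (E F D : Subgroup G) (hD : E ≤ normalizer (D : Set G)) : Subgroup G where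
  carrier := {t | t ∈ E ∧ ∀ g ∈ F, ⁅t, g⁆ ∈ D}
  mul_mem' := by
    rintro t s ⟨ht, ht'⟩ ⟨hs, hs'⟩
    refine ⟨E.mul_mem ht hs, fun g hg => ?_⟩
    have e : ⁅t * s, g⁆ = (t * ⁅s, g⁆ * t⁻¹) * ⁅t, g⁆ := by
      simp only [commutatorElement_def]; group
    rw [e]
    exact D.mul_mem ((mem_normalizer_iff.1 (hD ht) _).1 (hs' g hg)) (ht' g hg)
  one_mem' := ⟨E.one_mem, fun g _ => by simp [D.one_mem]⟩
  inv_mem' := by
    rintro t ⟨ht, ht'⟩
    refine ⟨E.inv_mem ht, fun g hg => ?_⟩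
    have e : ⁅t⁻¹, g⁆ = t⁻¹ * ⁅t, g⁆⁻¹ * t⁻¹⁻¹ := by
      simp only [commutatorElement_def]; group
    rw [e]
    exact (mem_normalizer_iff.1 (hD (E.inv_mem ht)) _).1 (D.inv_mem (ht' g hg))

theorem actK_norm {E F D : Subgroup G} (hD : E ≤ normalizer (D : Set G))
    (hF : E ≤ normalizer (F : Set G)) : E ≤ normalizer (actK E F D hD : Set G) := by
  have key : ∀ s ∈ E, ∀ t ∈ actK E F D hD, s * t * s⁻¹ ∈ actK E F D hD := by
    rintro s hs t ⟨ht, ht'⟩
    refine ⟨E.mul_mem (E.mul_mem hs ht) (E.inv_mem hs), fun g hg => ?_⟩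
    have e : ⁅s * t * s⁻¹, g⁆ = s * ⁅t, s⁻¹ * g * s⁻¹⁻¹⁆ * s⁻¹ := by
      simp only [commutatorElement_def]; group
    rw [e]
    exact (mem_normalizer_iff.1 (hD hs) _).1 (ht' _ ((mem_normalizer_iff.1 (hF (E.inv_mem hs)) _).1 hg))
  intro s hs
  rw [mem_normalizer_iff]
  intro t
  refine ⟨fun h => key s hs t h, fun h => ?_⟩
  have := key s⁻¹ (E.inv_mem hs) _ h
  have e : s⁻¹ * (s * t * s⁻¹) * s⁻¹⁻¹ = t := by group
  rwa [e] at this

/-- a proper normal subgroup `D` of the nilpotent group `F`: a nontrivial central element of `F/D` -/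
theorem exists_central {F D : Subgroup G} (hn : Group.IsNilpotent F) (hDF : D ≤ F)
    (hD : F ≤ normalizer (D : Set G)) {c : G} (hc : c ∈ F) (hcD : c ∉ D) :
    ∃ z ∈ F, z ∉ D ∧ ∀ g ∈ F, ⁅z, g⁆ ∈ D := by
  have hnor : (D.subgroupOf F).Normal := normal_subgroupOf_of_le_normalizer hD
  have hnt : Nontrivial (F ⧸ D.subgroupOf F) := by
    refine ⟨⟨QuotientGroup.mk ⟨c, hc⟩, 1, ?_⟩⟩
    intro h
    rw [QuotientGroup.eq_one_iff] at h
    exact hcD h
  have h1 : center (F ⧸ D.subgroupOf F) ≠ ⊥ := Group.IsNilpotent.center_ne_bot _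
  obtain ⟨q, hq1⟩ := Subgroup.ne_bot_iff_exists_ne_one.1 h1
  have hq := q.2
  obtain ⟨z, hz⟩ := QuotientGroup.mk_surjective q.1
  refine ⟨z, z.2, ?_, ?_⟩
  · intro h
    apply hq1
    apply Subtype.ext
    rw [← hz]
    exact (QuotientGroup.eq_one_iff _).2 h
  · intro g hg
    have h2 := mem_center_iff.1 hq (QuotientGroup.mk ⟨g, hg⟩)
    rw [← hz, ← QuotientGroup.mk_mul, ← QuotientGroup.mk_mul, QuotientGroup.eq] at h2
    have h3 : ((⟨g, hg⟩ * z : F)⁻¹ * (z * ⟨g, hg⟩) : F) ∈ D.subgroupOf F := h2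
    rw [mem_subgroupOf] at h3
    have h4 : (z : G)⁻¹ * g⁻¹ * (z * g) ∈ D := by simpa only [_root_.mul_inv_rev, _root_.Subgroup.coe_mul, _root_.InvMemClass.coe_inv] using h3
    have h5 := (mem_normalizer_iff.1 (hD (F.mul_mem z.2 hg)) _).1 h4
    have e : (z : G) * g * ((z : G)⁻¹ * g⁻¹ * (z * g)) * ((z : G) * g)⁻¹ = ⁅(z : G), g⁆ := by
      simp only [commutatorElement_def]; group
    rwa [e] at h5

variable {Ω : Type*} [MulAction G Ω]

/-- one of the two directions: `N` is moved by the direction, `F` is centralised by `N` and acts on the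
groups `F'(y)` of the neighbours -/
structure Half (r : Ω → Ω → Prop) (E N F F' : Ω → Subgroup G) : Prop where
  Nle : ∀ x, N x ≤ E x
  Fnorm : ∀ x, E x ≤ normalizer (F x : Set G)
  Fnil : ∀ x, Group.IsNilpotent (F x)
  fac : ∀ x y, r x y → ∀ e ∈ E x, ∃ n ∈ N x, ∃ e₀ ∈ E x ⊓ E y, n * e₀ = e
  cen : ∀ x, ∀ n ∈ N x, ∀ f ∈ F x, n * f = f * n
  Fle : ∀ x y, r x y → F x ≤ E x ⊓ E y
  sep : ∀ x, ∀ f ∈ F x, (∀ y, r x y → ∀ g ∈ F' y, f * g = g * f) → f = 1

/-- the measure of `F` is less than `m` -/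
def MuLt (E F : Ω → Subgroup G) (m : ℕ) : Prop :=
  ∀ x, ∀ e ∈ E x, (∃ f ∈ F x, e * f ≠ f * e) →
    ∃ K : Subgroup G, K ≤ E x ∧ E x ≤ normalizer (K : Set G) ∧
      (∀ t ∈ E x, (∀ f ∈ F x, t * f = f * t) → t ∈ K) ∧ e ∉ K ∧ K.relIndex (E x) < m

theorem MuLt.step [Finite G] {r : Ω → Ω → Prop} {E N F F' : Ω → Subgroup G} (H : Half r E N F F') {m : ℕ}
    (h : MuLt E F' (m + 1)) : MuLt E F m := by
  rintro x e he ⟨f, hf, hef⟩
  have hconjF : ∀ t ∈ E x, ∀ g ∈ F x, t * g * t⁻¹ ∈ F x := fun t ht g hg =>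
    (mem_normalizer_iff.1 (H.Fnorm x ht) g).1 hg
  have hcommF : ∀ t ∈ E x, ∀ g ∈ F x, ⁅t, g⁆ ∈ F x := fun t ht g hg =>
    (F x).mul_mem (hconjF t ht g hg) ((F x).inv_mem hg)
  have hc1 : ⁅e, f⁆ ≠ 1 := by
    intro h1
    exact hef (commutatorElement_eq_one_iff_mul_comm.1 h1)
  obtain ⟨y, hy, g, hg, hcg⟩ : ∃ y, r x y ∧ ∃ g ∈ F' y, ⁅e, f⁆ * g ≠ g * ⁅e, f⁆ := by
    by_contra hcon
    push Not at hcon
    exact hc1 (H.sep x _ (hcommF e he f hf) fun y hy g hg => hcon y hy g hg)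
  obtain ⟨n, hn, e₀, he₀, rfl⟩ := H.fac x y hy e he
  have hFE := H.Fle x y hy
  have hce : ⁅n * e₀, f⁆ = ⁅e₀, f⁆ := by
    have h1 : ⁅n * e₀, f⁆ = n * ⁅e₀, f⁆ * n⁻¹ * ⁅n, f⁆ := by
      simp only [commutatorElement_def]; group
    have h2 : ⁅n, f⁆ = 1 := commutatorElement_eq_one_iff_mul_comm.2 (H.cen x n hn f hf)
    rw [h1, h2, mul_one, H.cen x n hn _ (hcommF e₀ he₀.1 f hf), mul_inv_cancel_right]
  rw [hce] at hcg hc1
  have hcE : ⁅e₀, f⁆ ∈ E y := by
    have h1 : e₀ ∈ E y := he₀.2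
    have h2 : f ∈ E y := (hFE hf).2
    exact (E y).mul_mem ((E y).mul_mem ((E y).mul_mem h1 h2) ((E y).inv_mem h1)) ((E y).inv_mem h2)
  obtain ⟨K, hKE, hKn, -, hcK, hKi⟩ := h y ⁅e₀, f⁆ hcE ⟨g, hg, hcg⟩
  have hKconj : ∀ t ∈ E y, ∀ k ∈ K, t * k * t⁻¹ ∈ K := fun t ht k hk =>
    (mem_normalizer_iff.1 (hKn ht) k).1 hk
  -- `D = K ∩ F(x)` is normal in `E(x)`
  have hDkey : ∀ t ∈ E x, ∀ d ∈ K ⊓ F x, t * d * t⁻¹ ∈ K ⊓ F x := by
    intro t ht d hd
    obtain ⟨n', hn', t₀, ht₀, rfl⟩ := H.fac x y hy t ht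
    have h1 : t₀ * d * t₀⁻¹ ∈ K ⊓ F x := ⟨hKconj t₀ ht₀.2 d hd.1, hconjF t₀ ht₀.1 d hd.2⟩
    have h2 : n' * t₀ * d * (n' * t₀)⁻¹ = t₀ * d * t₀⁻¹ := by
      have h3 : n' * t₀ * d * (n' * t₀)⁻¹ = n' * (t₀ * d * t₀⁻¹) * n'⁻¹ := by group
      rw [h3, H.cen x n' hn' _ h1.2, mul_inv_cancel_right]
    rw [h2]
    exact h1
  have hD : E x ≤ normalizer ((K ⊓ F x : Subgroup G) : Set G) := by
    intro s hs
    rw [mem_normalizer_iff]
    intro t
    refine ⟨fun h => hDkey s hs t h, fun h => ?_⟩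
    have := hDkey s⁻¹ ((E x).inv_mem hs) _ h
    have e : s⁻¹ * (s * t * s⁻¹) * s⁻¹⁻¹ = t := by group
    rwa [e] at this
  set K₂ := actK (E x) (F x) (K ⊓ F x) hD with hK₂
  have hK₂E : K₂ ≤ E x := fun t ht => ht.1
  have hK₂n : E x ≤ normalizer (K₂ : Set G) := actK_norm hD (H.Fnorm x)
  have hNK₂ : N x ≤ K₂ := by
    intro t ht
    refine ⟨H.Nle x ht, fun g hg => ?_⟩
    rw [commutatorElement_eq_one_iff_mul_comm.2 (H.cen x t ht g hg)]
    exact one_mem _
  refine ⟨K₂, hK₂E, hK₂n, ?_, ?_, ?_⟩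
  · intro t ht h1
    refine ⟨ht, fun g hg => ?_⟩
    rw [commutatorElement_eq_one_iff_mul_comm.2 (h1 g hg)]
    exact one_mem _
  · intro h1
    have h2 := h1.2 f hf
    rw [hce] at h2
    exact hcK h2.1
  · -- the index
    set E₀ := E x ⊓ E y with hE₀
    have h1 : K₂.relIndex (E x) = K₂.relIndex E₀ := by
      have hnor : (K₂.subgroupOf (E x)).Normal := normal_subgroupOf_of_le_normalizer hK₂n
      have h2 : E₀.subgroupOf (E x) ⊔ K₂.subgroupOf (E x) = ⊤ := by
        rw [eq_top_iff]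
        rintro ⟨t, ht⟩ -
        obtain ⟨n', hn', t₀, ht₀, rfl⟩ := H.fac x y hy t ht
        have h3 : (⟨n' * t₀, ht⟩ : E x) = ⟨n', H.Nle x hn'⟩ * ⟨t₀, ht₀.1⟩ := rfl
        rw [h3]
        refine mul_mem ?_ ?_
        · exact mem_sup_right (hNK₂ hn')
        · exact mem_sup_left (mem_subgroupOf.2 ht₀)
      have h3 := relIndex_sup_right (H := E₀.subgroupOf (E x)) (K := K₂.subgroupOf (E x))
      rw [h2, relIndex_top_right, relIndex_subgroupOf inf_le_left] at h3
      exact h3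
    rw [h1]
    obtain ⟨z, hz, hzD, hzc⟩ := exists_central (F := F x) (D := K ⊓ F x) (H.Fnil x) inf_le_right
      (fun t ht => hD (hFE ht).1) (hcommF e₀ he₀.1 f hf) (fun h => hcK h.1)
    have hlt : K ⊓ E₀ ≤ K₂ ⊓ E₀ := by
      rintro t ⟨ht, ht₀⟩
      refine ⟨⟨ht₀.1, fun g hg => ⟨?_, hcommF t ht₀.1 g hg⟩⟩, ht₀⟩
      have hgy : g ∈ E y := (hFE hg).2
      have e : ⁅t, g⁆ = t * (g * t⁻¹ * g⁻¹) := by simp only [commutatorElement_def]; group
      rw [e]
      exact K.mul_mem ht (hKconj g hgy _ (K.inv_mem ht))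
    have hne : ¬ K₂ ⊓ E₀ ≤ K ⊓ E₀ := by
      intro h2
      have hz₀ : z ∈ E₀ := hFE hz
      have h3 : z ∈ K₂ ⊓ E₀ := ⟨⟨hz₀.1, hzc⟩, hz₀⟩
      exact hzD ⟨(h2 h3).1, hz⟩
    have h2 := relIndex_mul_relIndex (K ⊓ E₀) (K₂ ⊓ E₀) E₀ hlt inf_le_right
    rw [inf_relIndex_right, inf_relIndex_right] at h2
    have h3 : 1 < (K ⊓ E₀).relIndex (K₂ ⊓ E₀) := by
      have h4 : (K ⊓ E₀).relIndex (K₂ ⊓ E₀) ≠ 1 := fun h => hne (relIndex_eq_one.1 h)
      have h5 : (K ⊓ E₀).relIndex (K₂ ⊓ E₀) ≠ 0 := by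
        rw [relIndex]; exact index_ne_zero_of_finite
      omega
    have h4 : K.relIndex E₀ ≤ K.relIndex (E y) := by
      refine relIndex_le_of_le_right inf_le_right ?_
      rw [relIndex]; exact index_ne_zero_of_finite
    have h5 : K₂.relIndex E₀ ≠ 0 := by
      rw [relIndex]; exact index_ne_zero_of_finite
    have h6 : K₂.relIndex E₀ < (K ⊓ E₀).relIndex (K₂ ⊓ E₀) * K₂.relIndex E₀ := by
      nlinarith only [h3, Nat.pos_of_ne_zero h5]
    omega

/-- **The abstract contradiction.** -/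
theorem false_of_half [Finite G] {r₁ r₂ : Ω → Ω → Prop} {E N₁ N₂ F₁ F₂ : Ω → Subgroup G}
    (H₁ : Half r₁ E N₁ F₂ F₁) (H₂ : Half r₂ E N₂ F₁ F₂) (x : Ω) (hx : F₂ x ≠ ⊥) : False := by
  have step : ∀ m, MuLt E F₁ m → MuLt E F₁ 0 := by
    intro m
    induction m using Nat.strong_induction_on with
    | _ m ih =>
      intro h
      rcases m with _ | m
      · exact h
      · have h1 := MuLt.step H₁ h
        rcases m with _ | m
        · -- `MuLt E F₂ 0`
          intro z e he hz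
          exfalso
          have h2 : MuLt E F₂ 1 := by
            intro z e he hz
            obtain ⟨K, -, -, -, -, hK⟩ := h1 z e he hz
            omega
          have h3 := MuLt.step H₂ h2
          obtain ⟨K, -, -, -, -, hK⟩ := h3 z e he hz
          omega
        · have h2 := MuLt.step H₂ h1
          exact ih m (by omega) h2
  have h0 : MuLt E F₁ (Nat.card G + 1) := by
    rintro z e he ⟨f, hf, hef⟩
    have hb : E z ≤ normalizer ((⊥ : Subgroup G) : Set G) := by
      intro t _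
      rw [mem_normalizer_iff]
      intro s
      simp only [mem_bot]
      constructor
      · rintro rfl; group
      · intro h
        have : s = t⁻¹ * (t * s * t⁻¹) * t := by group
        rw [this, h]; group
    refine ⟨actK (E z) (F₁ z) ⊥ hb, fun t ht => ht.1, ?_, ?_, ?_, ?_⟩
    · exact actK_norm _ (H₂.Fnorm z)
    · intro t ht h1
      refine ⟨ht, fun g hg => ?_⟩
      rw [mem_bot]
      exact commutatorElement_eq_one_iff_mul_comm.2 (h1 g hg)
    · intro h1
      exact hef (commutatorElement_eq_one_iff_mul_comm.1 (mem_bot.1 (h1.2 f hf)))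
    · rw [relIndex, Nat.lt_succ_iff]
      exact (Nat.le_of_dvd Nat.card_pos (index_dvd_card _)).trans
        (Nat.le_of_dvd Nat.card_pos (card_subgroup_dvd_card _))
  have h1 := step _ h0
  -- `E(z)` centralises `F₁(z)` for all `z`
  apply hx
  rw [eq_bot_iff]
  intro f hf
  rw [mem_bot]
  refine H₁.sep x f hf fun y hy g hg => ?_
  by_contra hcon
  obtain ⟨K, -, -, -, -, hK⟩ := h1 y f ((H₁.Fle x y hy hf).2) ⟨g, hg, hcon⟩
  omega

end Cfsg.Agent.R2.T3544
end

-- part: R2/T3544/NLMu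
section
/-!
# S3544: two `u'`-directions and a solvable functor `E` (helper18)
-/

set_option autoImplicit false
set_option linter.unusedSectionVars false

namespace Cfsg.Agent.R2.T3544.NLMu

open Subgroup MulAction Cfsg
open Cfsg.Agent.R2.T3544
open scoped commutatorElement

/-- If the `p'`-group `X` normalises the solvable group `S` and `|S : C_S(X)|` is prime to `p`, then `[S, X]` is
a `p'`-group. -/
theorem coprime_commutator {G : Type*} [Group G] [Finite G] {p : ℕ} [hp : Fact p.Prime] {S X : Subgroup G}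
    (hS : Group.IsSolvable S) (hX : Group.IsSolvable X) (hXS : X ≤ normalizer (S : Set G))
    (hXp : (Nat.card X).Coprime p) (h : ¬ p ∣ (S ⊓ centralizer (X : Set G)).relIndex S) :
    (Nat.card (⁅S, X⁆ : Subgroup G)).Coprime p := by
  set H := S ⊔ X with hH
  have hHs : Group.IsSolvable H := SignalizersComponents.CoprimeBasic.isSolvable_sup hXS hS hX
  set C := S ⊓ centralizer (X : Set G) with hC
  obtain ⟨P₀⟩ : Nonempty (Sylow p C) := inferInstance
  set P₁ := (P₀ : Subgroup C).map C.subtype with hP₁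
  have hP₁C : P₁ ≤ C := map_subtype_le _
  have hCH : C ≤ H := inf_le_left.trans le_sup_left
  have hP₁H : P₁ ≤ H := hP₁C.trans hCH
  have h1 : ¬ p ∣ P₁.relIndex C := by
    have h2 : P₁.relIndex C = (P₀ : Subgroup C).index := by
      rw [relIndex, hP₁, subgroupOf, comap_map_eq_self_of_injective C.subtype_injective]
    rw [h2]
    exact P₀.not_dvd_index
  have h2 : ¬ p ∣ S.relIndex H := by
    intro h3
    have h4 : S.relIndex H ∣ Nat.card X := by
      have h5 : (S.subgroupOf H).Normal := normal_subgroupOf_of_le_normalizer (sup_le le_normalizer hXS)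
      have h6 : X.subgroupOf H ⊔ S.subgroupOf H = ⊤ := by
        rw [← subgroupOf_sup le_sup_right le_sup_left, sup_comm X S]
        exact subgroupOf_self _
      have h7 := relIndex_sup_right (H := X.subgroupOf H) (K := S.subgroupOf H)
      rw [h6, relIndex_top_right, relIndex_subgroupOf le_sup_right] at h7
      have h8 : S.relIndex H = S.relIndex X := h7
      rw [h8, relIndex]
      exact index_dvd_card _
    have h5 := Nat.eq_one_of_dvd_coprimes hXp (h3.trans h4) dvd_rfl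
    exact hp.out.one_lt.ne' h5
  have h3 : ¬ p ∣ P₁.relIndex H := by
    rw [← relIndex_mul_relIndex P₁ C H hP₁C hCH, ← relIndex_mul_relIndex C S H inf_le_left le_sup_left]
    intro h4
    rcases (Nat.Prime.dvd_mul hp.out).1 h4 with h4 | h4
    · exact h1 h4
    · rcases (Nat.Prime.dvd_mul hp.out).1 h4 with h4 | h4
      · exact h h4
      · exact h2 h4
  have hPp : IsPGroup p (P₁.subgroupOf H) :=
    (P₀.isPGroup'.map C.subtype).of_equiv (subgroupOfEquivOfLe hP₁H).symm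
  let P : Sylow p H := hPp.toSylow h3
  have hPc : (P : Subgroup H) = P₁.subgroupOf H := rfl
  -- `X ≤ O_{p'}(H)`
  have hXH : X.subgroupOf H ≤ pPrimeCore p H := by
    have hn : (pPrimeCore p H).Normal := Lib.Cores.pPrimeCore_normal p
    set N := pPrimeCore p H with hN
    have hf : Function.Surjective (QuotientGroup.mk' N) := QuotientGroup.mk'_surjective N
    have hb : pPrimeCore p (H ⧸ N) = ⊥ := Lib.HallHigman.pPrimeCore_quotient_eq_bot p N hN
    have hsq : Group.IsSolvable (H ⧸ N) := Group.isSolvable_of_surjective hf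
    have hcen := Lib.HallHigman.centralizer_pCore_le_of_solvable p hb
    let R : Sylow p (H ⧸ N) := P.mapSurjective hf
    have hR : (R : Subgroup (H ⧸ N)) = (P : Subgroup H).map (QuotientGroup.mk' N) := rfl
    have hle := Lib.HallHigman.pCore_le_sylow p R
    intro t ht
    have htc : (QuotientGroup.mk' N t) ∈ centralizer (pCore p (H ⧸ N) : Set (H ⧸ N)) := by
      rw [mem_centralizer_iff]
      intro q hq
      have hq2 := hle hq
      rw [hR] at hq2
      obtain ⟨c, hc, rfl⟩ := hq2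
      rw [← map_mul, ← map_mul]
      congr 1
      have hc1 : (c : G) ∈ C := hP₁C hc
      exact Subtype.ext (mem_centralizer_iff.1 hc1.2 t ht).symm
    have htp := hcen htc
    have hpg : IsPGroup p (pCore p (H ⧸ N)) := Lib.Cores.pCore_isPGroup p
    obtain ⟨k, hk⟩ := hpg ⟨_, htp⟩
    have hk' : (QuotientGroup.mk' N t) ^ p ^ k = 1 := congrArg Subtype.val hk
    have hX' : (QuotientGroup.mk' N t) ^ Nat.card X = 1 := by
      rw [← map_pow]
      have : t ^ Nat.card X = 1 := by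
        apply Subtype.ext
        have h5 : (⟨(t : G), ht⟩ : X) ^ Nat.card X = 1 := pow_card_eq_one'
        have h7 : (t : G) ^ Nat.card X = 1 := congrArg Subtype.val h5
        exact h7
      rw [this, map_one]
    have h6 : orderOf (QuotientGroup.mk' N t) = 1 :=
      Nat.eq_one_of_dvd_coprimes (Nat.Coprime.pow_right k hXp) (orderOf_dvd_of_pow_eq_one hX')
        (orderOf_dvd_of_pow_eq_one hk')
    rw [orderOf_eq_one_iff] at h6
    exact (QuotientGroup.eq_one_iff t).1 h6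
  have hOn : H ≤ normalizer (((pPrimeCore p H).map H.subtype : Subgroup G) : Set G) :=
    Lib.LocalCore.le_normalizer_map_pPrimeCore p H
  have hle : ⁅S, X⁆ ≤ (pPrimeCore p H).map H.subtype := by
    rw [commutator_le]
    intro s hs x hx
    have hxO : x ∈ (pPrimeCore p H).map H.subtype := ⟨⟨x, mem_sup_right hx⟩, hXH (mem_subgroupOf.2 hx), rfl⟩
    have hsH : s ∈ H := mem_sup_left hs
    rw [commutatorElement_def]
    exact mul_mem ((mem_normalizer_iff.1 (hOn hsH) x).1 hxO) (inv_mem hxO)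
  exact (Lib.LocalCore.card_map_pPrimeCore_coprime p H).coprime_dvd_left (card_dvd_of_le hle)

variable {G : Type*} [Group G] {Ω : Type*} [MulAction G Ω]

/-- an equivariant choice of subgroups of the point stabilizers -/
structure Fnc (E : Ω → Subgroup G) : Prop where
  le : ∀ x, E x ≤ stabilizer G x
  eqv : ∀ (g : G) (x : Ω), (E x).map (MulAut.conj g).toMonoidHom = E (g • x)

theorem Fnc.norm {E : Ω → Subgroup G} (F : Fnc E) (x : Ω) : stabilizer G x ≤ normalizer (E x : Set G) := by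
  refine le_normalizer_of_map_le fun g hg => ?_
  rw [F.eqv, mem_stabilizer_iff.1 hg]

theorem Fnc.card (P : PP G Ω) {E : Ω → Subgroup G} (F : Fnc E) (x y : Ω) : Nat.card (E x) = Nat.card (E y) := by
  obtain ⟨g, rfl⟩ := P.trans x y
  rw [← F.eqv, card_map_of_injective (MulAut.conj g).injective]

theorem Fnc.ne_bot (P : PP G Ω) {E : Ω → Subgroup G} (F : Fnc E) {x : Ω} (h : E x ≠ ⊥) (y : Ω) : E y ≠ ⊥ := by
  intro h1
  apply h
  have h2 := F.card P x y
  rw [h1, card_bot] at h2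
  exact card_eq_one.1 h2 |>.symm ▸ rfl

/-- the normalizer of a nontrivial functor value -/
theorem Fnc.normalizer_le (P : PP G Ω) {E : Ω → Subgroup G} (F : Fnc E) {x : Ω} (h : E x ≠ ⊥) :
    normalizer (E x : Set G) ≤ stabilizer G x := P.norm x _ (F.le x) h (F.norm x)

/-- a nontrivial functor takes different values at neighbours -/
theorem Fnc.not_le [Finite G] (P : PP G Ω) {E : Ω → Subgroup G} (F : Fnc E) {r : Ω → Ω → Prop} {d : ℕ}
    (D : Dir G r d) {x y : Ω} (hxy : r x y) (h : E x ≠ ⊥) : ¬ E x ≤ E y := by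
  intro h1
  have h2 : E x = E y := eq_of_le_of_card_ge h1 (F.card P y x).le
  apply D.not_le (D.symm hxy)
  refine (F.norm y).trans ?_
  rw [← h2]
  exact F.normalizer_le P h

/-- the join over the neighbours `y` of `x` of the groups `[E(x), X(y)]` -/
def NN (r : Ω → Ω → Prop) (X E : Ω → Subgroup G) (x : Ω) : Subgroup G := ⨆ y, ⨆ (_ : r x y), ⁅E x, X y⁆

theorem le_NN {r : Ω → Ω → Prop} {X E : Ω → Subgroup G} {x y : Ω} (h : r x y) : ⁅E x, X y⁆ ≤ NN r X E x :=
  le_iSup₂_of_le y h le_rfl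

theorem NN_le_iff {r : Ω → Ω → Prop} {X E : Ω → Subgroup G} {x : Ω} {B : Subgroup G} :
    NN r X E x ≤ B ↔ ∀ y, r x y → ⁅E x, X y⁆ ≤ B := by
  rw [NN, iSup₂_le_iff]

theorem NN_fnc {r : Ω → Ω → Prop} {d : ℕ} (D : Dir G r d) {X E : Ω → Subgroup G} (FX : Fnc X) (FE : Fnc E)
    (hle : ∀ x y, r x y → X y ≤ stabilizer G x) : Fnc (NN r X E) where
  le := by
    intro x
    rw [NN_le_iff]
    intro y hy
    rw [commutator_le]
    intro a ha b hb
    have ha' := FE.le x ha
    have hb' := hle x y hy hb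
    exact mul_mem (mul_mem (mul_mem ha' hb') (inv_mem ha')) (inv_mem hb')
  eqv := by
    have key : ∀ (g : G) (x : Ω), (NN r X E x).map (MulAut.conj g).toMonoidHom ≤ NN r X E (g • x) := by
      intro g x
      rw [map_le_iff_le_comap, NN_le_iff]
      intro y hy
      rw [← map_le_iff_le_comap, map_commutator, FE.eqv, FX.eqv]
      exact le_NN (D.smul g hy)
    intro g x
    apply le_antisymm (key g x)
    have h1 := key g⁻¹ (g • x)
    rw [inv_smul_smul] at h1
    have h2 := map_mono (f := (MulAut.conj g).toMonoidHom) h1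
    have h3 := map_map_conj_inv (NN r X E (g • x)) g⁻¹
    rw [inv_inv] at h3
    rwa [h3] at h2

/-- the Fitting subgroup of the value of a functor -/
def Ft (N : Ω → Subgroup G) (x : Ω) : Subgroup G := (fittingSubgroup (N x)).map (N x).subtype

theorem Ft_le (N : Ω → Subgroup G) (x : Ω) : Ft N x ≤ N x := map_subtype_le _

theorem map_fitting (N : Subgroup G) (g : G) :
    ((fittingSubgroup N).map N.subtype).map (MulAut.conj g).toMonoidHom =
      (fittingSubgroup (N.map (MulAut.conj g).toMonoidHom : Subgroup G)).map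
        (N.map (MulAut.conj g).toMonoidHom).subtype := by
  let e := N.equivMapOfInjective (MulAut.conj g).toMonoidHom (MulAut.conj g).injective
  rw [← Lib.Cores.map_equiv_fittingSubgroup e, map_map, map_map]
  congr 1

theorem Ft_fnc {N : Ω → Subgroup G} (F : Fnc N) : Fnc (Ft N) where
  le := fun x => (Ft_le N x).trans (F.le x)
  eqv := by
    intro g x
    rw [Ft, map_fitting, Ft, F.eqv]

theorem Ft_nil [Finite G] (N : Ω → Subgroup G) (x : Ω) : Group.IsNilpotent (Ft N x) := by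
  have h := Lib.Cores.fittingSubgroup_isNilpotent (G := N x)
  exact Group.nilpotent_of_mulEquiv ((fittingSubgroup (N x)).equivMapOfInjective (N x).subtype
    (N x).subtype_injective)

/-- the data: a `u`-functor `X` and a solvable `u'`-functor `E` -/
structure NLData (G : Type*) [Group G] {Ω : Type*} [MulAction G Ω] (u : ℕ) (X E : Ω → Subgroup G) : Prop where
  P : PP G Ω
  FX : Fnc X
  FE : Fnc E
  Xu : ∀ x, IsPGroup u (X x)
  Xne : ∀ x, X x ≠ ⊥
  Eu : ∀ x, (Nat.card (E x)).Coprime u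
  Es : ∀ x, Group.IsSolvable (E x)
  Ene : ∀ x, E x ≠ ⊥

/-- a direction of length prime to `u` along which `E(x) ∩ G_y ≤ E(y)` -/
structure NLDir (u : ℕ) (E : Ω → Subgroup G) (r : Ω → Ω → Prop) (d : ℕ) : Prop where
  D : Dir G r d
  hu : ¬ u ∣ d
  hE : ∀ x y, r x y → E x ⊓ stabilizer G y ≤ E y

/-- a `u`-group has no proper subgroup of index dividing `d` if `u` does not divide `d` -/
theorem not_hasIdx_of_isPGroup {K : Type*} [Group K] [Finite K] {u d : ℕ} [hu : Fact u.Prime] (hK : IsPGroup u K)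
    (h : ¬ u ∣ d) : ¬ HasIdx K d := by
  rintro ⟨C, hC, hd⟩
  apply hC
  rw [← index_eq_one]
  obtain ⟨n, hn⟩ := hK.index C
  rcases n with _ | n
  · rw [hn, pow_zero]
  · exfalso
    apply h
    refine dvd_trans ?_ hd
    rw [hn]
    exact dvd_pow_self u (Nat.succ_ne_zero n)

/-- subgroups of coprime orders normalising each other commute -/
theorem commute_of_coprime' [Finite G] {A B : Subgroup G} (hAB : A ≤ normalizer (B : Set G))
    (hBA : B ≤ normalizer (A : Set G)) (h : (Nat.card A).Coprime (Nat.card B)) :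
    A ≤ centralizer (B : Set G) :=
  Lib.BenderMaximal.le_centralizer_of_normalize hAB hBA (disjoint_of_coprime_natCard h).eq_bot

section

variable [Finite G] {u : ℕ} [hu : Fact u.Prime] {X E : Ω → Subgroup G}

theorem NLData.cop (T : NLData G u X E) (x y : Ω) : (Nat.card (E x)).Coprime (Nat.card (X y)) := by
  obtain ⟨n, hn⟩ := (T.Xu y).exists_card_eq
  rw [hn]
  exact Nat.Coprime.pow_right n (T.Eu x)

theorem NLData.Xsubn (T : NLData G u X E) (y : Ω) : SubnIn (X y) (stabilizer G y) :=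
  SubnIn.of_normal (T.FX.le y) (T.FX.norm y)

theorem NLData.Esubn (T : NLData G u X E) (y : Ω) : SubnIn (E y) (stabilizer G y) :=
  SubnIn.of_normal (T.FE.le y) (T.FE.norm y)

theorem NLData.Xle (T : NLData G u X E) {r : Ω → Ω → Prop} {d : ℕ} (D : NLDir u E r d) {x y : Ω} (h : r x y) :
    X y ≤ stabilizer G x :=
  (D.D.le_Mk_of_subn (T.Xsubn y) (not_hasIdx_of_isPGroup (T.Xu y) D.hu)).trans (Mk_le_nbr (D.D.symm h))

theorem NLData.comm (T : NLData G u X E) (x : Ω) : E x ≤ centralizer (X x : Set G) :=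
  commute_of_coprime' ((T.FE.le x).trans (T.FX.norm x)) ((T.FX.le x).trans (T.FE.norm x)) (T.cop x x)

theorem NLData.cent_le (T : NLData G u X E) {r : Ω → Ω → Prop} {d : ℕ} (D : NLDir u E r d) {x y : Ω}
    (h : r x y) : E x ⊓ centralizer (X y : Set G) ≤ E x ⊓ E y := by
  refine le_inf inf_le_left (le_trans ?_ (D.hE x y h))
  refine le_inf inf_le_left (inf_le_right.trans ?_)
  exact (centralizer_le_normalizer _).trans (T.FX.normalizer_le T.P (T.Xne y))

theorem NLData.le_cent (T : NLData G u X E) {r : Ω → Ω → Prop} {d : ℕ} (D : NLDir u E r d) {x y : Ω}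
    (h : r x y) : E x ⊓ stabilizer G y ≤ centralizer (X y : Set G) := by
  refine commute_of_coprime' (inf_le_right.trans (T.FX.norm y)) ?_
    ((T.cop x y).coprime_dvd_left (card_dvd_of_le inf_le_left))
  refine le_trans ?_ inf_normalizer_le_normalizer_inf
  exact le_inf ((T.Xle D h).trans (T.FE.norm x)) ((T.FX.le y).trans le_normalizer)

theorem NLData.fac (T : NLData G u X E) {r : Ω → Ω → Prop} {d : ℕ} (D : NLDir u E r d) {x y : Ω}
    (h : r x y) {e : G} (he : e ∈ E x) : ∃ n ∈ (⁅E x, X y⁆ : Subgroup G), ∃ e₀ ∈ E x ⊓ E y, n * e₀ = e := by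
  obtain ⟨n, hn, c, hc, rfl⟩ := Lib.CoprimeCommutator.exists_commutator_mul_fixed_of_isPGroup u (X y) (E x)
    (T.Xu y) ((T.Xle D h).trans (T.FE.norm x))
    (fun h1 => hu.out.one_lt.ne' (Nat.eq_one_of_dvd_coprimes (T.Eu x) h1 dvd_rfl)) e he
  exact ⟨n, hn, c, T.cent_le D h hc, rfl⟩

theorem NLData.comm_le (T : NLData G u X E) {r : Ω → Ω → Prop} {d : ℕ} (D : NLDir u E r d) {x y : Ω}
    (h : r x y) : ⁅E x, X y⁆ ≤ E x :=
  Lib.CoprimeCommutator.commutator_le_left ((T.Xle D h).trans (T.FE.norm x))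

theorem NLData.NN_le (T : NLData G u X E) {r : Ω → Ω → Prop} {d : ℕ} (D : NLDir u E r d) (x : Ω) :
    NN r X E x ≤ E x := NN_le_iff.2 fun _ h => T.comm_le D h

theorem NLData.NN_fnc (T : NLData G u X E) {r : Ω → Ω → Prop} {d : ℕ} (D : NLDir u E r d) : Fnc (NN r X E) :=
  NLMu.NN_fnc D.D T.FX T.FE fun _ _ h => T.Xle D h

/-- `N(x)` is a `π(d)`-group -/
theorem NLData.NN_coprime (T : NLData G u X E) {r : Ω → Ω → Prop} {d : ℕ} (D : NLDir u E r d) (x : Ω)
    {p : ℕ} [hp : Fact p.Prime] (hpd : ¬ p ∣ d) : (Nat.card (NN r X E x)).Coprime p := by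
  by_cases hpu : p = u
  · subst hpu
    exact (T.Eu x).coprime_dvd_left (card_dvd_of_le (T.NN_le D x))
  have hle : NN r X E x ≤ (pPrimeCore p (E x)).map (E x).subtype := by
    rw [NN_le_iff]
    intro y hy
    refine Lib.LocalCore.le_map_pPrimeCore (T.comm_le D hy) ?_
      (Lib.CoprimeCommutator.left_le_normalizer_commutator (E x) (X y))
    have hXn : Group.IsNilpotent (X y) := (T.Xu y).isNilpotent
    refine coprime_commutator (T.Es x) inferInstance ((T.Xle D hy).trans (T.FE.norm x)) ?_ ?_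
    · obtain ⟨n, hn⟩ := (T.Xu y).exists_card_eq
      rw [hn]
      exact Nat.Coprime.pow_left n ((Nat.coprime_primes hu.out hp.out).2 (Ne.symm hpu))
    · intro h1
      apply hpd
      refine h1.trans ?_
      have h3 : (E x ⊓ centralizer (X y : Set G)).relIndex (E x) ∣ (stabilizer G y).relIndex (E x) := by
        have h4 : E x ⊓ stabilizer G y ≤ E x ⊓ centralizer (X y : Set G) :=
          le_inf inf_le_left (T.le_cent D hy)
        have h5 := relIndex_dvd_of_le_left (E x) h4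
        have h6 : (E x ⊓ stabilizer G y).relIndex (E x) = (stabilizer G y).relIndex (E x) := inf_relIndex_left _ _
        rwa [h6] at h5
      refine h3.trans ?_
      have h4 := (T.Esubn x).relIndex_dvd (stabilizer G y)
      rwa [D.D.idx hy] at h4
  exact (Lib.LocalCore.card_map_pPrimeCore_coprime p (E x)).coprime_dvd_left (card_dvd_of_le hle)

/-- `N_a(x)` fixes the `b`-neighbours of `x` -/
theorem NLData.NN_le_Mk (T : NLData G u X E) {ra rb : Ω → Ω → Prop} {da db : ℕ} (A : NLDir u E ra da)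
    (B : NLDir u E rb db) (hc : da.Coprime db) (x : Ω) : NN ra X E x ≤ Mk G rb x := by
  rw [NN_le_iff]
  intro y hy
  have h1 : X y ≤ Mk G rb x :=
    A.D.le_Mk_of_subn' B.D hc hy (T.Xsubn y) (T.Xle A hy) (not_hasIdx_of_isPGroup (T.Xu y) B.hu)
  rw [commutator_le]
  intro a ha b hb
  rw [commutatorElement_def]
  have h2 := B.D.Mk_norm x (T.FE.le x ha)
  exact mul_mem ((mem_normalizer_iff.1 h2 b).1 (h1 hb)) (inv_mem (h1 hb))

theorem NLData.NN_le_nbr (T : NLData G u X E) {ra rb : Ω → Ω → Prop} {da db : ℕ} (A : NLDir u E ra da)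
    (B : NLDir u E rb db) (hc : da.Coprime db) {x w : Ω} (hw : rb x w) : NN ra X E x ≤ E x ⊓ stabilizer G w :=
  le_inf (T.NN_le A x) ((T.NN_le_Mk A B hc x).trans (Mk_le_nbr hw))

/-- `[N_a(x), N_b(x)] = 1` -/
theorem NLData.NN_comm (T : NLData G u X E) {ra rb : Ω → Ω → Prop} {da db : ℕ} (A : NLDir u E ra da)
    (B : NLDir u E rb db) (hc : da.Coprime db) (x : Ω) : NN rb X E x ≤ centralizer (NN ra X E x : Set G) := by
  rw [NN_le_iff]
  intro w hw
  rw [commutator_le]
  intro e he t ht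
  rw [mem_centralizer_iff]
  intro n hn
  have hcen : ∀ m ∈ NN ra X E x, t * m = m * t := fun m hm =>
    mem_centralizer_iff.1 (((T.NN_le_nbr A B hc hw).trans (T.le_cent B hw)) hm) t ht
  have hnor := (T.NN_fnc A).norm x (T.FE.le x he)
  have h1 : e⁻¹ * n * e ∈ NN ra X E x := by
    have := (mem_normalizer_iff.1 (inv_mem hnor) n).1 hn
    rwa [inv_inv] at this
  have h2 := hcen _ h1
  have h3 := hcen n hn
  have h4 : t⁻¹ * n = n * t⁻¹ := by
    rw [inv_mul_eq_iff_eq_mul, ← mul_assoc, h3, mul_inv_cancel_right]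
  have h5 : t⁻¹ * (e⁻¹ * n * e) = (e⁻¹ * n * e) * t⁻¹ := by
    rw [inv_mul_eq_iff_eq_mul, ← mul_assoc, h2, mul_inv_cancel_right]
  have h6 : t * n = n * t := h3
  rw [commutatorElement_def]
  calc n * (e * t * e⁻¹ * t⁻¹) = e * ((e⁻¹ * n * e) * t) * e⁻¹ * t⁻¹ := by group
    _ = e * (t * (e⁻¹ * n * e)) * e⁻¹ * t⁻¹ := by rw [h2]
    _ = e * t * e⁻¹ * (n * t⁻¹) := by group
    _ = e * t * e⁻¹ * (t⁻¹ * n) := by rw [h4]
    _ = e * t * e⁻¹ * t⁻¹ * n := by group

theorem Ft_ne_bot {N : Ω → Subgroup G} {x : Ω} (hs : Group.IsSolvable (N x)) (hne : N x ≠ ⊥) : Ft N x ≠ ⊥ := by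
  intro h
  apply hne
  have h1 := Lib.BenderMaximal.inf_centralizer_fitting_le hs
  change N x ⊓ centralizer (Ft N x : Set G) ≤ Ft N x at h1
  rw [h] at h1
  rw [eq_bot_iff]
  intro t ht
  have h2 : t ∈ centralizer ((⊥ : Subgroup G) : Set G) := by
    rw [mem_centralizer_iff]
    rintro y hy
    have hy' : y = 1 := mem_bot.1 hy
    rw [hy', one_mul, mul_one]
  exact h1 ⟨ht, h2⟩

/-- `E(x)` is not contained in `G_y` -/
theorem NLData.not_le (T : NLData G u X E) {r : Ω → Ω → Prop} {d : ℕ} (D : NLDir u E r d) {x y : Ω}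
    (h : r x y) : ¬ E x ≤ stabilizer G y := fun h1 =>
  T.FE.not_le T.P D.D h (T.Ene x) ((le_inf le_rfl h1).trans (D.hE x y h))

theorem NLData.NN_ne_bot (T : NLData G u X E) {r : Ω → Ω → Prop} {d : ℕ} (D : NLDir u E r d) (x : Ω) :
    NN r X E x ≠ ⊥ := by
  intro h
  obtain ⟨y, hy⟩ := D.D.ex x
  apply T.not_le D hy
  intro e he
  obtain ⟨n, hn, e₀, he₀, rfl⟩ := T.fac D hy he
  have h1 := le_NN (X := X) (E := E) hy hn
  rw [h, mem_bot] at h1
  rw [h1, one_mul]
  exact T.FE.le y he₀.2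

theorem NLData.NN_sol (T : NLData G u X E) {r : Ω → Ω → Prop} {d : ℕ} (D : NLDir u E r d) (x : Ω) :
    Group.IsSolvable (NN r X E x) :=
  haveI := T.Es x
  Group.isSolvable_of_isSolvable_injective (inclusion_injective (T.NN_le D x))

/-- **the half for the direction `a`** -/
theorem NLData.half (T : NLData G u X E) {ra rb : Ω → Ω → Prop} {da db : ℕ} (A : NLDir u E ra da)
    (B : NLDir u E rb db) (hc : da.Coprime db) :
    Half ra E (NN ra X E) (Ft (NN rb X E)) (Ft (NN ra X E)) where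
  Nle := T.NN_le A
  Fnorm := fun x => (T.FE.le x).trans ((Ft_fnc (T.NN_fnc B)).norm x)
  Fnil := Ft_nil _
  fac := by
    intro x y hy e he
    obtain ⟨n, hn, e₀, he₀, h⟩ := T.fac A hy he
    exact ⟨n, le_NN hy hn, e₀, he₀, h⟩
  cen := by
    intro x n hn f hf
    exact mem_centralizer_iff.1 (T.NN_comm A B hc x (Ft_le _ x hf)) n hn
  Fle := by
    intro x y hy
    have h1 := (Ft_le (NN rb X E) x).trans (T.NN_le_nbr B A hc.symm hy)
    exact le_inf (h1.trans inf_le_left) (h1.trans (A.hE x y hy))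
  sep := by
    intro x f₀ hf₀ hsep
    set C : Subgroup G := Ft (NN rb X E) x ⊓ ⨅ y, ⨅ (_ : ra x y), centralizer (Ft (NN ra X E) y : Set G)
      with hC
    have hmem : ∀ f, f ∈ C ↔ f ∈ Ft (NN rb X E) x ∧ ∀ y, ra x y → ∀ g ∈ Ft (NN ra X E) y, g * f = f * g := by
      intro f
      rw [hC, mem_inf, mem_iInf]
      refine and_congr_right fun _ => forall_congr' fun y => ?_
      rw [mem_iInf]
      exact forall_congr' fun _ => mem_centralizer_iff
    have hf₀C : f₀ ∈ C := (hmem f₀).2 ⟨hf₀, fun y hy g hg => (hsep y hy g hg).symm⟩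
    by_contra hf1
    have hCne : C ≠ ⊥ := by
      intro h
      rw [h, mem_bot] at hf₀C
      exact hf1 hf₀C
    have FB := Ft_fnc (T.NN_fnc B)
    have FA := Ft_fnc (T.NN_fnc A)
    have hCle : C ≤ Ft (NN rb X E) x := inf_le_left
    have hCN : C ≤ NN rb X E x := hCle.trans (Ft_le _ x)
    have hCG : C ≤ stabilizer G x := hCle.trans (FB.le x)
    have hCnorm : stabilizer G x ≤ normalizer (C : Set G) := by
      refine le_normalizer_of_map_le fun g hg => ?_
      rintro _ ⟨f, hf, rfl⟩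
      have hf' := (hmem f).1 hf
      refine (hmem _).2 ⟨?_, ?_⟩
      · exact (mem_normalizer_iff.1 (FB.norm x hg) f).1 hf'.1
      · intro y hy a ha
        have hy' : ra x (g⁻¹ • y) := A.D.nbr hy (inv_mem hg)
        have ha' : g⁻¹ * a * g ∈ Ft (NN ra X E) (g⁻¹ • y) := by
          rw [← FA.eqv]
          exact ⟨a, ha, by simp only [_root_.map_inv, _root_.MulEquiv.toMonoidHom_eq_coe, _root_.MonoidHom.coe_coe, _root_.MulAut.inv_apply, _root_.MulAut.conj_symm_apply]⟩
        have h1 := hf'.2 _ hy' _ ha'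
        show a * (g * f * g⁻¹) = g * f * g⁻¹ * a
        calc a * (g * f * g⁻¹) = g * ((g⁻¹ * a * g) * f) * g⁻¹ := by group
          _ = g * (f * (g⁻¹ * a * g)) * g⁻¹ := by rw [h1]
          _ = g * f * g⁻¹ * a := by group
    have hCP := T.P.norm x C hCG hCne hCnorm
    obtain ⟨y, hy⟩ := A.D.ex x
    have hyx := A.D.symm hy
    -- `C` normalises `N_a(y)` and has coprime order
    have hCy : C ≤ stabilizer G y :=
      hCN.trans ((T.NN_le_nbr B A hc.symm hy).trans inf_le_right)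
    have hCNy : C ≤ normalizer (NN ra X E y : Set G) := hCy.trans ((T.NN_fnc A).norm y)
    have hcop : (Nat.card C).Coprime (Nat.card (NN ra X E y)) := by
      rw [Nat.coprime_iff_gcd_eq_one]
      by_contra hg
      obtain ⟨p, hp, hpg⟩ := Nat.exists_prime_and_dvd hg
      have : Fact p.Prime := ⟨hp⟩
      have h1 : p ∣ Nat.card (NN rb X E x) := (hpg.trans (Nat.gcd_dvd_left _ _)).trans (card_dvd_of_le hCN)
      have h2 : p ∣ Nat.card (NN ra X E y) := hpg.trans (Nat.gcd_dvd_right _ _)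
      have h3 : p ∣ db := by
        by_contra h4
        exact hp.one_lt.ne' (Nat.eq_one_of_dvd_coprimes (T.NN_coprime B x h4) h1 dvd_rfl)
      have h4 : p ∣ da := by
        by_contra h5
        exact hp.one_lt.ne' (Nat.eq_one_of_dvd_coprimes (T.NN_coprime A y h5) h2 dvd_rfl)
      exact hp.one_lt.ne' (Nat.eq_one_of_dvd_coprimes hc h4 h3)
    have hCF : C ≤ centralizer (Ft (NN ra X E) y : Set G) := by
      intro f hf
      rw [mem_centralizer_iff]
      intro g hg
      exact ((hmem f).1 hf).2 y hy g hg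
    have hNF : ⁅NN ra X E y, C⁆ ≤ Ft (NN ra X E) y := by
      have h1 := Lib.BenderMaximal.inf_centralizer_fitting_le (T.NN_sol A y)
      refine le_trans (le_inf (Lib.CoprimeCommutator.commutator_le_left hCNy) ?_) h1
      rw [commutator_le]
      intro n hn c hcC
      rw [mem_centralizer_iff]
      intro g hg
      have hNn : NN ra X E y ≤ normalizer (Ft (NN ra X E) y : Set G) := (T.NN_fnc A).le y |>.trans (FA.norm y)
      have hg' : n⁻¹ * g * n ∈ Ft (NN ra X E) y := by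
        have := (mem_normalizer_iff.1 (hNn (inv_mem hn)) g).1 hg
        rwa [inv_inv] at this
      have hc1 : ∀ a ∈ Ft (NN ra X E) y, a * c = c * a := fun a ha => mem_centralizer_iff.1 (hCF hcC) a ha
      have hc2 := hc1 _ hg'
      have hc3 := hc1 g hg
      have hc4 : c⁻¹ * g = g * c⁻¹ := by
        rw [inv_mul_eq_iff_eq_mul, ← mul_assoc, ← hc3, mul_inv_cancel_right]
      rw [commutatorElement_def]
      calc g * (n * c * n⁻¹ * c⁻¹) = n * ((n⁻¹ * g * n) * c) * n⁻¹ * c⁻¹ := by group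
        _ = n * (c * (n⁻¹ * g * n)) * n⁻¹ * c⁻¹ := by rw [hc2]
        _ = n * c * n⁻¹ * (g * c⁻¹) := by group
        _ = n * c * n⁻¹ * (c⁻¹ * g) := by rw [hc4]
        _ = n * c * n⁻¹ * c⁻¹ * g := by group
    have hCc : C ≤ centralizer (NN ra X E y : Set G) :=
      Lib.CoprimeCommutator.le_centralizer_of_commutator_le C (NN ra X E y) (Ft (NN ra X E) y) hCNy hcop hNF hCF
    -- so `E(y) ≤ N(C) ≤ G_x`
    apply T.not_le A hyx
    intro e he
    apply hCP
    obtain ⟨n, hn, e₀, he₀, rfl⟩ := T.fac A hyx he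
    refine mul_mem ?_ (hCnorm (T.FE.le x he₀.2))
    have h1 : n ∈ centralizer (C : Set G) :=
      (Lib.BenderMaximal.le_centralizer_symm hCc) (le_NN hyx hn)
    exact centralizer_le_normalizer _ h1

/-- **Two `u'`-directions of coprime lengths are impossible** for a `u`-functor `X` and a solvable
`u'`-functor `E`, both nontrivial. -/
theorem NLData.false (T : NLData G u X E) {ra rb : Ω → Ω → Prop} {da db : ℕ} (A : NLDir u E ra da)
    (B : NLDir u E rb db) (hc : da.Coprime db) (x : Ω) : False :=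
  false_of_half (T.half A B hc) (T.half B A hc.symm) x (Ft_ne_bot (T.NN_sol B x) (T.NN_ne_bot B x))

end

/-! ### Solvable point stabilizers -/

end Cfsg.Agent.R2.T3544.NLMu
end

-- part: R2/T3544/Sol
section
/-!
# S3544 for soluble point stabilizers
-/

set_option autoImplicit false

namespace Cfsg.Agent.R2.T3544

open Subgroup MulAction Cfsg

universe u v

/-- for a prime there are two directions of valency prime to it -/
theorem exists_dir_prime' {d₁ d₂ d₃ : ℕ} (h12 : d₁.Coprime d₂) (h13 : d₁.Coprime d₃) (h23 : d₂.Coprime d₃)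
    {p : ℕ} (hp : p.Prime) :
    (¬ p ∣ d₁ ∧ ¬ p ∣ d₂) ∨ (¬ p ∣ d₁ ∧ ¬ p ∣ d₃) ∨ (¬ p ∣ d₂ ∧ ¬ p ∣ d₃) := by
  have key : ∀ {a b : ℕ}, a.Coprime b → p ∣ a → ¬ p ∣ b := fun hab h1 h2 =>
    hp.one_lt.ne' (Nat.eq_one_of_dvd_coprimes hab h1 h2)
  by_cases hp1 : p ∣ d₁
  · exact Or.inr (Or.inr ⟨key h12 hp1, key h13 hp1⟩)
  · by_cases hp2 : p ∣ d₂
    · exact Or.inr (Or.inl ⟨hp1, key h23 hp2⟩)
    · exact Or.inl ⟨hp1, hp2⟩

end Cfsg.Agent.R2.T3544
end

-- part: R2/T3544/NLu
section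
/-!
# S3544: `O_u(G_x) ≠ 1`, `O_{u'}(G_x) ≠ 1`, `G_x` `u`-constrained (helper1's 4177)
-/

set_option autoImplicit false

namespace Cfsg.Agent.R2.T3544

open Subgroup MulAction Cfsg
open Cfsg.Agent.Lib

universe u v

/-- `u`-constrained groups -/
def UCon (p : ℕ) (H : Type*) [Group H] : Prop :=
  centralizer (pCore p (H ⧸ pPrimeCore p H) : Set (H ⧸ pPrimeCore p H)) ≤ pCore p (H ⧸ pPrimeCore p H)

theorem UCon.of_equiv {p : ℕ} {H K : Type*} [Group H] [Group K] (e : H ≃* K) (h : UCon p H) : UCon p K := by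
  let f : H ⧸ pPrimeCore p H ≃* K ⧸ pPrimeCore p K :=
    QuotientGroup.congr (pPrimeCore p H) (pPrimeCore p K) e (Cores.map_equiv_pPrimeCore e p)
  have h1 := Cores.map_equiv_pCore f p
  intro k hk
  rw [mem_centralizer_iff] at hk
  rw [← h1]
  refine ⟨f.symm k, h ?_, f.apply_symm_apply k⟩
  rw [mem_centralizer_iff]
  intro a ha
  apply f.injective
  rw [map_mul, map_mul, f.apply_symm_apply]
  apply hk
  rw [← h1]
  exact ⟨a, ha, rfl⟩

/-- the functor `O_p(G_x)` -/
theorem pCore_fun (G : Type u) [Group G] (Ω : Type v) [MulAction G Ω] (p : ℕ) :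
    Fun G (fun x : Ω => (pCore p (stabilizer G x)).map (stabilizer G x).subtype) :=
  Fun.of_iso (fun K _ => pCore p K) (fun _ _ _ _ e => (Cores.map_equiv_pCore e p).le)

/-- the functor `O_{p'}(G_x)` -/
theorem pPrimeCore_fun (G : Type u) [Group G] (Ω : Type v) [MulAction G Ω] (p : ℕ) :
    Fun G (fun x : Ω => (pPrimeCore p (stabilizer G x)).map (stabilizer G x).subtype) :=
  Fun.of_iso (fun K _ => pPrimeCore p K) (fun _ _ _ _ e => (Cores.map_equiv_pPrimeCore e p).le)

/-- all point stabilizers are isomorphic -/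
theorem PP.equiv {G : Type u} [Group G] {Ω : Type v} [MulAction G Ω] (P : PP G Ω) (x y : Ω) :
    Nonempty (stabilizer G x ≃* stabilizer G y) := by
  obtain ⟨g, rfl⟩ := P.trans x y
  exact ⟨((stabilizer G x).equivMapOfInjective (MulAut.conj g).toMonoidHom (MulAut.conj g).injective).trans
    (MulEquiv.subgroupCongr (stab_smul (G := G) g x).symm)⟩

end Cfsg.Agent.R2.T3544
end

-- part: R2/T3544/UDef
section
/-!
# S3544, case NL with components: names for `O_{p'}(A)`, `O_p(A)`, `p`-components of subgroups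
-/

set_option autoImplicit false

namespace Cfsg.Agent.R2.T3544

open Subgroup Cfsg

variable {G : Type*} [Group G]

/-- `O_{p'}(A)` of a subgroup, in the ambient group -/
def OA (p : ℕ) (A : Subgroup G) : Subgroup G := (pPrimeCore p A).map A.subtype

/-- `O_p(A)` of a subgroup, in the ambient group -/
def OP (p : ℕ) (A : Subgroup G) : Subgroup G := (pCore p A).map A.subtype

/-- `K` is a `p`-component of the subgroup `A` -/
abbrev UC (p : ℕ) (K A : Subgroup G) : Prop := IsPComponentOf p K A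

end Cfsg.Agent.R2.T3544
end

-- part: R2/T3544/UComp
section
/-!
# S3544: `p`-components of subgroups, in the ambient group
-/

set_option autoImplicit false
set_option linter.unusedSectionVars false

namespace Cfsg.Agent.R2.T3544

open Subgroup Cfsg
open scoped commutatorElement
open Cfsg.Agent.Lib Cfsg.Agent.Lib.PComponents
open Cfsg.Agent.SignalizersComponents

variable {G : Type*} [Group G]

/-! ### `O_{p'}` and `O^{p'}` -/

theorem OA_le (p : ℕ) (A : Subgroup G) : OA p A ≤ A := map_subtype_le _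

theorem OA_norm (p : ℕ) (A : Subgroup G) : A ≤ normalizer (OA p A : Set G) :=
  LocalCore.le_normalizer_map_pPrimeCore p A

theorem OA_coprime [Finite G] (p : ℕ) (A : Subgroup G) : (Nat.card (OA p A)).Coprime p :=
  LocalCore.card_map_pPrimeCore_coprime p A

theorem OA_subgroupOf (p : ℕ) (A : Subgroup G) : (OA p A).subgroupOf A = pPrimeCore p A := by
  rw [OA, subgroupOf, comap_map_eq_self_of_injective A.subtype_injective]

theorem map_pElem {H : Type*} [Group H] (p : ℕ) (f : G →* H) (hf : Function.Injective f) (Y : Subgroup G) :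
    (pElem p Y).map f = pElem p (Y.map f) := by
  rw [pElem, pElem, MonoidHom.map_closure]
  congr 1
  ext x
  constructor
  · rintro ⟨y, ⟨hy, n, hn⟩, rfl⟩
    exact ⟨⟨y, hy, rfl⟩, n, by rw [← map_pow, hn, map_one]⟩
  · rintro ⟨⟨y, hy, rfl⟩, n, hn⟩
    exact ⟨y, ⟨hy, n, hf (by rw [map_pow, hn, map_one])⟩, rfl⟩

theorem pElem_subgroupOf (p : ℕ) {K A : Subgroup G} (h : K ≤ A) :
    pElem p (K.subgroupOf A) = (pElem p K).subgroupOf A := by
  apply map_injective A.subtype_injective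
  rw [map_pElem p A.subtype A.subtype_injective, map_subgroupOf_eq_of_le h,
    map_subgroupOf_eq_of_le ((pElem_le K).trans h)]

theorem pElem_pElem (p : ℕ) (Y : Subgroup G) : pElem p (pElem p Y) = pElem p Y := by
  apply le_antisymm (pElem_le _)
  refine (closure_le _).mpr ?_
  rintro y ⟨hy, n, hn⟩
  exact mem_pElem (mem_pElem hy hn) hn

/-- a subnormal subgroup of `Y` of index prime to `p` contains `O^{p'}(Y)` -/
theorem SubnIn.pElem_le_of_coprime {K Y : Subgroup G} {p : ℕ} (hK : SubnIn K Y)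
    (hidx : (K.relIndex Y).Coprime p) : pElem p Y ≤ K :=
  pElem_le_of_isSubnormal hK.2 hidx

theorem SubnIn.pElem (p : ℕ) (Y : Subgroup G) : SubnIn (pElem p Y) Y :=
  ⟨pElem_le Y, (pElem_normal_subgroupOf Y).isSubnormal⟩

/-- for `K` subnormal in `A`, `O_{p'}(K) = K ∩ O_{p'}(A)` -/
theorem OA_of_subn [Finite G] {p : ℕ} {K A : Subgroup G} (h : SubnIn K A) : OA p K = K ⊓ OA p A := by
  have h1 := PCompQuot.map_subtype_pPrimeCore_subnormal p h.2
  have h2 := Cores.map_equiv_pPrimeCore (subgroupOfEquivOfLe h.1) p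
  have h3 : (pPrimeCore p (K.subgroupOf A)).map ((K.subgroupOf A).subtype) = K.subgroupOf A ⊓ pPrimeCore p A := h1
  have h4 := congrArg (Subgroup.map A.subtype) h3
  rw [Subgroup.map_inf _ _ _ A.subtype_injective, map_subgroupOf_eq_of_le h.1] at h4
  change _ = K ⊓ OA p A at h4
  rw [← h4, OA, ← h2, map_map, map_map]
  congr 1

/-! ### `p`-components -/

section

variable [Finite G] {p : ℕ} [hp : Fact p.Prime] {K L N A B : Subgroup G}

theorem quasi_congr_of_le (h : K ≤ A) :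
    IsQuasisimple (K ⧸ pPrimeCore p K) ↔
      IsQuasisimple ((K.subgroupOf A) ⧸ pPrimeCore p (K.subgroupOf A)) := by
  let e : (K.subgroupOf A) ≃* K := subgroupOfEquivOfLe h
  let f := QuotientGroup.congr (pPrimeCore p (K.subgroupOf A)) (pPrimeCore p K) e (Cores.map_equiv_pPrimeCore e p)
  exact ⟨PCompQuot.quasisimple_congr f.symm, PCompQuot.quasisimple_congr f⟩

/-- constructor from the intrinsic properties -/
theorem UC.of_intrinsic (h1 : SubnIn K A) (h2 : pElem p K = K) (h3 : IsQuasisimple (K ⧸ pPrimeCore p K)) :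
    UC p K A := by
  have h4 : pElem p (K.subgroupOf A) = K.subgroupOf A := by rw [pElem_subgroupOf p h1.1, h2]
  refine ⟨h1.1, h1.2, ⟨?_, ?_⟩, ?_⟩
  · exact h1.2.map (QuotientGroup.mk'_surjective _)
  · obtain ⟨e, _⟩ := PCompQuot.exists_quotient_equiv p h1.2
    exact PCompQuot.quasisimple_congr e ((quasi_congr_of_le h1.1).1 h3)
  · intro H hH hle hmap
    refine le_antisymm hle ?_
    rw [← h4]
    refine le_trans (pElem_mono ?_) (pElem_comap_le hH hmap)
    exact le_comap_map _ _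

theorem UC.subn (h : UC p K A) : SubnIn K A := ⟨h.1, h.2.1⟩

/-- a `p`-component is generated by its `p`-elements -/
theorem UC.gen (h : UC p K A) : pElem p K = K := by
  have h3 := pElem_pcomp h.2
  rw [pElem_subgroupOf p h.1] at h3
  have h4 := congrArg (Subgroup.map A.subtype) h3
  rwa [map_subgroupOf_eq_of_le h.1, map_subgroupOf_eq_of_le ((pElem_le K).trans h.1)] at h4

theorem UC.qs (h : UC p K A) : IsQuasisimple (K ⧸ pPrimeCore p K) :=
  (quasi_congr_of_le h.1).2 (PCompQuot.quasisimple_quotient h.2)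

theorem UC.le (h : UC p K A) : K ≤ A := h.subn.1

theorem UC.mono_sub (h : UC p K A) (h1 : K ≤ B) (h2 : B ≤ A) : UC p K B :=
  UC.of_intrinsic (h.subn.mono h1 h2) h.gen h.qs

theorem UC.perfect (h : UC p K A) : ⁅K, K⁆ = K := by
  have h1 := pcomp_perfect h.2
  have h2 := congrArg (Subgroup.map A.subtype) h1
  rwa [map_commutator, map_subgroupOf_eq_of_le h.le] at h2

theorem UC.dvd_card (h : UC p K A) : p ∣ Nat.card K := by
  have h1 := prime_dvd_card_pcomp h.2
  rwa [Nat.card_congr (subgroupOfEquivOfLe h.le).toEquiv] at h1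

theorem UC.ne_bot (h : UC p K A) : K ≠ ⊥ := by
  rintro rfl
  have h1 := h.dvd_card
  rw [card_bot] at h1
  exact hp.out.one_lt.ne' (Nat.dvd_one.1 h1)

theorem UC.conj (h : UC p K A) (g : G) :
    UC p (K.map (MulAut.conj g).toMonoidHom) (A.map (MulAut.conj g).toMonoidHom) := by
  refine UC.of_intrinsic (h.subn.conj g) ?_ ?_
  · rw [← map_pElem p _ (MulAut.conj g).injective, h.gen]
  · let e : K ≃* K.map (MulAut.conj g).toMonoidHom :=
      K.equivMapOfInjective (MulAut.conj g).toMonoidHom (MulAut.conj g).injective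
    let f := QuotientGroup.congr (pPrimeCore p K) (pPrimeCore p (K.map (MulAut.conj g).toMonoidHom)) e
      (Cores.map_equiv_pPrimeCore e p)
    exact PCompQuot.quasisimple_congr f h.qs

/-- a `p`-component inside `N O_{p'}(A)`, `N` subnormal in `A`, lies in `N` -/
theorem UC.le_of_sup (h : UC p K A) (hN : SubnIn N A) (hle : K ≤ N ⊔ OA p A) : K ≤ N := by
  have hn : SubnIn (K ⊓ N) K := by
    have h1 := hN.inf K
    rw [inf_comm N K, inf_eq_right.2 h.le] at h1
    exact h1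
  have hc : ((K ⊓ N).relIndex K).Coprime p := by
    rw [inf_relIndex_left]
    have h1 : SubnIn K (N ⊔ OA p A) := h.subn.mono hle (sup_le hN.1 (OA_le p A))
    have h2 := h1.relIndex_dvd N
    refine Nat.Coprime.coprime_dvd_left h2 ?_
    refine Nat.Coprime.coprime_dvd_left ?_ (OA_coprime p A)
    have h3 := relIndex_sup_dvd_card (N.subgroupOf A) (pPrimeCore p A)
    have h4 : (N.subgroupOf A) ⊔ pPrimeCore p A = (N ⊔ OA p A).subgroupOf A := by
      rw [← OA_subgroupOf, subgroupOf_sup hN.1 (OA_le p A)]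
    rw [h4, relIndex_subgroupOf (sup_le hN.1 (OA_le p A))] at h3
    rwa [OA, Nat.card_congr ((pPrimeCore p A).equivMapOfInjective _ A.subtype_injective).symm.toEquiv]
  have h5 := hn.pElem_le_of_coprime hc
  rw [h.gen] at h5
  exact h5.trans inf_le_right

theorem comm_le_OA_iff {H J : Subgroup G} (hH : H ≤ A) (hJ : J ≤ A) :
    ⁅H, J⁆ ≤ OA p A ↔ ⁅H.subgroupOf A, J.subgroupOf A⁆ ≤ pPrimeCore p A := by
  rw [← map_subtype_le_map_subtype, map_commutator, map_subgroupOf_eq_of_le hH, map_subgroupOf_eq_of_le hJ]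
  rfl

theorem UC.le_or_comm (h : UC p K A) (hN : SubnIn N A) : K ≤ N ∨ ⁅K, N⁆ ≤ OA p A := by
  have h1 := h.2
  rcases Components.component_le_or_commutator_eq_bot h1.2.1
    (hN.2.map (QuotientGroup.mk'_surjective (pPrimeCore p A))) with h2 | h2
  · left
    apply h.le_of_sup hN
    have h3 : K.subgroupOf A ≤ N.subgroupOf A ⊔ pPrimeCore p A := by
      rw [← QuotientGroup.ker_mk' (pPrimeCore p A), ← Subgroup.comap_map_eq]
      exact Subgroup.map_le_iff_le_comap.mp h2
    have h4 := Subgroup.map_mono (f := A.subtype) h3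
    rwa [Subgroup.map_sup, map_subgroupOf_eq_of_le h.le, map_subgroupOf_eq_of_le hN.1] at h4
  · right
    rw [comm_le_OA_iff h.le hN.1]
    rwa [← Subgroup.map_commutator, Subgroup.map_eq_bot_iff, QuotientGroup.ker_mk'] at h2

theorem UC.not_le_OA (h : UC p K A) : ¬ K ≤ OA p A := by
  intro h1
  have h2 := (OA_coprime p A)
  have h3 : p ∣ Nat.card (OA p A) := h.dvd_card.trans (card_dvd_of_le h1)
  exact (Nat.Prime.coprime_iff_not_dvd hp.out).1 h2.symm h3

theorem UC.not_comm (h : UC p K A) : ¬ ⁅K, K⁆ ≤ OA p A := by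
  rw [h.perfect]
  exact h.not_le_OA

theorem UC.eq_or_comm (h : UC p K A) (h' : UC p L A) : K = L ∨ ⁅K, L⁆ ≤ OA p A := by
  rcases h.le_or_comm h'.subn with h1 | h1
  · rcases h'.le_or_comm h.subn with h2 | h2
    · exact Or.inl (le_antisymm h1 h2)
    · right
      rwa [commutator_comm]
  · exact Or.inr h1

/-- an element normalising `K` modulo `O_{p'}(A)` normalises `K` -/
theorem UC.norm_of_sup (h : UC p K A) : normalizer ((K ⊔ OA p A : Subgroup G) : Set G) ⊓ A ≤ normalizer (K : Set G) := by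
  rintro g ⟨hg, hgA⟩
  have h1 := normalizer_le_normalizer_pElem (p := p) _ hg
  have h2 : pElem p (K ⊔ OA p A) = K := by
    apply le_antisymm
    · refine SubnIn.pElem_le_of_coprime (h.subn.mono le_sup_left (sup_le h.le (OA_le p A))) ?_
      refine Nat.Coprime.coprime_dvd_left ?_ (OA_coprime p A)
      have h3 := relIndex_sup_dvd_card (K.subgroupOf A) (pPrimeCore p A)
      have h4 : (K.subgroupOf A) ⊔ pPrimeCore p A = (K ⊔ OA p A).subgroupOf A := by
        rw [← OA_subgroupOf, subgroupOf_sup h.le (OA_le p A)]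
      rw [h4, relIndex_subgroupOf (sup_le h.le (OA_le p A))] at h3
      rwa [OA, Nat.card_congr ((pPrimeCore p A).equivMapOfInjective _ A.subtype_injective).symm.toEquiv]
    · calc K = pElem p K := h.gen.symm
        _ ≤ pElem p (K ⊔ OA p A) := pElem_mono le_sup_left
  rwa [h2] at h1

/-- `[K, X] ≤ O_{p'}(A)`: `X` normalises `K` -/
theorem UC.norm_of_comm (h : UC p K A) {X : Subgroup G} (hX : X ≤ A) (hc : ⁅K, X⁆ ≤ OA p A) :
    X ≤ normalizer (K : Set G) := by
  refine le_trans (le_inf ?_ hX) h.norm_of_sup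
  rw [le_normalizer_iff_commutator_le_left]
  rw [commutator_comm]
  have h1 : ⁅X, K ⊔ OA p A⁆ ≤ OA p A := by
    rw [commutator_comm]
    have : OA p A ⊔ K = K ⊔ OA p A := sup_comm _ _
    rw [commutator_le]
    intro g hg x hx
    have hKn : K ≤ normalizer (OA p A : Set G) := h.le.trans (OA_norm p A)
    rw [← this, ← SetLike.mem_coe, coe_mul_of_right_le_normalizer_left _ _ hKn] at hg
    obtain ⟨o, ho, k, hk, rfl⟩ := hg
    have e : ⁅o * k, x⁆ = o * ⁅k, x⁆ * o⁻¹ * (o * (x * o⁻¹ * x⁻¹)) := by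
      simp only [commutatorElement_def]; group
    show ⁅o * k, x⁆ ∈ OA p A
    rw [e]
    refine mul_mem ?_ ?_
    · exact mul_mem (mul_mem ho (hc (commutator_mem_commutator hk hx))) (inv_mem ho)
    · refine mul_mem ho ?_
      exact (mem_normalizer_iff.1 (OA_norm p A (hX hx)) _).1 (inv_mem ho)
  exact h1.trans le_sup_right

end

end Cfsg.Agent.R2.T3544
end

private theorem dce_f93b003f2f8b : _root_.True := by
  try have : _root_.True := by simp only [_root_.Cfsg.Agent.R2.T3544.OA.eq_1]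
  try have : _root_.True := by simp only [_root_.Cfsg.Agent.R2.T3544.NLMu.NN.eq_1]
  try have : _root_.True := by simp only [_root_.Cfsg.Agent.Lib.PComponents.pElem.eq_1]
  try have : _root_.True := by simp only [_root_.Cfsg.Agent.R2.T3544.NLMu.Ft.eq_1]
  exact _root_.True.intro
end

-- part: R2/T3544/NLVdef_mg
section
prune_inst 0xc5206244094002000018059251003c46ce000192016b0c01dd200f460686ff222d032f61cda01c13183aab4c00340048104400f00010000000000c00091805a188aa52023340a10426009f803087180c00000000000000000000000000041004200000000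
set_option linter.all false
open scoped Cfsg.Agent.FastGrp

-- part: R2/T3544/ULow
section
/-!
# S3544: `p`-components and coprime local subgroups
-/

set_option autoImplicit false
set_option linter.unusedSectionVars false

namespace Cfsg.Agent.R2.T3544

open Subgroup Cfsg
open scoped commutatorElement
open Cfsg.Agent.Lib Cfsg.Agent.Lib.PComponents
open Cfsg.Agent.SignalizersComponents

variable {G : Type*} [Group G]

/-- a `p`-group meets a `p'`-group trivially -/
theorem inf_eq_bot_of_pgroup_coprime [Finite G] {p : ℕ} {X O : Subgroup G} (hX : IsPGroup p X)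
    (hO : (Nat.card O).Coprime p) : X ⊓ O = ⊥ := by
  rw [← card_eq_one]
  by_cases hp : p.Prime
  · have : Fact p.Prime := ⟨hp⟩
    obtain ⟨n, hn⟩ := (IsPGroup.iff_card (p := p)).1 (hX.to_le (inf_le_left : X ⊓ O ≤ X))
    have h1 : Nat.card (X ⊓ O : Subgroup G) ∣ Nat.card O := card_dvd_of_le inf_le_right
    have h2 : (Nat.card (X ⊓ O : Subgroup G)).Coprime (p ^ n) :=
      (Nat.Coprime.coprime_dvd_left h1 hO).pow_right n
    rw [← hn] at h2
    exact (Nat.coprime_self _).1 h2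
  · rw [card_eq_one, eq_bot_iff]
    intro x hx
    obtain ⟨k, hk⟩ := hX ⟨x, hx.1⟩
    have hk' : x ^ p ^ k = 1 := by simpa only [_root_.SubmonoidClass.mk_pow, _root_.OneMemClass.coe_one] using congrArg Subtype.val hk
    have h1 : orderOf x ∣ p ^ k := orderOf_dvd_of_pow_eq_one hk'
    have h2 : orderOf x ∣ Nat.card O := by
      have := _root_.orderOf_dvd_natCard (⟨x, hx.2⟩ : O)
      rwa [Subgroup.orderOf_mk] at this
    have h3 : Nat.Coprime (Nat.card O) (p ^ k) := hO.pow_right k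
    have h4 : orderOf x ∣ 1 := by rw [← h3]; exact Nat.dvd_gcd h2 h1
    exact mem_bot.2 (orderOf_eq_one_iff.1 (Nat.dvd_one.1 h4))

theorem relIndex_sup_dvd_card' [Finite G] {X O : Subgroup G} (h : X ≤ normalizer (O : Set G)) :
    X.relIndex (X ⊔ O) ∣ Nat.card O := by
  have hn : (O.subgroupOf (X ⊔ O)).Normal :=
    (normal_subgroupOf_iff_le_normalizer le_sup_right).2 (sup_le h le_normalizer)
  have h1 := relIndex_sup_dvd_card (X.subgroupOf (X ⊔ O)) (O.subgroupOf (X ⊔ O))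
  rw [← subgroupOf_sup le_sup_left le_sup_right, relIndex_subgroupOf (le_refl _),
    Nat.card_congr (subgroupOfEquivOfLe (le_sup_right : O ≤ X ⊔ O)).toEquiv] at h1
  exact h1

theorem relIndex_sup_right_of_norm {Y N : Subgroup G} (h : Y ≤ normalizer (N : Set G)) :
    N.relIndex (Y ⊔ N) = N.relIndex Y := by
  have hn : (N.subgroupOf (Y ⊔ N)).Normal :=
    (normal_subgroupOf_iff_le_normalizer le_sup_right).2 (sup_le h le_normalizer)
  have h1 := relIndex_sup_right (K := N.subgroupOf (Y ⊔ N)) (H := Y.subgroupOf (Y ⊔ N))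
  rw [← subgroupOf_sup le_sup_left le_sup_right, relIndex_subgroupOf (le_refl _),
    relIndex_subgroupOf le_sup_left] at h1
  exact h1

/-- Sylow in `X O`, elementwise: `g` normalises `X O` → some `o⁻¹ g` normalises `X` -/
theorem exists_mul_mem_normalizer [Finite G] {p : ℕ} [hp : Fact p.Prime] {X O : Subgroup G}
    (hX : IsPGroup p X) (hO : (Nat.card O).Coprime p) (hXO : X ≤ normalizer (O : Set G)) {g : G}
    (hg : X.map (MulAut.conj g).toMonoidHom ≤ X ⊔ O) : ∃ o ∈ O, o⁻¹ * g ∈ normalizer (X : Set G) := by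
  have hcard : Nat.card (X.map (MulAut.conj g).toMonoidHom) = Nat.card X :=
    (Nat.card_congr (X.equivMapOfInjective (MulAut.conj g).toMonoidHom (MulAut.conj g).injective).toEquiv).symm
  have hidx : ¬ p ∣ (X.subgroupOf (X ⊔ O)).index := by
    intro h
    have h1 := h.trans (relIndex_sup_dvd_card' hXO)
    exact (Nat.Prime.coprime_iff_not_dvd hp.out).1 hO.symm h1
  have hidx' : ¬ p ∣ ((X.map (MulAut.conj g).toMonoidHom).subgroupOf (X ⊔ O)).index := by
    have h1 : ((X.map (MulAut.conj g).toMonoidHom).subgroupOf (X ⊔ O)).index = (X.subgroupOf (X ⊔ O)).index := by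
      have h2 := card_mul_index ((X.map (MulAut.conj g).toMonoidHom).subgroupOf (X ⊔ O))
      have h3 := card_mul_index (X.subgroupOf (X ⊔ O))
      rw [Nat.card_congr (subgroupOfEquivOfLe hg).toEquiv, hcard] at h2
      rw [Nat.card_congr (subgroupOfEquivOfLe (le_sup_left : X ≤ X ⊔ O)).toEquiv] at h3
      exact Nat.eq_of_mul_eq_mul_left Nat.card_pos (h2.trans h3.symm)
    rwa [h1]
  have hXp : IsPGroup p (X.subgroupOf (X ⊔ O)) :=
    hX.of_equiv (subgroupOfEquivOfLe (le_sup_left : X ≤ X ⊔ O)).symm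
  have hYp : IsPGroup p ((X.map (MulAut.conj g).toMonoidHom).subgroupOf (X ⊔ O)) :=
    (hX.map _).of_equiv (subgroupOfEquivOfLe hg).symm
  let P : Sylow p (X ⊔ O : Subgroup G) := hXp.toSylow hidx
  let Q : Sylow p (X ⊔ O : Subgroup G) := hYp.toSylow hidx'
  obtain ⟨s, hs⟩ := MulAction.exists_smul_eq (X ⊔ O : Subgroup G) P Q
  have h4 : X.map (MulAut.conj (s : G)).toMonoidHom ≤ X.map (MulAut.conj g).toMonoidHom := by
    rintro _ ⟨x, hx, rfl⟩
    have h5 : (⟨x, le_sup_left (a := X) (b := O) hx⟩ : (X ⊔ O : Subgroup G)) ∈ P := hx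
    have h6 : s * ⟨x, le_sup_left (a := X) (b := O) hx⟩ * s⁻¹ ∈ (s • P : Sylow p (X ⊔ O : Subgroup G)) := by
      have := Subgroup.smul_mem_pointwise_smul _ (MulAut.conj s) (P : Subgroup (X ⊔ O : Subgroup G)) h5
      exact this
    rw [hs] at h6
    exact h6
  have h5 : X.map (MulAut.conj (s : G)).toMonoidHom = X.map (MulAut.conj g).toMonoidHom := by
    refine eq_of_le_of_card_ge h4 ?_
    rw [hcard]
    exact (Nat.card_congr (X.equivMapOfInjective (MulAut.conj (s : G)).toMonoidHom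
      (MulAut.conj (s : G)).injective).toEquiv).le
  have hs2 : (s : G) ∈ ((O ⊔ X : Subgroup G) : Set G) := by
    rw [sup_comm]; exact s.2
  rw [coe_mul_of_right_le_normalizer_left _ _ hXO] at hs2
  obtain ⟨o, ho, x, hx, hox⟩ := hs2
  refine ⟨o, ho, ?_⟩
  have hX' : X.map (MulAut.conj x).toMonoidHom = X := by
    have h7 : x ∈ normalizer (X : Set G) := le_normalizer hx
    refine eq_of_le_of_card_ge ?_ ?_
    · rintro _ ⟨y, hy, rfl⟩
      exact (mem_normalizer_iff.1 h7 y).1 hy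
    · exact (Nat.card_congr (X.equivMapOfInjective (MulAut.conj x).toMonoidHom
        (MulAut.conj x).injective).toEquiv).le
  have h8 : X.map (MulAut.conj o).toMonoidHom = X.map (MulAut.conj g).toMonoidHom := by
    rw [← h5, ← hox]
    have : (MulAut.conj (o * x)).toMonoidHom = (MulAut.conj o).toMonoidHom.comp (MulAut.conj x).toMonoidHom := by
      ext y; simp [mul_assoc]
    rw [this, ← map_map, hX']
  rw [mem_normalizer_iff]
  intro y
  have h9 : g * y * g⁻¹ ∈ X.map (MulAut.conj g).toMonoidHom ↔ y ∈ X := by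
    constructor
    · rintro ⟨z, hz, hzy⟩
      have hzy' : g * z * g⁻¹ = g * y * g⁻¹ := hzy
      have : z = y := by simpa only [_root_.mul_left_inj, _root_.mul_right_inj] using hzy'
      rwa [← this]
    · intro hy
      exact ⟨y, hy, rfl⟩
  have h10 : ∀ w, w ∈ X.map (MulAut.conj o).toMonoidHom ↔ o⁻¹ * w * o ∈ X := by
    intro w
    constructor
    · rintro ⟨z, hz, rfl⟩
      have : o⁻¹ * ((MulAut.conj o).toMonoidHom z) * o = z := by
        show o⁻¹ * (o * z * o⁻¹) * o = z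
        group
      rwa [this]
    · intro hw
      exact ⟨_, hw, by show o * (o⁻¹ * w * o) * o⁻¹ = w; group⟩
  rw [← h9, ← h8, h10]
  have e : o⁻¹ * (g * y * g⁻¹) * o = o⁻¹ * g * y * (o⁻¹ * g)⁻¹ := by group
  rw [e]

/-- coprime Frattini argument: if `[M, X] ≤ O`, `X` a `p`-group, `O` a `p'`-group, then `M ≤ N(X) O` -/
theorem le_sup_of_comm_coprime [Finite G] {p : ℕ} [hp : Fact p.Prime] {X O M : Subgroup G}
    (hX : IsPGroup p X) (hO : (Nat.card O).Coprime p) (hXO : X ≤ normalizer (O : Set G))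
    (hc : ⁅M, X⁆ ≤ O) : M ≤ ((M ⊔ O) ⊓ normalizer (X : Set G)) ⊔ O := by
  intro g hg
  have h1 : X.map (MulAut.conj g).toMonoidHom ≤ X ⊔ O := by
    rintro _ ⟨x, hx, rfl⟩
    have e : (MulAut.conj g).toMonoidHom x = ⁅g, x⁆ * x := by
      show g * x * g⁻¹ = ⁅g, x⁆ * x
      rw [commutatorElement_def]; group
    rw [e]
    exact mul_mem (mem_sup_right (hc (commutator_mem_commutator hg hx))) (mem_sup_left hx)
  obtain ⟨o, ho, hn⟩ := exists_mul_mem_normalizer hX hO hXO h1
  have e : g = o * (o⁻¹ * g) := by group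
  rw [e]
  refine mul_mem (mem_sup_right ho) (mem_sup_left ⟨?_, hn⟩)
  exact mul_mem (mem_sup_right (inv_mem ho)) (mem_sup_left hg)

theorem SubnIn.sup_OA [Finite G] {p : ℕ} {K A : Subgroup G} (h : SubnIn K A) : SubnIn (K ⊔ OA p A) A := by
  refine ⟨sup_le h.1 (OA_le p A), ?_⟩
  have h1 := (h.2.map (QuotientGroup.mk'_surjective (pPrimeCore p A))).comap
    (QuotientGroup.mk' (pPrimeCore p A))
  rwa [Subgroup.comap_map_eq, QuotientGroup.ker_mk', ← OA_subgroupOf,
    ← subgroupOf_sup h.1 (OA_le p A)] at h1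

section

variable [Finite G] {p : ℕ} [hp : Fact p.Prime] {K L N A B : Subgroup G}

/-- if `L ≤ K ≤ L O_{p'}(K)` then `L/O_{p'}(L) ≅ K/O_{p'}(K)` -/
theorem exists_quot_equiv (h1 : L ≤ K) (h2 : K ≤ L ⊔ OA p K) :
    Nonempty ((L ⧸ pPrimeCore p L) ≃* (K ⧸ pPrimeCore p K)) := by
  let f : L →* (K ⧸ pPrimeCore p K) := (QuotientGroup.mk' (pPrimeCore p K)).comp (Subgroup.inclusion h1)
  have hf : Function.Surjective f := by
    intro q
    obtain ⟨k, rfl⟩ := QuotientGroup.mk'_surjective _ q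
    have h3 : (k : G) ∈ ((L ⊔ OA p K : Subgroup G) : Set G) := h2 k.2
    rw [coe_mul_of_left_le_normalizer_right _ _ (h1.trans (OA_norm p K))] at h3
    obtain ⟨l, hl, o, ho, hlo⟩ := h3
    refine ⟨⟨l, hl⟩, ?_⟩
    show (QuotientGroup.mk' (pPrimeCore p K)) (Subgroup.inclusion h1 ⟨l, hl⟩) = _
    have ho' : (⟨o, OA_le p K ho⟩ : K) ∈ pPrimeCore p K := by
      rw [← OA_subgroupOf]; exact ho
    have e : k = Subgroup.inclusion h1 ⟨l, hl⟩ * ⟨o, OA_le p K ho⟩ := Subtype.ext hlo.symm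
    have h5 : (QuotientGroup.mk' (pPrimeCore p K)) ⟨o, OA_le p K ho⟩ = 1 :=
      (QuotientGroup.eq_one_iff _).2 ho'
    rw [e, map_mul, h5, mul_one]
  have hker : f.ker = pPrimeCore p L := by
    apply le_antisymm
    · refine Cores.le_pPrimeCore inferInstance ?_
      have h3 : (f.ker.map L.subtype) ≤ OA p K := by
        rintro _ ⟨l, hl, rfl⟩
        have h4 : Subgroup.inclusion h1 l ∈ pPrimeCore p K := by
          rw [← QuotientGroup.eq_one_iff]
          exact hl
        rw [← OA_subgroupOf] at h4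
        exact h4
      have h4 : Nat.card f.ker = Nat.card (f.ker.map L.subtype) :=
        Nat.card_congr (f.ker.equivMapOfInjective _ L.subtype_injective).toEquiv
      rw [h4]
      exact Nat.Coprime.coprime_dvd_left (card_dvd_of_le h3) (OA_coprime p K)
    · have h3 : (pPrimeCore p L).map f ≤ pPrimeCore p (K ⧸ pPrimeCore p K) := by
        refine Cores.le_pPrimeCore ?_ ?_
        · exact (inferInstance : (pPrimeCore p L).Normal).map f hf
        · exact Nat.Coprime.coprime_dvd_left (card_map_dvd _ _) (Cores.pPrimeCore_coprime p)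
      rw [pPrimeCore_quotient_eq_bot, le_bot_iff, Subgroup.map_eq_bot_iff] at h3
      exact h3
  refine ⟨(QuotientGroup.quotientMulEquivOfEq hker.symm).trans
    (QuotientGroup.quotientKerEquivOfSurjective f hf)⟩

theorem UC.pElem_sup (h : UC p K A) : pElem p (K ⊔ OA p A) = K := by
  apply le_antisymm
  · refine SubnIn.pElem_le_of_coprime (h.subn.mono le_sup_left (sup_le h.le (OA_le p A))) ?_
    exact Nat.Coprime.coprime_dvd_left (relIndex_sup_dvd_card' (h.le.trans (OA_norm p A))) (OA_coprime p A)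
  · calc K = pElem p K := h.gen.symm
      _ ≤ pElem p (K ⊔ OA p A) := pElem_mono le_sup_left

/-- `O^{p'}(Y)` has index prime to `p` -/
theorem relIndex_pElem_coprime (Y : Subgroup G) : ((pElem p Y).relIndex Y).Coprime p := by
  rw [Nat.coprime_comm, Nat.Prime.coprime_iff_not_dvd hp.out]
  intro h
  have h1 : ((pElem p Y).subgroupOf Y).Normal := pElem_normal_subgroupOf Y
  have h2 : p ∣ Nat.card (Y ⧸ (pElem p Y).subgroupOf Y) := h
  obtain ⟨q, hq⟩ := exists_prime_orderOf_dvd_card' p h2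
  obtain ⟨y, rfl⟩ := QuotientGroup.mk'_surjective _ q
  -- replace `y` by its `p`-part
  have hy : ∃ (n : ℕ) (m : ℕ), m.Coprime p ∧ (y ^ m) ^ p ^ n = 1 := by
    refine ⟨(orderOf y).factorization p, orderOf y / p ^ (orderOf y).factorization p, ?_, ?_⟩
    · exact (Nat.coprime_ordCompl hp.out (orderOf_pos y).ne').symm
    · rw [← pow_mul, mul_comm, Nat.ordProj_mul_ordCompl_eq_self, pow_orderOf_eq_one]
  obtain ⟨n, m, hm, hy⟩ := hy
  have h3 : y ^ m ∈ (pElem p Y).subgroupOf Y := by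
    have : ((y ^ m : Y) : G) ^ p ^ n = 1 := by
      have := congrArg Subtype.val hy
      simpa only [_root_.SubmonoidClass.coe_pow, _root_.OneMemClass.coe_one] using this
    exact mem_pElem (y ^ m).2 this
  have h4 : (QuotientGroup.mk' ((pElem p Y).subgroupOf Y) y) ^ m = 1 := by
    rw [← map_pow]
    exact (QuotientGroup.eq_one_iff _).2 h3
  have h5 : p ∣ m := by
    rw [← hq]
    exact orderOf_dvd_of_pow_eq_one h4
  exact (Nat.Prime.coprime_iff_not_dvd hp.out).1 hm.symm h5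

/-- the part of a `p`-component in a subgroup which covers it modulo `O_{p'}(A)` -/
theorem UC.exists_low_of_cover (h : UC p K A) (hBA : B ≤ A) (hc : K ≤ B ⊔ OA p A) :
    ∃ K₀ : Subgroup G, UC p K₀ B ∧ K₀ ≤ K ∧ K ≤ K₀ ⊔ (K ⊓ OA p A) ∧ K₀ = pElem p ((K ⊔ OA p A) ⊓ B) := by
  set O := OA p A with hO
  set M := K ⊔ O with hM
  set Y := M ⊓ B with hY
  have hOn : A ≤ normalizer (O : Set G) := OA_norm p A
  have hMA : SubnIn M A := h.subn.sup_OA
  have hYB : SubnIn Y B := by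
    have h1 := hMA.inf B
    rwa [inf_eq_right.2 hBA] at h1
  have hMY : M ≤ Y ⊔ O := by
    intro g hg
    have h1 : g ∈ ((B ⊔ O : Subgroup G) : Set G) := (sup_le hc le_sup_right : M ≤ B ⊔ O) hg
    rw [coe_mul_of_left_le_normalizer_right _ _ (hBA.trans hOn)] at h1
    obtain ⟨b, hb, o, ho, rfl⟩ := h1
    refine mul_mem (mem_sup_left ⟨?_, hb⟩) (mem_sup_right ho)
    have : b = (b * o) * o⁻¹ := by group
    rw [this]
    exact mul_mem hg (mem_sup_right (inv_mem ho))
  set K₀ := pElem p Y with hK₀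
  have hK₀Y : K₀ ≤ Y := pElem_le Y
  have hK₀K : K₀ ≤ K := by
    rw [← h.pElem_sup]
    exact pElem_mono inf_le_left
  -- `K ≤ K₀ O`
  have hYn : Y ≤ normalizer (K₀ : Set G) := le_normalizer.trans (normalizer_le_normalizer_pElem Y)
  have hYA : Y ≤ A := inf_le_right.trans hBA
  have hMn : M ≤ normalizer ((K₀ ⊔ O : Subgroup G) : Set G) := by
    refine hMY.trans (sup_le ?_ (le_sup_right.trans le_normalizer))
    intro g hg
    have h1 := hYn hg
    have h2 := hOn (hYA hg)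
    rw [mem_normalizer_iff_map_conj_eq] at h1 h2 ⊢
    rw [Subgroup.map_sup, h1, h2]
  have hKK : K ≤ K₀ ⊔ O := by
    have h1 : SubnIn (K₀ ⊔ O) M :=
      SubnIn.of_normal (sup_le (hK₀K.trans le_sup_left) le_sup_right) hMn
    have h2 : ((K₀ ⊔ O).relIndex M).Coprime p := by
      have h3 : (K₀ ⊔ O).relIndex M ∣ K₀.relIndex Y := by
        have h4 : (K₀ ⊔ O).relIndex M = (K₀ ⊔ O).relIndex (Y ⊔ (K₀ ⊔ O)) := by
          congr 1
          apply le_antisymm
          · exact hMY.trans (sup_le le_sup_left (le_sup_right.trans le_sup_right))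
          · exact sup_le inf_le_left (sup_le (hK₀Y.trans inf_le_left) le_sup_right)
        rw [h4]
        rw [relIndex_sup_right_of_norm ((inf_le_left : Y ≤ M).trans hMn)]
        exact relIndex_dvd_of_le_left _ le_sup_left
      exact Nat.Coprime.coprime_dvd_left h3 (relIndex_pElem_coprime Y)
    have h3 := h1.pElem_le_of_coprime h2
    rwa [h.pElem_sup] at h3
  have hdec : K ≤ K₀ ⊔ (K ⊓ O) := by
    intro g hg
    have h1 : g ∈ ((K₀ ⊔ O : Subgroup G) : Set G) := hKK hg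
    rw [coe_mul_of_left_le_normalizer_right _ _ ((hK₀Y.trans hYA).trans hOn)] at h1
    obtain ⟨b, hb, o, ho, rfl⟩ := h1
    refine mul_mem (mem_sup_left hb) (mem_sup_right ⟨?_, ho⟩)
    have : o = b⁻¹ * (b * o) := by group
    rw [this]
    exact K.mul_mem (K.inv_mem (hK₀K hb)) hg
  refine ⟨K₀, UC.of_intrinsic ((SubnIn.pElem p Y).trans hYB) (pElem_pElem p Y) ?_, hK₀K, hdec, rfl⟩
  have h1 : K ≤ K₀ ⊔ OA p K := by rw [OA_of_subn h.subn]; exact hdec
  obtain ⟨e⟩ := exists_quot_equiv hK₀K h1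
  exact PCompQuot.quasisimple_congr e.symm h.qs

/-- (a3): the part of a `p`-component in the normaliser of a `p`-subgroup centralising it modulo
`O_{p'}` -/
theorem UC.exists_low (h : UC p K A) {X : Subgroup G} (hX : X ≤ A) (hXp : IsPGroup p X)
    (hc : ⁅K, X⁆ ≤ OA p A) :
    ∃ K₀ : Subgroup G, UC p K₀ (A ⊓ normalizer (X : Set G)) ∧ K₀ ≤ K ∧ K ≤ K₀ ⊔ (K ⊓ OA p A) ∧
      ⁅K₀, X⁆ = ⊥ := by
  have h1 : K ≤ (A ⊓ normalizer (X : Set G)) ⊔ OA p A := by
    refine (le_sup_of_comm_coprime hXp (OA_coprime p A) (hX.trans (OA_norm p A)) hc).trans ?_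
    refine sup_le_sup_right (inf_le_inf_right _ (sup_le h.le (OA_le p A))) _
  obtain ⟨K₀, h2, h3, h4, -⟩ := h.exists_low_of_cover inf_le_left h1
  refine ⟨K₀, h2, h3, h4, ?_⟩
  rw [eq_bot_iff, ← inf_eq_bot_of_pgroup_coprime hXp (OA_coprime p A)]
  refine le_inf ?_ ((commutator_mono h3 le_rfl).trans hc)
  exact le_normalizer_iff_commutator_le_right.1 (h2.le.trans inf_le_right)

/-- a `p`-component does not lie in a `p`-group -/
theorem UC.not_le_pgroup (h : UC p K A) {X : Subgroup G} (hX : IsPGroup p X) : ¬ K ≤ X := by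
  intro hKX
  have h1 : IsPGroup p K := hX.to_le hKX
  have h2 : Group.IsNilpotent K := h1.isNilpotent
  have h3 : Group.IsSolvable K := inferInstance
  have h4 : Group.IsPerfect K := by
    constructor
    have h5 := h.perfect
    rw [_root_.commutator_def]
    apply map_injective K.subtype_injective
    rw [map_commutator]
    simp only [← MonoidHom.range_eq_map, range_subtype]
    exact h5
  have h6 : Subsingleton K := by
    by_contra hns
    rw [not_subsingleton_iff_nontrivial] at hns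
    have h7 := Group.IsSolvable.commutator_lt_top_of_nontrivial (G := K)
    rw [h4.commutator_eq_top] at h7
    exact lt_irrefl _ h7
  exact h.ne_bot ((K.eq_bot_of_subsingleton))

theorem UC.comm_pgroup (h : UC p K A) {X : Subgroup G} (hX : SubnIn X A) (hXp : IsPGroup p X) :
    ⁅K, X⁆ ≤ OA p A :=
  (h.le_or_comm hX).resolve_left (h.not_le_pgroup hXp)

theorem UC.comm_pgroup_eq_bot (h : UC p K A) {X : Subgroup G} (hX : X ≤ A)
    (hXn : A ≤ normalizer (X : Set G)) (hXp : IsPGroup p X) : ⁅K, X⁆ = ⊥ := by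
  rw [eq_bot_iff, ← inf_eq_bot_of_pgroup_coprime hXp (OA_coprime p A)]
  exact le_inf (le_normalizer_iff_commutator_le_right.1 (h.le.trans hXn))
    (h.comm_pgroup (SubnIn.of_normal hX hXn) hXp)

end

end Cfsg.Agent.R2.T3544
end

-- part: R2/T3544/NLctx
section
/-!
# S3544, case NL with components: the context

`NLS G p ra rb da db`: two coprime directions of valency types prime to `p`, `O_p(G_x) ≠ 1`, and
the Schreier property for the composition factors of the point stabilizers.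
`Xf G p x = O_p(G_x)`, `Of G p x = O_{p'}(G_x)`.
-/

set_option autoImplicit false
set_option linter.unusedSectionVars false

namespace Cfsg.Agent.R2.T3544

open Subgroup Cfsg MulAction
open scoped commutatorElement
open Cfsg.Agent.Lib

/-- `X(x) = O_p(G_x)` -/
def Xf (G : Type*) [Group G] {Ω : Type*} [MulAction G Ω] (p : ℕ) (x : Ω) : Subgroup G := OP p (stabilizer G x)

/-- `O(x) = O_{p'}(G_x)` -/
def Of (G : Type*) [Group G] {Ω : Type*} [MulAction G Ω] (p : ℕ) (x : Ω) : Subgroup G := OA p (stabilizer G x)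

/-- `W_r(x)`: the join of the `X(y)`, `y` a neighbour of `x` -/
def Wf {G : Type*} [Group G] {Ω : Type*} (r : Ω → Ω → Prop) (X : Ω → Subgroup G) (x : Ω) : Subgroup G :=
  ⨆ y, ⨆ (_ : r x y), X y

theorem le_Wf {G : Type*} [Group G] {Ω : Type*} {r : Ω → Ω → Prop} {X : Ω → Subgroup G} {x y : Ω} (h : r x y) :
    X y ≤ Wf r X x := le_iSup₂_of_le y h le_rfl

theorem Wf_le {G : Type*} [Group G] {Ω : Type*} {r : Ω → Ω → Prop} {X : Ω → Subgroup G} {x : Ω} {K : Subgroup G}
    (h : ∀ y, r x y → X y ≤ K) : Wf r X x ≤ K := iSup₂_le h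

theorem Wf_map_le {G : Type*} [Group G] {Ω : Type*} [MulAction G Ω] {r : Ω → Ω → Prop} {X : Ω → Subgroup G}
    (FX : Fun G X) (hr : ∀ (g : G) {x y : Ω}, r x y → r (g • x) (g • y)) (g : G) (x : Ω) :
    (Wf r X x).map (MulAut.conj g).toMonoidHom ≤ Wf r X (g • x) := by
  rw [map_le_iff_le_comap]
  refine Wf_le fun y hy => ?_
  rw [← map_le_iff_le_comap, ← FX.smul]
  exact le_Wf (hr g hy)

/-- the context for NL with components -/
structure NLS (G : Type*) [Group G] {Ω : Type*} [MulAction G Ω] (p : ℕ) (ra rb : Ω → Ω → Prop) (da db : ℕ) :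
    Prop where
  P : PP G Ω
  A : Dir G ra da
  B : Dir G rb db
  hab : da.Coprime db
  pa : ¬ p ∣ da
  pb : ¬ p ∣ db
  X1 : ∀ x : Ω, Xf G p x ≠ ⊥
  sch : ∀ x : Ω, Cfsg.Agent.Schreier.KBalance.SchFactors ↥(stabilizer G x)

section

variable {G : Type*} [Group G] {Ω : Type*} [MulAction G Ω] {p : ℕ}

theorem OP_pgroup (p : ℕ) (A : Subgroup G) : IsPGroup p (OP p A) := LocalCore.isPGroup_map_pCore p A

theorem OA_cop [Finite G] (p : ℕ) (A : Subgroup G) : (Nat.card (OA p A)).Coprime p :=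
  LocalCore.card_map_pPrimeCore_coprime p A

/-- order prime to `p` -/
theorem cop_of_pgroup [Finite G] {p : ℕ} [Fact p.Prime] {X : Subgroup G} (hX : IsPGroup p X) {m : ℕ} (h : m.Coprime p) :
    (Nat.card X).Coprime m := by
  obtain ⟨k, hk⟩ := IsPGroup.iff_card.1 hX
  rw [hk]
  exact Nat.Coprime.pow_left _ h.symm

theorem Xf_fun : Fun G (Xf G p : Ω → Subgroup G) := pCore_fun G Ω p

theorem Of_fun : Fun G (Of G p : Ω → Subgroup G) := pPrimeCore_fun G Ω p

theorem Xf_pgroup (x : Ω) : IsPGroup p (Xf G p x) := OP_pgroup p _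

theorem Of_cop [Finite G] (x : Ω) : (Nat.card (Of G p x)).Coprime p := OA_cop p _

theorem XO_cop [Finite G] [Fact p.Prime] (x y : Ω) : (Nat.card (Xf G p x)).Coprime (Nat.card (Of G p y)) :=
  cop_of_pgroup (Xf_pgroup x) (Of_cop y)

theorem Of_inf_Xf [Finite G] [Fact p.Prime] (x y : Ω) : Of G p x ⊓ Xf G p y = ⊥ := by
  rw [inf_comm]
  exact (disjoint_of_coprime_natCard (XO_cop y x)).eq_bot

end

namespace NLS

variable {G : Type*} [Group G] {Ω : Type*} [MulAction G Ω] {p : ℕ} {ra rb : Ω → Ω → Prop} {da db : ℕ}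

theorem symm (h : NLS G p ra rb da db) : NLS G p rb ra db da :=
  ⟨h.P, h.B, h.A, h.hab.symm, h.pb, h.pa, h.X1, h.sch⟩

/-- `N_G(X(y)) ≤ G_y` -/
theorem norm_le (h : NLS G p ra rb da db) (y : Ω) : normalizer (Xf G p y : Set G) ≤ stabilizer G y :=
  Xf_fun.normalizer_le h.P (h.X1 y)

theorem cent_le (h : NLS G p ra rb da db) (y : Ω) : centralizer (Xf G p y : Set G) ≤ stabilizer G y :=
  Xf_fun.centralizer_le h.P (h.X1 y)

theorem norm_eq (h : NLS G p ra rb da db) (y : Ω) : normalizer (Xf G p y : Set G) = stabilizer G y :=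
  le_antisymm (h.norm_le y) (Xf_fun.norm y)

variable [Finite G] [Fact p.Prime]

theorem X_cop (h : NLS G p ra rb da db) (x : Ω) : (Nat.card (Xf G p x)).Coprime da :=
  cop_of_pgroup (Xf_pgroup x) ((Nat.Prime.coprime_iff_not_dvd Fact.out).2 h.pa).symm

theorem X_sub (x : Ω) : SubnIn (Xf G p x) (stabilizer G x) :=
  SubnIn.of_normal (Xf_fun.le x) (Xf_fun.norm x)

theorem X_idx (h : NLS G p ra rb da db) (x : Ω) : ¬ HasIdx (Xf G p x) da :=
  not_hasIdx_of_card_dvd dvd_rfl (h.X_cop x)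

/-- `X(x) ≤ M_a(x)` -/
theorem X_le_Mk (h : NLS G p ra rb da db) (x : Ω) : Xf G p x ≤ Mk G ra x :=
  h.A.le_Mk_of_subn (X_sub x) (h.X_idx x)

/-- `X(y) ≤ G_x` for neighbours -/
theorem X_le (h : NLS G p ra rb da db) {x y : Ω} (hy : ra x y) : Xf G p y ≤ stabilizer G x :=
  (h.X_le_Mk y).trans (Mk_le_nbr (h.A.symm hy))

/-- `X(y) ≤ M_b(x)` for `y ~_a x` -/
theorem X_le_Mk' (h : NLS G p ra rb da db) {x y : Ω} (hy : ra x y) : Xf G p y ≤ Mk G rb x :=
  h.A.le_Mk_of_subn' h.B h.hab hy (X_sub y) (h.X_le hy) (h.symm.X_idx y)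

theorem norm_O (h : NLS G p ra rb da db) {x y : Ω} (hy : ra x y) : Xf G p y ≤ normalizer (Of G p x : Set G) :=
  (h.X_le hy).trans (Of_fun.norm x)

/-- `O(x) ∩ G_y` centralises `X(y)` -/
theorem comm (h : NLS G p ra rb da db) {x y : Ω} (hy : ra x y) :
    ⁅Of G p x ⊓ stabilizer G y, Xf G p y⁆ = ⊥ := by
  rw [eq_bot_iff, ← Of_inf_Xf (G := G) (p := p) x y]
  refine le_inf ?_ ?_
  · exact (commutator_mono inf_le_left le_rfl).trans
      (le_normalizer_iff_commutator_le_left.1 (h.norm_O hy))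
  · exact (commutator_mono inf_le_right le_rfl).trans
      (le_normalizer_iff_commutator_le_right.1 (Xf_fun.norm y))

/-- `C_{O(x)}(X(y)) = O(x) ∩ G_y` -/
theorem inf_cent (h : NLS G p ra rb da db) {x y : Ω} (hy : ra x y) :
    Of G p x ⊓ centralizer (Xf G p y : Set G) = Of G p x ⊓ stabilizer G y := by
  refine le_antisymm (inf_le_inf_left _ (h.cent_le y)) (le_inf inf_le_left ?_)
  exact commutator_eq_bot_iff_le_centralizer.1 (h.comm hy)

/-- `[O(x), X(y), X(y)] = [O(x), X(y)]` -/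
theorem comm_comm (h : NLS G p ra rb da db) {x y : Ω} (hy : ra x y) :
    ⁅⁅Of G p x, Xf G p y⁆, Xf G p y⁆ = ⁅Of G p x, Xf G p y⁆ :=
  CopLem.comm_comm (h.norm_O hy) (XO_cop y x) (CopLem.solv_of_isPGroup (Xf_pgroup y))

/-- the index of `C_{O(x)}(X(y))` in `O(x)` divides `d_a` -/
theorem idx (h : NLS G p ra rb da db) {x y : Ω} (hy : ra x y) :
    (Of G p x ⊓ centralizer (Xf G p y : Set G)).relIndex (Of G p x) ∣ da := by
  rw [h.inf_cent hy, inf_comm, inf_relIndex_right, ← h.A.idx hy]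
  exact (SubnIn.of_normal (Of_fun.le x) (Of_fun.norm x)).relIndex_dvd (stabilizer G y)

/-! ### `N_a(x)`, `N_b(x)` -/

theorem comm_le_O (h : NLS G p ra rb da db) {x y : Ω} (hy : ra x y) : ⁅Of G p x, Xf G p y⁆ ≤ Of G p x :=
  le_normalizer_iff_commutator_le_left.1 (h.norm_O hy)

theorem N_le_O (h : NLS G p ra rb da db) (x : Ω) : Nf ra (Xf G p) (Of G p) x ≤ Of G p x :=
  Nf_le fun _ hy => h.comm_le_O hy

theorem FN (h : NLS G p ra rb da db) : Fun G (Nf ra (Xf G p) (Of G p)) :=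
  Fun.of_map_le (fun x => (h.N_le_O x).trans (Of_fun.le x))
    (Nf_map_le Xf_fun Of_fun fun g {_ _} hxy => h.A.smul g hxy)

/-- `N_a(x) ≤ M_b(x)` -/
theorem N_le_Mk (h : NLS G p ra rb da db) (x : Ω) : Nf ra (Xf G p) (Of G p) x ≤ Mk G rb x :=
  Nf_le fun _ hy => (commutator_mono le_rfl (h.X_le_Mk' hy)).trans
    (le_normalizer_iff_commutator_le_right.1 ((Of_fun.le x).trans (h.B.Mk_norm x)))

/-- `N_a(x) ≤ O(x) ∩ G_w` for `w ~_b x` -/
theorem N_le_inf (h : NLS G p ra rb da db) {x w : Ω} (hw : rb x w) :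
    Nf ra (Xf G p) (Of G p) x ≤ Of G p x ⊓ stabilizer G w :=
  le_inf (h.N_le_O x) ((h.N_le_Mk x).trans (Mk_le_nbr hw))

/-- `[N_a(x), X(w)] = 1` for `w ~_b x` -/
theorem N_comm_X (h : NLS G p ra rb da db) {x w : Ω} (hw : rb x w) :
    ⁅Nf ra (Xf G p) (Of G p) x, Xf G p w⁆ = ⊥ := by
  rw [eq_bot_iff, ← h.symm.comm hw]
  exact commutator_mono (h.N_le_inf hw) le_rfl

/-- `[N_b(x), N_a(x)] = 1` -/
theorem N_comm (h : NLS G p ra rb da db) (x : Ω) :
    ⁅Nf rb (Xf G p) (Of G p) x, Nf ra (Xf G p) (Of G p) x⁆ = ⊥ := by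
  rw [commutator_eq_bot_iff_le_centralizer]
  refine Nf_le fun w hw => ?_
  rw [← commutator_eq_bot_iff_le_centralizer]
  have h1 := h.N_comm_X hw
  apply commutator_commutator_eq_bot_of_rotate
  · rw [commutator_comm (Xf G p w), h1, commutator_bot_left]
  · rw [eq_bot_iff, ← h1]
    refine commutator_mono ?_ le_rfl
    exact le_normalizer_iff_commutator_le_left.1 ((Of_fun.le x).trans (h.FN.norm x))

/-! ### `W_a(x)`, `W_b(x)` -/

theorem W_le (h : NLS G p ra rb da db) (x : Ω) : Wf ra (Xf G p) x ≤ stabilizer G x := Wf_le fun _ hy => h.X_le hy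

theorem FW (h : NLS G p ra rb da db) : Fun G (Wf ra (Xf G p)) :=
  Fun.of_map_le h.W_le (Wf_map_le Xf_fun fun g {_ _} hxy => h.A.smul g hxy)

/-- `W_a(x) ≤ M_b(x)` -/
theorem W_le_Mk (h : NLS G p ra rb da db) (x : Ω) : Wf ra (Xf G p) x ≤ Mk G rb x := Wf_le fun _ hy => h.X_le_Mk' hy

/-- `[W_a(x), N_b(x)] = 1` -/
theorem W_comm (h : NLS G p ra rb da db) (x : Ω) : ⁅Wf ra (Xf G p) x, Nf rb (Xf G p) (Of G p) x⁆ = ⊥ := by
  rw [commutator_eq_bot_iff_le_centralizer]
  refine Wf_le fun y hy => ?_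
  rw [← commutator_eq_bot_iff_le_centralizer, commutator_comm]
  exact h.symm.N_comm_X hy

end NLS

end Cfsg.Agent.R2.T3544
end

-- part: R2/T3544/NLVdef
section
/-!
# S3544, case NL with components: the operator groups `V x` and `U x z` (interface)
-/

set_option autoImplicit false
set_option linter.unusedSectionVars false

namespace Cfsg.Agent.R2.T3544

open Subgroup Cfsg MulAction
open scoped commutatorElement

/-- the operator groups: `V x ≤ G_x`, `U x z = U z x ≤ V x ∩ V z` for neighbours -/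
structure VSys (G : Type*) [Group G] {Ω : Type*} [MulAction G Ω] (p : ℕ) (ra rb : Ω → Ω → Prop)
    (V : Ω → Subgroup G) (U : Ω → Ω → Subgroup G) : Prop where
  FV : Fun G V
  perf : ∀ x, ⁅V x, V x⁆ = V x
  le : ∀ {x z : Ω}, ra x z ∨ rb x z → U x z ≤ V x
  symm : ∀ {x z : Ω}, ra x z ∨ rb x z → U x z = U z x
  norm : ∀ {x z : Ω}, ra x z ∨ rb x z → stabilizer G x ⊓ stabilizer G z ≤ normalizer (U x z : Set G)
  uperf : ∀ {x z : Ω}, ra x z ∨ rb x z → ⁅U x z, U x z⁆ = U x z
  cent : ∀ {x z : Ω}, ra x z ∨ rb x z → U x z ≤ centralizer (Xf G p x : Set G)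
  comp : ∀ {x z : Ω}, ra x z ∨ rb x z → ∀ J, UC p J (stabilizer G z) → ¬ ⁅J, Xf G p x⁆ ≤ Of G p z →
    ⁅U x z, J⁆ ≤ Of G p z
  lossA : ∀ {x y : Ω}, ra x y → ∀ g ∈ V x,
    ∃ c ∈ V x ⊓ centralizer (Nf rb (Xf G p) (Of G p) x : Set G), ∃ v ∈ U x y, g = c * v
  lossB : ∀ {x y : Ω}, rb x y → ∀ g ∈ V x,
    ∃ c ∈ V x ⊓ centralizer (Nf ra (Xf G p) (Of G p) x : Set G), ∃ v ∈ U x y, g = c * v

namespace VSys

variable {G : Type*} [Group G] {Ω : Type*} [MulAction G Ω] {p : ℕ} {ra rb : Ω → Ω → Prop}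
  {V : Ω → Subgroup G} {U : Ω → Ω → Subgroup G}

/-- exchange the two directions -/
theorem swap (S : VSys G p ra rb V U) : VSys G p rb ra V U where
  FV := S.FV
  perf := S.perf
  le h := S.le h.symm
  symm h := S.symm h.symm
  norm h := S.norm h.symm
  uperf h := S.uperf h.symm
  cent h := S.cent h.symm
  comp h := S.comp h.symm
  lossA h := S.lossB h
  lossB h := S.lossA h

end VSys

end Cfsg.Agent.R2.T3544
end

-- part: R2/T3544/NLend
section
/-!
# S3544, case NL with components: the end game (helper25's (e))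

If a nontrivial functor `R` with `R x ≤ G_y` centralises `[O(y), X(x)]` and, modulo `O(y)`, the `p`-components of `G_y` moved by
`X(x)`, then `G_y` is of characteristic `p`.
-/

set_option autoImplicit false
set_option linter.unusedSectionVars false

namespace Cfsg.Agent.R2.T3544

open Subgroup Cfsg MulAction
open scoped commutatorElement

/-! ### The statements used -/

/-- Box 2 -/
def BalStmt (G : Type*) [Group G] (p : ℕ) : Prop :=
  ∀ {H X K : Subgroup G}, Schreier.KBalance.SchFactors H → X ≤ H → IsPGroup p X →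
    ¬ p ∣ (normalizer (X : Set G)).relIndex H → UC p K (H ⊓ normalizer (X : Set G)) → ∃ J, UC p J H ∧ K ≤ J

/-- Box 3 (i) -/
def CommNormStmt (G : Type*) [Group G] (p : ℕ) : Prop :=
  ∀ {K H D : Subgroup G}, UC p K H → D ≤ H → (IsPGroup p D ∨ (Nat.card D).Coprime p) →
    K ≤ OA p H ⊔ (H ⊓ normalizer (D : Set G)) → ⁅K, D⁆ ≤ OA p H

/-- Box 3 (ii) -/
def CoreCommStmt (G : Type*) [Group G] (p : ℕ) : Prop :=
  ∀ {H D R : Subgroup G}, D ≤ H → (Nat.card D).Coprime p → R ≤ H → IsPGroup p R → ¬ p ∣ R.relIndex H →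
    R ≤ normalizer (D : Set G) → (∀ K, UC p K H → ⁅K, D⁆ ≤ OA p H) → D ≤ OA p H

/-- Box 1, the parts used here -/
structure UCBasic (G : Type*) [Group G] (p : ℕ) : Prop where
  perfect : ∀ {K A : Subgroup G}, UC p K A → ⁅K, K⁆ = K
  not_comm : ∀ {K A : Subgroup G}, UC p K A → ¬ ⁅K, K⁆ ≤ OA p A
  le_or_comm : ∀ {K A N : Subgroup G}, UC p K A → SubnIn N A → K ≤ N ∨ ⁅K, N⁆ ≤ OA p A
  mono_sub : ∀ {K A B : Subgroup G}, UC p K A → K ≤ B → B ≤ A → UC p K B

section

variable {G : Type*} [Group G] [Finite G]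

/-- `[J, X] ≤ O`, `[O, X] = 1`, coprime orders: `[J, X] = 1` -/
theorem comm_bot_of_coprime {J X O : Subgroup G} (h1 : ⁅J, X⁆ ≤ O) (h2 : ⁅O, X⁆ = ⊥)
    (hc : (Nat.card X).Coprime (Nat.card O)) : ⁅J, X⁆ = ⊥ := by
  rw [eq_bot_iff, commutator_le]
  intro j hj t ht
  rw [mem_bot]
  have hO : ∀ s ∈ X, ⁅j, s⁆ ∈ O := fun s hs => h1 (commutator_mem_commutator hj hs)
  have hcom : ∀ o ∈ O, t * o * t⁻¹ = o := by
    intro o ho
    have h3 : ⁅o, t⁆ ∈ ⁅O, X⁆ := commutator_mem_commutator ho ht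
    rw [h2, mem_bot, commutatorElement_eq_one_iff_mul_comm] at h3
    rw [← h3, mul_inv_cancel_right]
  have hz : ∀ n : ℕ, ⁅j, t ^ n⁆ = ⁅j, t⁆ ^ n := by
    intro n
    induction n with
    | zero => simp
    | succ n ih =>
      have e : ⁅j, t * t ^ n⁆ = ⁅j, t⁆ * (t * ⁅j, t ^ n⁆ * t⁻¹) := by
        simp only [commutatorElement_def]; group
      rw [pow_succ', e, hcom _ (hO _ (X.pow_mem ht n)), ih, pow_succ']
  have h3 : ⁅j, t⁆ ^ Nat.card X = 1 := by
    have h4 : (⟨t, ht⟩ : X) ^ Nat.card X = 1 := pow_card_eq_one'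
    have h5 : t ^ Nat.card X = 1 := congrArg Subtype.val h4
    rw [← hz, h5, commutatorElement_one_right]
  have h4 : ⁅j, t⁆ ^ Nat.card O = 1 := by
    have h4 : (⟨⁅j, t⁆, hO t ht⟩ : O) ^ Nat.card O = 1 := pow_card_eq_one'
    exact congrArg Subtype.val h4
  have h5 : orderOf ⁅j, t⁆ ∣ 1 := by
    rw [← hc]
    exact Nat.dvd_gcd (orderOf_dvd_of_pow_eq_one h3) (orderOf_dvd_of_pow_eq_one h4)
  exact orderOf_eq_one_iff.1 (Nat.dvd_one.1 h5)

theorem UC.le_pLayerOf {p : ℕ} {J H : Subgroup G} (h : UC p J H) : J ≤ pLayerOf p H := by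
  have h1 : J.subgroupOf H ≤ pLayer p H := le_sSup h.2
  have h2 := map_mono (f := H.subtype) h1
  rw [map_subgroupOf_eq_of_le h.1] at h2
  exact h2

theorem pLayerOf_le_iff {p : ℕ} {H B : Subgroup G} : pLayerOf p H ≤ B ↔ ∀ J, UC p J H → J ≤ B := by
  constructor
  · intro h J hJ
    exact hJ.le_pLayerOf.trans h
  · intro h
    unfold pLayerOf pLayer
    rw [map_le_iff_le_comap]
    refine sSup_le fun K hK => ?_
    rw [← map_le_iff_le_comap]
    refine h _ ⟨map_subtype_le _, ?_⟩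
    have e : (K.map H.subtype).subgroupOf H = K := comap_map_eq_self_of_injective H.subtype_injective K
    rw [e]
    exact hK

end

section

universe u v

variable {G : Type u} [Group G] [Finite G] {Ω : Type v} [MulAction G Ω]

theorem OP_fun (p : ℕ) : Fun G (fun x : Ω => OP p (stabilizer G x)) := pCore_fun G Ω p

theorem OA_fun (p : ℕ) : Fun G (fun x : Ω => OA p (stabilizer G x)) := pPrimeCore_fun G Ω p

theorem OPf_isPGroup (p : ℕ) (H : Subgroup G) : IsPGroup p (OP p H) := Lib.LocalCore.isPGroup_map_pCore p _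

theorem OA_card_coprime (p : ℕ) (H : Subgroup G) : (Nat.card (OA p H)).Coprime p :=
  Lib.LocalCore.card_map_pPrimeCore_coprime p _

theorem OP_OA_coprime (p : ℕ) [Fact p.Prime] (H K : Subgroup G) :
    (Nat.card (OP p H)).Coprime (Nat.card (OA p K)) := by
  obtain ⟨k, hk⟩ := IsPGroup.iff_card.1 (OPf_isPGroup p H)
  rw [hk]
  exact Nat.Coprime.pow_left _ (OA_card_coprime p K).symm

theorem OP_card_coprime (p : ℕ) [hp : Fact p.Prime] (H : Subgroup G) {d : ℕ} (hd : ¬ p ∣ d) :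
    (Nat.card (OP p H)).Coprime d := by
  obtain ⟨k, hk⟩ := IsPGroup.iff_card.1 (OPf_isPGroup p H)
  rw [hk]
  exact Nat.Coprime.pow_left _ ((Nat.Prime.coprime_iff_not_dvd hp.out).2 hd)

/-- `O_p(G_x) ≤ G_y` -/
theorem OP_le_nbr {r : Ω → Ω → Prop} {d : ℕ} (D : Dir G r d) {p : ℕ} [Fact p.Prime] (hpd : ¬ p ∣ d) {x y : Ω}
    (hxy : r x y) : OP p (stabilizer G x) ≤ stabilizer G y := by
  have h1 : SubnIn (OP p (stabilizer G x)) (stabilizer G x) :=
    SubnIn.of_normal ((OP_fun p).le x) ((OP_fun p).norm x)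
  exact (D.le_Mk_of_subn h1 (not_hasIdx_of_card_dvd dvd_rfl (OP_card_coprime p _ hpd))).trans (Mk_le_nbr hxy)

/-- **End game.** -/
theorem endgame (P : PP G Ω) {r : Ω → Ω → Prop} {d : ℕ} (D : Dir G r d) {p : ℕ} [Fact p.Prime] (hpd : ¬ p ∣ d)
    (U : UCBasic G p) (BS : BalStmt G p) (CN : CommNormStmt G p) (CC : CoreCommStmt G p)
    (hSch : ∀ z : Ω, Schreier.KBalance.SchFactors (stabilizer G z))
    (hX1 : ∀ z : Ω, OP p (stabilizer G z) ≠ ⊥)
    (hNL : ∀ z : Ω, OA p (stabilizer G z) ≠ ⊥ ∨ ∃ J, UC p J (stabilizer G z))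
    {x y : Ω} (hxy : r x y) {R : Ω → Subgroup G} (FR : Fun G R) (hR1 : R x ≠ ⊥)
    (h1 : ⁅R x, ⁅OA p (stabilizer G y), OP p (stabilizer G x)⁆⁆ = ⊥)
    (h2 : ∀ J, UC p J (stabilizer G y) → ¬ ⁅J, OP p (stabilizer G x)⁆ ≤ OA p (stabilizer G y) →
      ⁅R x, J⁆ ≤ OA p (stabilizer G y)) : False := by
  have FX := OP_fun (G := G) (Ω := Ω) p
  have FO := OA_fun (G := G) (Ω := Ω) p
  have hyx := D.symm hxy
  have hXy : OP p (stabilizer G x) ≤ stabilizer G y := OP_le_nbr D hpd hxy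
  have hX'x : OP p (stabilizer G y) ≤ stabilizer G x := OP_le_nbr D hpd hyx
  have hXn : OP p (stabilizer G x) ≤ normalizer (OA p (stabilizer G y) : Set G) := hXy.trans (FO.norm y)
  have hc := OP_OA_coprime p (stabilizer G x) (stabilizer G y)
  have hRc : centralizer (R x : Set G) ≤ stabilizer G x := FR.centralizer_le P hR1
  have hXc : centralizer (OP p (stabilizer G x) : Set G) ≤ stabilizer G x := FX.centralizer_le P (hX1 x)
  -- `P = [O(y), X(x)] = 1`
  have hP : ⁅OA p (stabilizer G y), OP p (stabilizer G x)⁆ = ⊥ := by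
    have h3 : ⁅OA p (stabilizer G y), OP p (stabilizer G x)⁆ ≤ stabilizer G x := by
      refine le_trans ?_ hRc
      rw [commutator_comm] at h1
      exact commutator_eq_bot_iff_le_centralizer.1 h1
    have h4 : ⁅⁅OA p (stabilizer G y), OP p (stabilizer G x)⁆, OP p (stabilizer G x)⁆ = ⊥ := by
      rw [eq_bot_iff]
      have h5 : OA p (stabilizer G y) ⊓ OP p (stabilizer G x) = ⊥ := by
        rw [inf_comm]
        exact (disjoint_of_coprime_natCard hc).eq_bot
      rw [← h5]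
      refine le_inf ?_ ?_
      · exact (commutator_mono (CopLem.comm_le hXn) le_rfl).trans (CopLem.comm_le hXn)
      · exact comm_le_r (h3.trans (FX.norm x))
    rwa [CopLem.comm_comm hXn hc (CopLem.solv_of_isPGroup (OPf_isPGroup p _))] at h4
  have hOX : OP p (stabilizer G x) ≤ centralizer (OA p (stabilizer G y) : Set G) := by
    rw [commutator_comm] at hP
    exact commutator_eq_bot_iff_le_centralizer.1 hP
  have hOx : OA p (stabilizer G y) ≤ stabilizer G x :=
    (commutator_eq_bot_iff_le_centralizer.1 hP).trans hXc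
  -- no moved `p`-component
  have hJ : ∀ J, UC p J (stabilizer G y) → ⁅J, OP p (stabilizer G x)⁆ ≤ OA p (stabilizer G y) := by
    intro J hJ
    by_contra hcon
    have hCn : SubnIn (centralizer (OA p (stabilizer G y) : Set G) ⊓ stabilizer G y) (stabilizer G y) :=
      SubnIn.of_normal inf_le_right (Resid.norm_inf (nrm_centralizer (FO.norm y)) le_normalizer)
    rcases U.le_or_comm hJ hCn with h3 | h3
    · have h4 : ⁅J, OA p (stabilizer G y)⁆ = ⊥ :=
        commutator_eq_bot_iff_le_centralizer.2 (h3.trans inf_le_left)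
      have h5 := h2 J hJ hcon
      have h6 : ⁅⁅J, J⁆, R x⁆ = ⊥ := by
        apply commutator_commutator_eq_bot_of_rotate
        · rw [eq_bot_iff, commutator_comm J (R x)]
          rw [commutator_comm] at h4
          rw [← h4]
          exact commutator_mono h5 le_rfl
        · rw [eq_bot_iff]
          rw [commutator_comm] at h4
          rw [← h4]
          exact commutator_mono h5 le_rfl
      rw [U.perfect hJ] at h6
      have h7 : J ≤ stabilizer G x := (commutator_eq_bot_iff_le_centralizer.1 h6).trans hRc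
      exact hcon (CN hJ hXy (Or.inl (OPf_isPGroup p _)) ((le_inf hJ.1 (h7.trans (FX.norm x))).trans le_sup_right))
    · exact hcon ((commutator_mono le_rfl (le_inf hOX hXy)).trans h3)
  -- the `p`-components of `G_y` lie in `G_x`
  have hJx : ∀ J, UC p J (stabilizer G y) → J ≤ stabilizer G x := by
    intro J h
    have h3 := comm_bot_of_coprime (hJ J h) hP hc
    exact (commutator_eq_bot_iff_le_centralizer.1 h3).trans hXc
  have hn : normalizer (OP p (stabilizer G y) : Set G) = stabilizer G y :=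
    le_antisymm (FX.normalizer_le P (hX1 y)) (FX.norm y)
  have FT : Fun G (fun z : Ω => pLayerOf p (stabilizer G z)) :=
    Fun.of_iso (fun K _ => pLayer p K) (fun K L _ _ e => by
      unfold pLayer
      rw [map_le_iff_le_comap]
      refine sSup_le fun E hE => ?_
      rw [← map_le_iff_le_comap]
      exact le_sSup (Cfsg.Agent.SignalizersComponents.PLayerAut.isPComponent_map_equiv p e hE))
  have hT : pLayerOf p (stabilizer G y) ≤ pLayerOf p (stabilizer G x) := by
    rw [pLayerOf_le_iff]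
    intro J h
    have h3 : UC p J (stabilizer G x ⊓ normalizer (OP p (stabilizer G y) : Set G)) := by
      rw [hn]
      exact U.mono_sub h (le_inf (hJx J h) h.1) inf_le_right
    obtain ⟨J', h4, h5⟩ := BS (hSch x) hX'x (OPf_isPGroup p _) (by rw [hn, D.idx hxy]; exact hpd) h3
    exact h5.trans h4.le_pLayerOf
  have hTy : pLayerOf p (stabilizer G y) = ⊥ := by
    by_contra hcon
    exact FT.not_le P D hyx hcon hT
  have hno : ∀ z : Ω, ¬ ∃ J, UC p J (stabilizer G z) := by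
    rintro z ⟨J, h⟩
    have h3 : pLayerOf p (stabilizer G z) = ⊥ := by
      by_contra hcon
      exact FT.ne_bot P hcon y hTy
    have h4 : J = ⊥ := eq_bot_iff.2 (h.le_pLayerOf.trans h3.le)
    apply U.not_comm h
    rw [h4, commutator_bot_left]
    exact bot_le
  -- `O(y) ≤ O(x)`
  have hOO : OA p (stabilizer G y) ≤ OA p (stabilizer G x) := by
    obtain ⟨S⟩ : Nonempty (Sylow p (stabilizer G x ⊓ stabilizer G y : Subgroup G)) := inferInstance
    have hSle : (S : Subgroup _).map (stabilizer G x ⊓ stabilizer G y).subtype ≤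
        stabilizer G x ⊓ stabilizer G y := map_subtype_le _
    have hSp : IsPGroup p ((S : Subgroup _).map (stabilizer G x ⊓ stabilizer G y).subtype) := S.isPGroup'.map _
    have hi1 : ¬ p ∣ ((S : Subgroup _).map (stabilizer G x ⊓ stabilizer G y).subtype).relIndex
        (stabilizer G x ⊓ stabilizer G y) := by
      rw [relIndex, subgroupOf, comap_map_eq_self_of_injective (subtype_injective _)]
      exact S.not_dvd_index
    have hi2 : (stabilizer G x ⊓ stabilizer G y).relIndex (stabilizer G x) = d := by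
      rw [inf_relIndex_left]
      exact D.idx hxy
    have hi : ¬ p ∣ ((S : Subgroup _).map (stabilizer G x ⊓ stabilizer G y).subtype).relIndex (stabilizer G x) := by
      rw [← relIndex_mul_relIndex _ _ _ hSle inf_le_left, hi2]
      intro h
      rcases (Nat.Prime.dvd_mul Fact.out).1 h with h | h
      · exact hi1 h
      · exact hpd h
    refine CC hOx (OA_card_coprime p _) (hSle.trans inf_le_left) hSp hi
      ((hSle.trans inf_le_right).trans (FO.norm y)) ?_
    intro K hK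
    exact absurd ⟨K, hK⟩ (hno x)
  rcases hNL y with h | h
  · exact FO.not_le P D hyx h hOO
  · exact hno y h

end

end Cfsg.Agent.R2.T3544
end

-- part: R2/T3544/UCore
section
/-!
# S3544, case NL with components: `p`-components and small subgroups (box 3)

* `UC.comm_of_norm`: a `p`-component normalising, modulo `O_{p'}(H)`, a `p`- or `p'`-subgroup `D`
  centralises it modulo `O_{p'}(H)`.
* `le_core_of_comm`: a `p'`-subgroup normalised by a Sylow `p`-subgroup and centralised, modulo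
  `O_{p'}(H)`, by all `p`-components lies in `O_{p'}(H)`.
-/

set_option autoImplicit false
set_option linter.unusedSectionVars false

namespace Cfsg.Agent.R2.T3544

open Subgroup Cfsg
open scoped commutatorElement
open Cfsg.Agent.Lib Cfsg.Agent.Lib.PComponents
open Cfsg.Agent.SignalizersComponents

variable {G : Type*} [Group G] [Finite G] {p : ℕ} [hp : Fact p.Prime]

section bar

variable {H : Subgroup G}

/-- the image of `X ⊓ H` in `H / O_{p'}(H)` -/
def bq (p : ℕ) (H X : Subgroup G) : Subgroup (H ⧸ pPrimeCore p H) :=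
  (X.subgroupOf H).map (QuotientGroup.mk' (pPrimeCore p H))

theorem bq_comm_eq_bot_iff {X Y : Subgroup G} (hX : X ≤ H) (hY : Y ≤ H) :
    ⁅bq p H X, bq p H Y⁆ = ⊥ ↔ ⁅X, Y⁆ ≤ OA p H := by
  rw [comm_le_OA_iff hX hY, bq, bq, ← Subgroup.map_commutator, Subgroup.map_eq_bot_iff,
    QuotientGroup.ker_mk']

theorem bq_card_dvd {X : Subgroup G} (hX : X ≤ H) : Nat.card (bq p H X) ∣ Nat.card X := by
  rw [← Nat.card_congr (subgroupOfEquivOfLe hX).toEquiv]
  exact Subgroup.card_map_dvd _ _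

theorem bq_le_normalizer {K D : Subgroup G}
    (hle : K ≤ OA p H ⊔ (H ⊓ normalizer (D : Set G))) :
    bq p H K ≤ normalizer (bq p H D : Set (H ⧸ pPrimeCore p H)) := by
  have h1 : K.subgroupOf H ≤ pPrimeCore p H ⊔ (H ⊓ normalizer (D : Set G)).subgroupOf H := by
    rw [← OA_subgroupOf, ← subgroupOf_sup (OA_le p H) inf_le_left]
    exact Subgroup.comap_mono hle
  have h2 : bq p H K ≤ ((H ⊓ normalizer (D : Set G)).subgroupOf H).map
      (QuotientGroup.mk' (pPrimeCore p H)) := by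
    refine (Subgroup.map_mono h1).trans ?_
    rw [Subgroup.map_sup]
    have h3 : (pPrimeCore p H).map (QuotientGroup.mk' (pPrimeCore p H)) = ⊥ := by
      rw [Subgroup.map_eq_bot_iff, QuotientGroup.ker_mk']
    rw [h3, bot_sup_eq]
  refine h2.trans ?_
  refine le_trans (Subgroup.map_mono ?_) (Subgroup.le_normalizer_map _)
  intro x hx
  rw [mem_normalizer_iff]
  intro y
  simp only [mem_subgroupOf]
  exact (mem_normalizer_iff.1 (show (x : G) ∈ normalizer (D : Set G) from (mem_subgroupOf.1 hx).2) _)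

theorem bq_pPrimeCore_eq_bot : pPrimeCore p (H ⧸ pPrimeCore p H) = ⊥ :=
  pPrimeCore_quotient_eq_bot p

end bar

/-- A `p`-component `K` of `H` which normalises, modulo `O_{p'}(H)`, a subgroup `D` which is a
`p`-group or a `p'`-group, centralises `D` modulo `O_{p'}(H)`. -/
theorem UC.comm_of_norm {H K D : Subgroup G} (hK : UC p K H) (hD : D ≤ H)
    (hD' : IsPGroup p D ∨ (Nat.card D).Coprime p)
    (hle : K ≤ OA p H ⊔ (H ⊓ normalizer (D : Set G))) : ⁅K, D⁆ ≤ OA p H := by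
  rw [← bq_comm_eq_bot_iff hK.le hD]
  have hc : IsComponent (bq p H K) := hK.2.2.1
  rcases ComponentNormalize.component_le_or_comm_of_le_normalizer hc (bq_le_normalizer hle) with h | h
  · exfalso
    have hdvd := prime_dvd_card_component bq_pPrimeCore_eq_bot hc
    rcases hD' with h1 | h1
    · have h2 : IsPGroup p (bq p H D) := by
        have h3 : IsPGroup p (D.subgroupOf H) := h1.of_equiv (subgroupOfEquivOfLe hD).symm
        exact h3.map _
      have h4 : IsPGroup p (bq p H K) := h2.to_le h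
      have h5 : Group.IsSolvable (bq p H K) := by
        have := h4.isNilpotent
        infer_instance
      exact ComponentSolvable.quasisimple_not_solvable hc.2 h5
    · have h2 : p ∣ Nat.card D := (hdvd.trans (card_dvd_of_le h)).trans (bq_card_dvd hD)
      exact (Nat.Prime.coprime_iff_not_dvd hp.out).1 h1.symm h2
  · exact h

/-- A `p'`-subgroup `D` of `H`, normalised by a Sylow `p`-subgroup `R` of `H` and centralised
modulo `O_{p'}(H)` by every `p`-component of `H`, lies in `O_{p'}(H)`. -/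
theorem le_core_of_comm {H D R : Subgroup G} (hD : D ≤ H) (hc : (Nat.card D).Coprime p)
    (hR : R ≤ H) (hRp : IsPGroup p R) (hi : ¬ p ∣ R.relIndex H)
    (hRD : R ≤ normalizer (D : Set G)) (h : ∀ K, UC p K H → ⁅K, D⁆ ≤ OA p H) : D ≤ OA p H := by
  set Q := H ⧸ pPrimeCore p H with hQ
  have hQ1 : pPrimeCore p Q = ⊥ := bq_pPrimeCore_eq_bot
  have hcD : (Nat.card (bq p H D)).Coprime p := Nat.Coprime.coprime_dvd_left (bq_card_dvd hD) hc
  -- the layer
  have h1 : layer Q ≤ centralizer (bq p H D : Set Q) := by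
    refine sSup_le fun C hC => ?_
    obtain ⟨K, hK, rfl⟩ := exists_pcomp hC
    have hUC : UC p (K.map H.subtype) H := by
      refine ⟨map_subtype_le _, ?_⟩
      rwa [subgroupOf, comap_map_eq_self_of_injective H.subtype_injective]
    have h2 := h _ hUC
    rw [← bq_comm_eq_bot_iff hUC.le hD] at h2
    have h3 : bq p H (K.map H.subtype) = K.map (QuotientGroup.mk' (pPrimeCore p H)) := by
      rw [bq, subgroupOf, comap_map_eq_self_of_injective H.subtype_injective]
    rw [h3] at h2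
    exact commutator_eq_bot_iff_le_centralizer.1 h2
  -- the p-core
  have h2 : pCore p Q ≤ centralizer (bq p H D : Set Q) := by
    have hRQ : pCore p Q ≤ bq p H R := by
      have h3 : IsPGroup p (bq p H R) := by
        have h4 : IsPGroup p (R.subgroupOf H) := hRp.of_equiv (subgroupOfEquivOfLe hR).symm
        exact h4.map _
      have h5 : ¬ p ∣ (bq p H R).index := by
        intro h6
        apply hi
        have h7 : (bq p H R).index ∣ (R.subgroupOf H).index :=
          index_map_dvd _ (QuotientGroup.mk'_surjective _)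
        exact h6.trans h7
      have h8 : IsPGroup p (pCore p Q) := Cores.pCore_isPGroup p
      -- `R̄` is a Sylow subgroup
      have h10 := Cores.pCore_le_sylow (h3.toSylow h5)
      rwa [IsPGroup.toSylow_coe] at h10
    have h9 : bq p H R ≤ normalizer (bq p H D : Set Q) := by
      apply bq_le_normalizer
      exact (le_inf hR hRD).trans le_sup_right
    rw [← commutator_eq_bot_iff_le_centralizer, eq_bot_iff]
    have hn : (pCore p Q).Normal := Cores.pCore_normal p
    have h10 : Disjoint (pCore p Q) (bq p H D) := by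
      apply disjoint_of_coprime_natCard
      obtain ⟨n, hn⟩ := IsPGroup.iff_card.1 (Cores.pCore_isPGroup (G := Q) p)
      rw [hn]
      exact (Nat.Coprime.pow_right n hcD).symm
    rw [← h10.eq_bot]
    refine le_inf (commutator_le_left _ _) ?_
    exact (commutator_mono hRQ le_rfl).trans (le_normalizer_iff_commutator_le_right.1 h9)
  have h3 : bq p H D ≤ centralizer (generalizedFittingSubgroup Q : Set Q) := by
    rw [le_centralizer_iff, generalizedFittingSubgroup,
      PConstrained.fittingSubgroup_eq_pCore_of_pPrimeCore_eq_bot p hQ1]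
    exact sup_le h1 h2
  have hFn : (generalizedFittingSubgroup Q).Normal := GenFitting.genFitting_normal
  have h4 : centralizer (generalizedFittingSubgroup Q : Set Q) ≤ generalizedFittingSubgroup Q :=
    CharP.le_genFitting_of_le_centralizer (Normal.isSubnormal inferInstance) le_rfl
  have h5 : (bq p H D).IsSubnormal := by
    have h6 : ((bq p H D).subgroupOf (centralizer (generalizedFittingSubgroup Q : Set Q))).Normal := by
      rw [normal_subgroupOf_iff_le_normalizer h3]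
      refine le_trans ?_ (centralizer_le_normalizer _)
      rw [le_centralizer_iff]
      exact h3.trans (h4.trans (by rw [le_centralizer_iff])) 
    exact IsSubnormal.step _ _ h3 (Normal.isSubnormal inferInstance) h6
  have h6 : bq p H D ≤ ⊥ := by
    rw [← hQ1]
    exact le_pPrimeCore_of_isSubnormal h5 hcD
  rw [le_bot_iff, bq, Subgroup.map_eq_bot_iff, QuotientGroup.ker_mk'] at h6
  have h7 := Subgroup.map_mono (f := H.subtype) h6
  rwa [map_subgroupOf_eq_of_le hD] at h7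

end Cfsg.Agent.R2.T3544
end

-- part: R2/T3544/UBal
section
/-!
# S3544: balance for `p`-components of subgroups of index prime to `p`

`UC.balance`: if `B ≤ A`, `p` does not divide `|A : B|`, the composition factors of `A` have the Schreier property and
`K` is a `p`-component of `B`, then `K ≤ J` for a `p`-component `J` of `A`.
-/

set_option autoImplicit false
set_option linter.unusedSectionVars false

open scoped commutatorElement

namespace Cfsg.Agent.R2.T3544

open Subgroup Cfsg Cfsg.Agent.Lib Cfsg.Agent.SignalizersComponents Cfsg.Agent.H14.PQ Cfsg.Agent.Schreier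
open Cfsg.Agent.Schreier.Basic Cfsg.Agent.Schreier.Balance

namespace UBal

/-! ### The abstract lemma -/

/-- the elements normalising `D` and centralising `U` modulo `D` -/
def commMod {Q : Type*} [Group Q] (U D : Subgroup Q) : Subgroup Q where
  carrier := {x | x ∈ normalizer (D : Set Q) ∧ ∀ u ∈ U, ⁅u, x⁆ ∈ D}
  one_mem' := ⟨one_mem _, fun u _ => by rw [commutatorElement_one_right]; exact D.one_mem⟩
  mul_mem' := by
    rintro x y ⟨hx1, hx2⟩ ⟨hy1, hy2⟩
    refine ⟨mul_mem hx1 hy1, fun u hu => ?_⟩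
    have h1 : ⁅u, x * y⁆ = ⁅u, x⁆ * (x * ⁅u, y⁆ * x⁻¹) := by
      simp only [commutatorElement_def]; group
    rw [h1]
    exact D.mul_mem (hx2 u hu) ((mem_normalizer_iff.1 hx1 _).1 (hy2 u hu))
  inv_mem' := by
    rintro x ⟨hx1, hx2⟩
    refine ⟨inv_mem hx1, fun u hu => ?_⟩
    have h1 : ⁅u, x⁻¹⁆ = x⁻¹ * ⁅u, x⁆⁻¹ * (x⁻¹)⁻¹ := by
      simp only [commutatorElement_def]; group
    rw [h1]
    exact (mem_normalizer_iff.1 (inv_mem hx1) _).1 (D.inv_mem (hx2 u hu))

theorem mem_commMod {Q : Type*} [Group Q] {U D : Subgroup Q} {x : Q} :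
    x ∈ commMod U D ↔ x ∈ normalizer (D : Set Q) ∧ ∀ u ∈ U, ⁅u, x⁆ ∈ D := Iff.rfl

theorem pow_eq_one_of_coprime {Q : Type*} [Group Q] [Finite Q] {p : ℕ} {D : Subgroup Q}
    (hDc : (Nat.card D).Coprime p) {x : Q} (hx : x ∈ D) {n : ℕ} (hn : x ^ p ^ n = 1) : x = 1 := by
  have h1 : orderOf x ∣ p ^ n := orderOf_dvd_of_pow_eq_one hn
  have h2 : orderOf x ∣ Nat.card D := by
    rw [← Subgroup.orderOf_mk x hx]
    exact _root_.orderOf_dvd_natCard _
  have h3 := Nat.dvd_gcd h2 h1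
  rw [Nat.Coprime.gcd_eq_one (Nat.Coprime.pow_right n hDc), Nat.dvd_one, orderOf_eq_one_iff] at h3
  exact h3

/-- A perfect group generated by `p`-elements which centralises, modulo a `p'`-group, a subgroup of index prime to `p`
is trivial. -/
theorem eq_bot_of_comm {Q : Type*} [Group Q] [Finite Q] {p : ℕ} {I U S D : Subgroup Q}
    (hU : U ≤ I) (hS : S ≤ I) (hD : D ≤ I) (hSi : (S.relIndex I).Coprime p)
    (hDc : (Nat.card D).Coprime p) (hUD : U ≤ normalizer (D : Set Q)) (hSD : S ≤ normalizer (D : Set Q))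
    (hUS : ∀ u ∈ U, ∀ s ∈ S, ⁅u, s⁆ ∈ D) (hUperf : ⁅U, U⁆ = U) (hUp : PComponents.pElem p U = U) : U = ⊥ := by
  set M : Subgroup Q := S ⊔ D with hM
  have hDnorm : D ≤ normalizer (D : Set Q) := le_normalizer
  have hMT : M ≤ commMod U D := by
    refine sup_le (fun s hs => ⟨hSD hs, fun u hu => hUS u hu s hs⟩) (fun d hd => ⟨hDnorm hd, fun u hu => ?_⟩)
    rw [commutatorElement_def]
    exact D.mul_mem ((mem_normalizer_iff.1 (hUD hu) _).1 hd) (D.inv_mem hd)
  have hMI : M ≤ I := sup_le hS hD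
  have hDM : D ≤ M := le_sup_right
  -- `U` normalises `M`
  have hUM1 : ∀ u ∈ U, ∀ m ∈ M, u * m * u⁻¹ ∈ M := by
    intro u hu m hm
    have h1 : u * m * u⁻¹ = ⁅u, m⁆ * m := by
      rw [commutatorElement_def]; group
    rw [h1]
    exact M.mul_mem (hDM ((mem_commMod.1 (hMT hm)).2 u hu)) hm
  have hUM : U ≤ normalizer (M : Set Q) := by
    intro u hu
    rw [mem_normalizer_iff]
    intro m
    refine ⟨hUM1 u hu m, fun h => ?_⟩
    have h2 := hUM1 u⁻¹ (U.inv_mem hu) _ h
    have h3 : u⁻¹ * (u * m * u⁻¹) * u⁻¹⁻¹ = m := by group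
    rwa [h3] at h2
  -- the `p`-elements of `U` lie in `M`
  have hpM : U ≤ M := by
    rw [← hUp, PComponents.pElem, closure_le]
    rintro u ⟨hu, n, hn⟩
    let A : Subgroup Q := normalizer (M : Set Q) ⊓ I
    have hMA : M ≤ A := le_inf le_normalizer hMI
    have hMn : (M.subgroupOf A).Normal := by
      rw [normal_subgroupOf_iff_le_normalizer hMA]
      exact inf_le_left
    have h1 : (M.subgroupOf A).index.Coprime p := by
      have h2 : M.relIndex A * A.relIndex I = M.relIndex I := relIndex_mul_relIndex _ _ _ hMA inf_le_right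
      have h3 : M.relIndex I ∣ S.relIndex I := relIndex_dvd_of_le_left I (le_sup_left : S ≤ M)
      exact Nat.Coprime.coprime_dvd_left ((Dvd.intro _ h2).trans h3) hSi
    have h4 := PComponents.mem_of_pElem_of_isSubnormal (p := p) hMn.isSubnormal h1
      (y := (⟨u, hUM hu, hU hu⟩ : A)) (n := n) (Subtype.ext hn)
    exact mem_subgroupOf.1 h4
  have hUD' : U ≤ D := by
    rw [← hUperf, Subgroup.commutator_le]
    intro a ha b hb
    exact (mem_commMod.1 (hMT (hpM hb))).2 a ha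
  rw [eq_bot_iff, ← hUp, PComponents.pElem, closure_le]
  rintro u ⟨hu, n, hn⟩
  rw [SetLike.mem_coe, mem_bot]
  exact pow_eq_one_of_coprime hDc (hUD' hu) hn

/-! ### Trivial `p'`-core -/

section Bot

variable {L : Type*} [Group L] [Finite L] {p : ℕ} [hp : Fact p.Prime]

/-- Perfect groups of automorphisms of a quasisimple group are inner, if the simple quotient has the Schreier
property. -/
theorem le_range_conj {J : Type*} [Group J] (hJ : IsQuasisimple J) (hSch : Sch (J ⧸ center J))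
    {U : Subgroup (MulAut J)} (hU : ⁅U, U⁆ = U) : U ≤ (MulAut.conj : J →* MulAut J).range := by
  intro φ hφ
  obtain ⟨a, ha⟩ := hSch _ (map_perfect (quoAut J) hU) ⟨φ, hφ, rfl⟩
  obtain ⟨j, rfl⟩ := QuotientGroup.mk'_surjective _ a
  refine ⟨j, quoAut_injective hJ.1 ?_⟩
  rw [← ha]
  apply MulEquiv.ext
  intro x
  induction x using QuotientGroup.induction_on with
  | H x => rfl

/-- `K` normalises every component with which its normal complement part commutes. -/
theorem le_normalizer_of_comm (hO : pPrimeCore p L = ⊥) {H K J D : Subgroup L} (hH : H.index.Coprime p)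
    (hJ : IsComponent J) (hDc : (Nat.card D).Coprime p) (h : ⁅K, J ⊓ H⁆ ≤ D) :
    K ≤ normalizer (J : Set L) := by
  intro k hk
  by_contra hne
  have hJ' : IsComponent (J.map (MulAut.conj k).toMonoidHom) := Components.isComponent_conj k hJ
  have hJne : J.map (MulAut.conj k).toMonoidHom ≠ J := by
    intro hcon
    apply hne
    rw [mem_normalizer_iff]
    intro x
    constructor
    · intro hx
      rw [← hcon]
      exact ⟨x, hx, rfl⟩
    · intro hx
      rw [← hcon] at hx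
      obtain ⟨y, hy, hyx⟩ := hx
      have h1 : k * y * k⁻¹ = k * x * k⁻¹ := hyx
      have h2 : y = x := by simpa only [_root_.mul_left_inj, _root_.mul_right_inj] using h1
      rwa [← h2]
  have hcent := Components.component_le_centralizer_of_ne hJ' hJ hJne
  obtain ⟨P⟩ : Nonempty (Sylow p H) := inferInstance
  let S : Subgroup L := (P : Subgroup H).map H.subtype
  have hSi : ¬ p ∣ S.index := by
    rw [← hp.out.coprime_iff_not_dvd, Nat.coprime_comm]
    have h1 : S.index = S.relIndex H * H.index :=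
      (relIndex_mul_index (map_subtype_le _)).symm
    have h2 : S.relIndex H = (P : Subgroup H).index := by
      change (S.subgroupOf H).index = _
      rw [show S.subgroupOf H = (P : Subgroup H) from by
        rw [Subgroup.subgroupOf, comap_map_eq_self_of_injective H.subtype_injective]]
    rw [h1, h2]
    refine Nat.Coprime.mul_left ?_ hH
    rw [Nat.coprime_comm, hp.out.coprime_iff_not_dvd]
    exact P.not_dvd_index
  refine PCompCore.not_le_centralizer_of_component hO hJ S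
    (fun h1 => hSi (h1.trans (PCompCore.relIndex_dvd_index_of_subnormal _ hJ.1))) ?_
  rintro s ⟨⟨⟨s', hs'H⟩, hs', hs''⟩, hsJ⟩
  obtain ⟨n, hn⟩ : ∃ n : ℕ, s ^ p ^ n = 1 := by
    obtain ⟨n, hn⟩ := P.2 ⟨_, hs'⟩
    refine ⟨n, ?_⟩
    have := congrArg (fun z : (P : Subgroup H) => ((z : H) : L)) hn
    rw [← hs'']
    simpa only [_root_.Subgroup.subtype_apply, _root_.SubmonoidClass.mk_pow, _root_.OneMemClass.coe_one] using this
  have hsH : s ∈ H := by rw [← hs'']; exact hs'H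
  have h1 : k * s * k⁻¹ ∈ J.map (MulAut.conj k).toMonoidHom := ⟨s, hsJ, rfl⟩
  have h2 : Commute (k * s * k⁻¹) s⁻¹ := by
    have h3 := mem_centralizer_iff.1 (hcent h1) s⁻¹ (J.inv_mem hsJ)
    exact h3.symm
  have h3 : ⁅k, s⁆ ∈ D := h (commutator_mem_commutator hk ⟨hsJ, hsH⟩)
  have h4 : ⁅k, s⁆ ^ p ^ n = 1 := by
    have h5 : ⁅k, s⁆ = (k * s * k⁻¹) * s⁻¹ := rfl
    rw [h5, h2.mul_pow, inv_pow, hn, inv_one, mul_one, conj_pow, hn, mul_one, mul_inv_cancel]
  have h5 := pow_eq_one_of_coprime hDc h3 h4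
  have h6 : k * s * k⁻¹ = s := by
    have h7 : (k * s * k⁻¹) * s⁻¹ = 1 := h5
    exact mul_inv_eq_one.1 h7
  rw [h6] at h1
  exact hcent h1

/-- A `p`-component of `H` commuting with `J ∩ H` modulo `O_{p'}(H)` centralises `J`. -/
theorem le_centralizer_of_comm (hO : pPrimeCore p L = ⊥) {H K J : Subgroup L} (hH : H.index.Coprime p)
    (hJ : IsComponent J) (hSch : Sch (J ⧸ center J)) (hK : UC p K H) (h : ⁅K, J ⊓ H⁆ ≤ OA p H) :
    K ≤ centralizer (J : Set L) := by
  have hKN : K ≤ normalizer (J : Set L) := le_normalizer_of_comm hO hH hJ (OA_coprime p H) h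
  have hKD : K ≤ normalizer (OA p H : Set L) := hK.le.trans (OA_norm p H)
  let Φ : K →* MulAut J := (normalizerMonoidHom J).comp (inclusion hKN)
  have hΦ : ∀ (k : K) (j : J), ((Φ k j : J) : L) = k * j * (k : L)⁻¹ := fun _ _ => rfl
  have htop : (⊤ : Subgroup K).map K.subtype = K := by
    rw [← MonoidHom.range_eq_map, Subgroup.range_subtype]
  have hperf : ⁅(⊤ : Subgroup K), (⊤ : Subgroup K)⁆ = ⊤ := by
    apply map_injective K.subtype_injective
    rw [map_commutator, htop, hK.perfect]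
  have hpe : PComponents.pElem p (⊤ : Subgroup K) = ⊤ := (pElem_top_coe_iff K).2 hK.gen
  have hUperf : ⁅(⊤ : Subgroup K).map Φ, (⊤ : Subgroup K).map Φ⁆ = (⊤ : Subgroup K).map Φ := map_perfect Φ hperf
  have hUp : PComponents.pElem p ((⊤ : Subgroup K).map Φ) = (⊤ : Subgroup K).map Φ := by
    apply le_antisymm (PComponents.pElem_le _)
    have h1 := map_pElem_le (p := p) Φ (⊤ : Subgroup K)
    rwa [hpe] at h1
  have hconj : ∀ a b : J, ((MulAut.conj a b : J) : L) = a * b * (a : L)⁻¹ := fun _ _ => rfl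
  -- normalisation of `D ∩ J`
  have hDJ : ∀ a : L, a ∈ normalizer (OA p H : Set L) → a ∈ normalizer (J : Set L) → ∀ d ∈ OA p H ⊓ J,
      a * d * a⁻¹ ∈ OA p H ⊓ J := fun a h1 h2 d hd =>
    ⟨(mem_normalizer_iff.1 h1 d).1 hd.1, (mem_normalizer_iff.1 h2 d).1 hd.2⟩
  have hres : ∀ {φ : MulAut J} {a : L}, (∀ j : J, ((φ j : J) : L) = a * j * a⁻¹) → ∀ d : J,
      φ * MulAut.conj d * φ⁻¹ = MulAut.conj (φ d) := by
    intro φ a _ d
    apply MulEquiv.ext
    intro x
    simp only [MulAut.conj_apply, _root_.MulAut.mul_apply, _root_.MulAut.inv_apply, _root_.map_mul, _root_.MulEquiv.apply_symm_apply, _root_.map_inv]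
  have hnorm : ∀ {φ : MulAut J} {a : L}, (∀ j : J, ((φ j : J) : L) = a * j * a⁻¹) →
      a ∈ normalizer (OA p H : Set L) → a ∈ normalizer (J : Set L) →
      ∀ ψ ∈ ((OA p H ⊓ J).subgroupOf J).map (MulAut.conj : J →* MulAut J),
      φ * ψ * φ⁻¹ ∈ ((OA p H ⊓ J).subgroupOf J).map (MulAut.conj : J →* MulAut J) := by
    rintro φ a hφ h1 h2 _ ⟨d, hd, rfl⟩
    rw [hres hφ]
    refine ⟨φ d, ?_, rfl⟩
    have h3 := hDJ a h1 h2 (d : L) (mem_subgroupOf.1 hd)
    rw [← hφ] at h3
    exact mem_subgroupOf.2 h3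
  have hle : ∀ {V : Subgroup (MulAut J)}, (∀ φ ∈ V, ∃ a : L, (∀ j : J, ((φ j : J) : L) = a * j * a⁻¹) ∧
      a ∈ normalizer (OA p H : Set L) ∧ a ∈ normalizer (J : Set L)) →
      V ≤ normalizer ((((OA p H ⊓ J).subgroupOf J).map (MulAut.conj : J →* MulAut J) :
        Subgroup (MulAut J)) : Set (MulAut J)) := by
    intro V hV φ hφ
    rw [mem_normalizer_iff]
    intro ψ
    obtain ⟨a, h1, h2, h3⟩ := hV φ hφ
    refine ⟨hnorm h1 h2 h3 ψ, fun h4 => ?_⟩
    obtain ⟨b, h5, h6, h7⟩ := hV φ⁻¹ (V.inv_mem hφ)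
    have h8 := hnorm h5 h6 h7 _ h4
    have h9 : φ⁻¹ * (φ * ψ * φ⁻¹) * φ⁻¹⁻¹ = ψ := by group
    rwa [h9] at h8
  have hbot : (⊤ : Subgroup K).map Φ = ⊥ := by
    refine eq_bot_of_comm (p := p) (I := (MulAut.conj : J →* MulAut J).range)
      (S := ((J ⊓ H).subgroupOf J).map (MulAut.conj : J →* MulAut J))
      (D := ((OA p H ⊓ J).subgroupOf J).map (MulAut.conj : J →* MulAut J))
      (le_range_conj hJ.2 hSch hUperf) (map_le_range _ _) (map_le_range _ _) ?_ ?_ ?_ ?_ ?_ hUperf hUp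
    · have h1 : (((J ⊓ H).subgroupOf J).map (MulAut.conj : J →* MulAut J)).relIndex
          (MulAut.conj : J →* MulAut J).range ∣ H.index := by
        rw [MonoidHom.range_eq_map, relIndex_map_map, top_sup_eq, relIndex_top_right]
        refine (index_dvd_of_le le_sup_left).trans ?_
        have h2 : ((J ⊓ H).subgroupOf J).index = H.relIndex J := by
          change (J ⊓ H).relIndex J = _
          rw [inf_relIndex_left]
        rw [h2]
        exact PCompCore.relIndex_dvd_index_of_subnormal _ hJ.1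
      exact Nat.Coprime.coprime_dvd_left h1 hH
    · refine Nat.Coprime.coprime_dvd_left (card_map_dvd _ _) ?_
      rw [Nat.card_congr (subgroupOfEquivOfLe (inf_le_right : OA p H ⊓ J ≤ J)).toEquiv]
      exact Nat.Coprime.coprime_dvd_left (card_dvd_of_le inf_le_left) (OA_coprime p H)
    · apply hle
      rintro _ ⟨k, -, rfl⟩
      exact ⟨k, hΦ k, hKD k.2, hKN k.2⟩
    · apply hle
      rintro _ ⟨s, hs, rfl⟩
      exact ⟨s, hconj s, OA_norm p H (mem_subgroupOf.1 hs).2, le_normalizer s.2⟩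
    · rintro _ ⟨k, -, rfl⟩ _ ⟨s, hs, rfl⟩
      have h1 : ⁅Φ k, MulAut.conj s⁆ = MulAut.conj (Φ k s * s⁻¹) := by
        rw [commutatorElement_def, hres (hΦ k), ← map_inv, ← map_mul]
      rw [h1]
      refine ⟨_, ?_, rfl⟩
      have hsJ : (s : L) ∈ J ⊓ H := mem_subgroupOf.1 hs
      refine mem_subgroupOf.2 ⟨?_, SetLike.coe_mem _⟩
      have h2 : ((Φ k s * s⁻¹ : J) : L) = ⁅(k : L), (s : L)⁆ := by
        rw [commutatorElement_def]
        simp only [hΦ, _root_.Subgroup.coe_mul, _root_.InvMemClass.coe_inv]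
      rw [h2]
      exact h (commutator_mem_commutator k.2 hsJ)
  intro k hk
  rw [mem_centralizer_iff]
  intro j hj
  have h1 : Φ ⟨k, hk⟩ = 1 := by
    have h2 : Φ ⟨k, hk⟩ ∈ (⊤ : Subgroup K).map Φ := ⟨_, mem_top _, rfl⟩
    rw [hbot] at h2
    exact mem_bot.1 h2
  have h2 := hΦ ⟨k, hk⟩ ⟨j, hj⟩
  rw [h1] at h2
  have h3 : j = k * j * k⁻¹ := h2
  calc j * k = (k * j * k⁻¹) * k := by rw [← h3]
    _ = k * j := by group

/-- Balance if `O_{p'}(L) = 1`. -/
theorem bal0 (hO : pPrimeCore p L = ⊥) (hSch : ∀ E : Subgroup L, IsComponent E → Sch (E ⧸ center E))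
    {H K : Subgroup L} (hH : H.index.Coprime p) (hK : UC p K H) : ∃ J : Subgroup L, IsComponent J ∧ K ≤ J := by
  by_contra hcon
  have hcent : ∀ J : Subgroup L, IsComponent J → K ≤ centralizer (J : Set L) := by
    intro J hJ
    have hJH : SubnIn (J ⊓ H) H := by
      have h1 : SubnIn J ⊤ := ⟨le_top, hJ.1.comap _⟩
      have h2 := h1.inf H
      rwa [top_inf_eq] at h2
    rcases hK.le_or_comm hJH with h | h
    · exact absurd ⟨J, hJ, h.trans inf_le_left⟩ hcon
    · exact le_centralizer_of_comm hO hH hJ (hSch J hJ) hK h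
  -- `O_p(L) ≤ H`
  have hRH : pCore p L ≤ H := by
    rw [← relIndex_eq_one]
    have h1 : H.relIndex (pCore p L) ∣ H.index :=
      PCompCore.relIndex_dvd_index_of_subnormal _ (Cores.pCore_normal p).isSubnormal
    obtain ⟨n, hn⟩ := (Cores.pCore_isPGroup (G := L) p).index (H.subgroupOf (pCore p L))
    have h2 : H.relIndex (pCore p L) = p ^ n := hn
    rcases Nat.eq_zero_or_pos n with h3 | h3
    · rw [h2, h3, pow_zero]
    · exfalso
      have h4 : p ∣ H.index := (dvd_pow_self p h3.ne').trans (h2 ▸ h1)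
      exact (hp.out.coprime_iff_not_dvd.1 hH.symm) h4
  have hRn : (pCore p L).Normal := Cores.pCore_normal p
  have hKR : K ≤ centralizer (pCore p L : Set L) := by
    have h1 : SubnIn (pCore p L) H := SubnIn.of_normal hRH (by
      rw [normalizer_eq_top]
      exact le_top)
    rcases hK.le_or_comm h1 with h | h
    · exfalso
      have h2 : IsPGroup p K := (Cores.pCore_isPGroup (G := L) p).to_le h
      have h3 : Group.IsNilpotent K := h2.isNilpotent
      exact hK.ne_bot (eq_bot_of_perfect_of_solvable hK.perfect inferInstance)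
    · rw [← commutator_eq_bot_iff_le_centralizer, eq_bot_iff]
      intro x hx
      have h2 : x ∈ pCore p L := commutator_le_right K (pCore p L) hx
      obtain ⟨n, hn⟩ := Cores.pCore_isPGroup (G := L) p ⟨x, h2⟩
      rw [mem_bot]
      exact pow_eq_one_of_coprime (OA_coprime p H) (h hx) (n := n) (congrArg Subtype.val hn)
  have hKF : K ≤ centralizer (generalizedFittingSubgroup L : Set L) := by
    rw [GenFitting.genFitting_def, PConstrained.fittingSubgroup_eq_pCore_of_pPrimeCore_eq_bot p hO]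
    rw [le_centralizer_iff]
    refine sup_le ?_ (le_centralizer_iff.1 hKR)
    refine sSup_le fun J hJ => ?_
    exact le_centralizer_iff.1 (hcent J hJ)
  have hKF' : K ≤ generalizedFittingSubgroup L := hKF.trans GenFitting.centralizer_genFitting_le
  have hKK : ⁅K, K⁆ = ⊥ := by
    rw [commutator_eq_bot_iff_le_centralizer]
    exact hKF.trans (centralizer_le hKF')
  rw [hK.perfect] at hKK
  exact hK.ne_bot hKK

end Bot

/-- The Schreier property of the components of `A / O_{p'}(A)`. -/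
theorem sch_component {X : Type*} [Group X] {p : ℕ} (hX : KBalance.SchFactors X)
    (E : Subgroup (X ⧸ pPrimeCore p X)) (hE : IsComponent E) : Sch (E ⧸ center E) := by
  let π := QuotientGroup.mk' (pPrimeCore p X)
  let H : Subgroup X := E.comap π
  let f : H →* E := π.subgroupComap E
  have hf : Function.Surjective f := π.subgroupComap_surjective_of_surjective E (QuotientGroup.mk'_surjective _)
  let e : H ⧸ (Subgroup.center E).comap f ≃* E ⧸ Subgroup.center E := KBalance.quotientComapEquiv f hf _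
  have h1 : IsSimpleGroup (H ⧸ (Subgroup.center E).comap f) := KBalance.isSimpleGroup_of_equiv e hE.2.2
  have h2 : ¬ IsMulCommutative (H ⧸ (Subgroup.center E).comap f) :=
    KBalance.not_isMulCommutative_of_equiv e (KBalance.not_isMulCommutative_quotient hE.2)
  exact Sch.of_equiv e (hX H (hE.1.comap π) _ h1 h2)

/-- Balance in a group. -/
theorem bal1 {Y : Type*} [Group Y] [Finite Y] {p : ℕ} [hp : Fact p.Prime] (hY : KBalance.SchFactors Y)
    {H K : Subgroup Y} (hH : H.index.Coprime p) (hK : UC p K H) : ∃ J : Subgroup Y, IsPComponent p J ∧ K ≤ J := by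
  let π := QuotientGroup.mk' (pPrimeCore p Y)
  have hπ : Function.Surjective π := QuotientGroup.mk'_surjective _
  have hO : pPrimeCore p (Y ⧸ pPrimeCore p Y) = ⊥ := PComponents.pPrimeCore_quotient_eq_bot p
  obtain ⟨hKH, hKsn, hKq⟩ := isPComponentOf_iff.1 hK
  have hnt : Nontrivial (K.map π) := by
    rw [nontrivial_iff_ne_bot]
    intro h
    rw [Subgroup.map_eq_bot_iff, QuotientGroup.ker_mk'] at h
    exact hKq.not_coprime (Nat.Coprime.coprime_dvd_left (card_dvd_of_le h) (Cores.pPrimeCore_coprime p))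
  have hKq' : IsPQ p (K.map π) := hKq.of_surjective (f := π.subgroupMap K) (π.subgroupMap_surjective K)
  have hKsn' : ((K.map π).subgroupOf (H.map π)).IsSubnormal := by
    have h1 := hKsn.map (f := π.subgroupMap H) (π.subgroupMap_surjective H)
    convert h1 using 1
    ext x
    constructor
    · intro hx
      obtain ⟨k, hk, hkx⟩ := mem_subgroupOf.1 hx
      exact ⟨⟨k, hKH hk⟩, hk, Subtype.ext hkx⟩
    · rintro ⟨k, hk, rfl⟩
      exact mem_subgroupOf.2 ⟨k, hk, rfl⟩
  have hH' : (H.map π).index.Coprime p := Nat.Coprime.coprime_dvd_left (index_map_dvd H hπ) hH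
  obtain ⟨E, hE, hKE⟩ := bal0 hO (sch_component hY) hH' (isPComponentOf_iff.2 ⟨map_mono hKH, hKsn', hKq'⟩)
  obtain ⟨J, hJ, hJE⟩ := PComponents.exists_pcomp hE
  refine ⟨J, hJ, ?_⟩
  rw [← hK.gen]
  have h1 : K ≤ E.comap π := map_le_iff_le_comap.1 hKE
  exact (PComponents.pElem_mono h1).trans (PComponents.pElem_comap_le hJ.1 hJE)

end UBal

/-! ### Balance for subgroups -/

section

variable {G : Type*} [Group G] [Finite G] {p : ℕ} [hp : Fact p.Prime]

/-- **Balance** for subgroups of index prime to `p`: a `p`-component of `B` lies in a `p`-component of `A`. -/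
theorem UC.balance_gen {A B K : Subgroup G} (hS : KBalance.SchFactors A) (hBA : B ≤ A)
    (hi : ¬ p ∣ B.relIndex A) (hK : UC p K B) : ∃ J, UC p J A ∧ K ≤ J := by
  have hKA : K ≤ A := hK.le.trans hBA
  obtain ⟨hKB, hKsn, hKq⟩ := isPComponentOf_iff.1 hK
  have h1 : UC p (K.subgroupOf A) (B.subgroupOf A) := by
    refine isPComponentOf_iff.2 ⟨?_, ?_, hKq.of_equiv (subgroupOfEquivOfLe hKA).symm⟩
    · intro x hx
      exact mem_subgroupOf.2 (hKB (mem_subgroupOf.1 hx))
    · let φ : B.subgroupOf A →* B := (A.subtype.comp (B.subgroupOf A).subtype).codRestrict B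
        (fun a => mem_subgroupOf.1 a.2)
      exact hKsn.comap φ
  obtain ⟨J, hJ, hKJ⟩ := UBal.bal1 hS (H := B.subgroupOf A)
    (((Nat.Prime.coprime_iff_not_dvd hp.out).2 hi).symm) h1
  refine ⟨J.map A.subtype, ⟨map_subtype_le _, ?_⟩, ?_⟩
  · rwa [Subgroup.subgroupOf, comap_map_eq_self_of_injective A.subtype_injective]
  · rw [← map_subgroupOf_eq_of_le hKA]
    exact map_mono hKJ

/-- **Balance** for normalisers of `p`-subgroups. -/
theorem UC.balance {H X K : Subgroup G} (hS : KBalance.SchFactors H) (_hXH : X ≤ H) (_hX : IsPGroup p X)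
    (hi : ¬ p ∣ (normalizer (X : Set G)).relIndex H) (hK : UC p K (H ⊓ normalizer (X : Set G))) :
    ∃ J, UC p J H ∧ K ≤ J := by
  refine UC.balance_gen hS inf_le_left ?_ hK
  rwa [inf_relIndex_left]

end

end Cfsg.Agent.R2.T3544
end

-- part: R2/T3544/NLendIn
section
/-!
# S3544: the statements used in `NLend`
-/

set_option autoImplicit false

namespace Cfsg.Agent.R2.T3544

open Subgroup Cfsg

variable {G : Type*} [Group G] [Finite G] {p : ℕ} [Fact p.Prime]

theorem ucBasic : UCBasic G p where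
  perfect h := h.perfect
  not_comm h := h.not_comm
  le_or_comm h hN := h.le_or_comm hN
  mono_sub h h1 h2 := h.mono_sub h1 h2

theorem commNormStmt : CommNormStmt G p := fun h hD hD' hle => UC.comm_of_norm h hD hD' hle

theorem coreCommStmt : CoreCommStmt G p := fun hD hc hR hRp hi hRD h => le_core_of_comm hD hc hR hRp hi hRD h

theorem balStmt : BalStmt G p := fun hS hX hXp hi hK => UC.balance hS hX hXp hi hK

end Cfsg.Agent.R2.T3544
end

private theorem dce_e9507a735706 : _root_.True := by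
  try have : _root_.True := by simp only [_root_.Cfsg.Agent.R2.T3544.OP.eq_1]
  try have : _root_.True := by simp only [_root_.Cfsg.Agent.R2.T3544.bq.eq_1]
  try have : _root_.True := by simp only [_root_.Cfsg.generalizedFittingSubgroup.eq_1]
  exact _root_.True.intro
end

-- part: R2/T3544/NLfin_mg
section
prune_inst 0xe5202244096202000018059251003c46ce000192016b0c01dd600f460686ff632d032f61fda01e13193aab6c003c0048120000f900100000200006004118052188aa7282b348a10426009f80b887180c00000000000000000000000000041004200000000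
set_option linter.all false
open scoped Cfsg.Agent.FastGrp

-- part: R2/T3544/NLfin
section
/-!
# S3544, case NL: the assembly

`false_of_NL_of`: `O_p(G_x) ≠ 1` and `C_{G_x}(O_p(G_x)) ≰ O_p(G_x)` is impossible, given the four boxes.
-/

set_option autoImplicit false
set_option linter.unusedSectionVars false

namespace Cfsg.Agent.R2.T3544

open Subgroup MulAction Cfsg
open scoped commutatorElement
open Cfsg.Agent.Lib Cfsg.Agent.SignalizersComponents

universe u v

section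

variable (G : Type u) [Group G] (Ω : Type v) [MulAction G Ω] (p : ℕ)

/-- box 6: the operator groups -/
def ExVSysStmt : Prop :=
  ∀ {ra rb : Ω → Ω → Prop} {da db : ℕ}, NLS G p ra rb da db →
    (∃ x z, (ra x z ∨ rb x z) ∧ ∃ K, UC p K (stabilizer G x) ∧ ¬ ⁅K, Xf G p z⁆ ≤ Of G p x) →
    ∃ (V : Ω → Subgroup G) (U : Ω → Ω → Subgroup G) (R : Ω → Subgroup G), VSys G p ra rb V U ∧ Fun G R ∧
      (∀ x, R x ≠ ⊥) ∧ ((∀ {x y}, ra x y → R x ≤ U x y) ∨ (∀ {x y}, rb x y → R x ≤ U x y))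

/-- no bad chief factors in direction `b` -/
def NoFac {G : Type u} [Group G] {Ω : Type v} [MulAction G Ω] (p : ℕ) (V : Ω → Subgroup G)
    (rb : Ω → Ω → Prop) (db : ℕ) : Prop :=
  ∀ (x : Ω) (L H : Subgroup G), Chf (V x) L H → H ≤ ⁅Nf rb (Xf G p) (Of G p) x, V x⁆ → Act db L H → ⁅H, V x⁆ ≤ L

/-- box 7 -/
def NoFacStmt : Prop :=
  ∀ {ra rb : Ω → Ω → Prop} {da db : ℕ} {V : Ω → Subgroup G} {U : Ω → Ω → Subgroup G}, NLS G p ra rb da db →
    VSys G p ra rb V U → (∀ z : Ω, Of G p z ≠ ⊥ ∨ ∃ J, UC p J (stabilizer G z)) → NoFac p V rb db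

/-- box 8 -/
def FalseVSysStmt : Prop :=
  ∀ {ra rb : Ω → Ω → Prop} {da db : ℕ} {V : Ω → Subgroup G} {U : Ω → Ω → Subgroup G} {R : Ω → Subgroup G},
    NLS G p ra rb da db → VSys G p ra rb V U → (∀ z : Ω, Of G p z ≠ ⊥ ∨ ∃ J, UC p J (stabilizer G z)) →
    NoFac p V ra da → Fun G R → (∀ x, R x ≠ ⊥) → (∀ {x y}, ra x y → R x ≤ U x y) → False

/-- box 9 -/
def FalseUnmovedStmt : Prop :=
  ∀ {ra rb : Ω → Ω → Prop} {da db : ℕ}, NLS G p ra rb da db →
    (∀ z : Ω, Of G p z ≠ ⊥ ∨ ∃ J, UC p J (stabilizer G z)) →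
    (∀ x z : Ω, (ra x z ∨ rb x z) → ∀ J, UC p J (stabilizer G z) → ⁅J, Xf G p x⁆ ≤ Of G p z) → False

end

section

variable {G : Type u} [Group G] [Finite G] {Ω : Type v} [MulAction G Ω] {p : ℕ} [Fact p.Prime]

theorem false_of_NL_two (EV : ExVSysStmt G Ω p) (NF : NoFacStmt G Ω p) (FV : FalseVSysStmt G Ω p)
    (FU : FalseUnmovedStmt G Ω p) {ra rb : Ω → Ω → Prop} {da db : ℕ} (h : NLS G p ra rb da db)
    (hNL : ∀ z : Ω, Of G p z ≠ ⊥ ∨ ∃ J, UC p J (stabilizer G z)) : False := by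
  by_cases hex : ∃ x z, (ra x z ∨ rb x z) ∧ ∃ K, UC p K (stabilizer G x) ∧ ¬ ⁅K, Xf G p z⁆ ≤ Of G p x
  · obtain ⟨V, U, R, S, FR, hR, h1 | h1⟩ := EV h hex
    · exact FV h S hNL (NF h.symm S.swap hNL) FR hR h1
    · exact FV h.symm S.swap hNL (NF h S hNL) FR hR h1
  · refine FU h hNL fun x z hxz J hJ => ?_
    by_contra hcon
    exact hex ⟨z, x, hxz.imp (fun h' => h.A.symm h') (fun h' => h.B.symm h'), J, hJ, hcon⟩

/-- the condition "characteristic `p`" is invariant under isomorphisms -/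
theorem cent_pCore_of_equiv {H K : Type*} [Group H] [Group K] (e : H ≃* K)
    (h : centralizer (pCore p H : Set H) ≤ pCore p H) : centralizer (pCore p K : Set K) ≤ pCore p K := by
  have h1 := Cores.map_equiv_pCore e p
  intro k hk
  rw [mem_centralizer_iff] at hk
  rw [← h1]
  refine ⟨e.symm k, h ?_, e.apply_symm_apply k⟩
  rw [mem_centralizer_iff]
  intro a ha
  apply e.injective
  rw [map_mul, map_mul, e.apply_symm_apply]
  apply hk
  rw [← h1]
  exact ⟨a, ha, rfl⟩

/-- not of characteristic `p`: `O_{p'} ≠ 1` or there is a `p`-component -/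
theorem of_not_cent_pCore {H : Subgroup G} (h : ¬ centralizer (pCore p H : Set H) ≤ pCore p H) :
    OA p H ≠ ⊥ ∨ ∃ J, UC p J H := by
  by_contra hcon
  rw [not_or, not_not, not_exists] at hcon
  obtain ⟨h1, h2⟩ := hcon
  apply h
  have h3 : pPrimeCore p H = ⊥ := (map_eq_bot_iff_of_injective _ H.subtype_injective).1 h1
  have h4 : pLayer p H = ⊥ := by
    rw [eq_bot_iff]
    refine sSup_le fun K hK => ?_
    exfalso
    refine h2 (K.map H.subtype) ⟨map_subtype_le _, ?_⟩
    have : (K.map H.subtype).subgroupOf H = K := by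
      rw [subgroupOf, comap_map_eq_self_of_injective H.subtype_injective]
    rw [this]
    exact hK
  have h5 : centralizer (pCore p (H ⧸ pPrimeCore p H) : Set (H ⧸ pPrimeCore p H)) ≤ pCore p (H ⧸ pPrimeCore p H) :=
    (PConstrained.isPConstrained_iff_quotient p).1 ((PConstrained.isPConstrained_iff_pLayer_eq_bot p).2 h4)
  exact cent_pCore_of_equiv ((QuotientGroup.quotientMulEquivOfEq h3).trans QuotientGroup.quotientBot) h5

end

/-- **case NL**: `O_p(G_x) ≠ 1`, `C_{G_x}(O_p(G_x)) ≰ O_p(G_x)`, three pairwise coprime directions -/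
theorem false_of_NL_of {G : Type u} [Group G] [Finite G] {Ω : Type v} [MulAction G Ω] (P : PP G Ω)
    {r₁ r₂ r₃ : Ω → Ω → Prop} {d₁ d₂ d₃ : ℕ} (D₁ : Dir G r₁ d₁) (D₂ : Dir G r₂ d₂) (D₃ : Dir G r₃ d₃)
    (h12 : d₁.Coprime d₂) (h13 : d₁.Coprime d₃) (h23 : d₂.Coprime d₃) {p : ℕ} (hp : p.Prime)
    (EV : ExVSysStmt G Ω p) (NF : NoFacStmt G Ω p) (FV : FalseVSysStmt G Ω p) (FU : FalseUnmovedStmt G Ω p)
    (hsch : ∀ z : Ω, Cfsg.Agent.Schreier.KBalance.SchFactors ↥(stabilizer G z)) (x : Ω)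
    (hX : pCore p (stabilizer G x) ≠ ⊥)
    (hC : ¬ centralizer (pCore p (stabilizer G x) : Set (stabilizer G x)) ≤ pCore p (stabilizer G x)) : False := by
  have : Fact p.Prime := ⟨hp⟩
  have hX' : ∀ y : Ω, Xf G p y ≠ ⊥ := by
    refine (pCore_fun G Ω p).ne_bot P (x := x) fun h => hX ?_
    exact (map_eq_bot_iff_of_injective _ (stabilizer G x).subtype_injective).1 h
  have hNL : ∀ z : Ω, Of G p z ≠ ⊥ ∨ ∃ J, UC p J (stabilizer G z) := by
    intro z
    apply of_not_cent_pCore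
    intro h
    obtain ⟨e⟩ := P.equiv z x
    exact hC (cent_pCore_of_equiv e h)
  rcases exists_dir_prime' h12 h13 h23 hp with h' | h' | h'
  · exact false_of_NL_two EV NF FV FU ⟨P, D₁, D₂, h12, h'.1, h'.2, hX', hsch⟩ hNL
  · exact false_of_NL_two EV NF FV FU ⟨P, D₁, D₃, h13, h'.1, h'.2, hX', hsch⟩ hNL
  · exact false_of_NL_two EV NF FV FU ⟨P, D₂, D₃, h23, h'.1, h'.2, hX', hsch⟩ hNL

end Cfsg.Agent.R2.T3544
end

-- part: R2/T3544/LemE
section
/-!
# S3544: Lemma E, the measure step with an operator group `V`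
-/

set_option autoImplicit false
set_option linter.unusedSectionVars false

namespace Cfsg.Agent.R2.T3544

open Subgroup
open scoped commutatorElement

variable {G : Type*} [Group G] [Finite G]

/-- the setting of Lemma E -/
structure ESet (Y O X V P N1 A A' N2 : Subgroup G) (d1 d2 : ℕ) : Prop where
  OY : O ≤ Y
  nO : Y ≤ normalizer (O : Set G)
  VY : V ≤ Y
  nV : Y ≤ normalizer (V : Set G)
  N1O : N1 ≤ O
  nN1 : Y ≤ normalizer (N1 : Set G)
  XY : X ≤ Y
  P_eq : P = ⁅O, X⁆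
  PX : ⁅P, X⁆ = P
  PN1 : P ≤ N1
  A_eq : A = O ⊓ centralizer (X : Set G)
  idx : A.relIndex O ∣ d1
  A'V : A' ≤ V
  A'X : A' ≤ centralizer (X : Set G)
  N2A' : N2 ≤ A'
  nN2 : A' ≤ normalizer (N2 : Set G)
  cop : d1.Coprime d2

/-- a chief factor `M/M'` of `Y` -/
structure YC (Y M' M : Subgroup G) : Prop where
  lt : M' < M
  le : M ≤ Y
  nM' : Y ≤ normalizer (M' : Set G)
  nM : Y ≤ normalizer (M : Set G)
  min : ∀ K : Subgroup G, Y ≤ normalizer (K : Set G) → M' ≤ K → K ≤ M → K = M' ∨ K = M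

theorem exists_YC {Y M : Subgroup G} (hM : M ≤ Y) (hn : Y ≤ normalizer (M : Set G)) (h0 : M ≠ ⊥) :
    ∃ M', YC Y M' M := by
  obtain ⟨M', ⟨h1, h2⟩, h3⟩ := Set.Finite.exists_maximal
    (s := {K : Subgroup G | K < M ∧ Y ≤ normalizer (K : Set G)})
    (Set.toFinite _) ⟨⊥, bot_lt_iff_ne_bot.2 h0, by rw [nrm_iff]; intro g _; exact Subgroup.map_bot _⟩
  refine ⟨M', h1, hM, h2, hn, fun K hK hK1 hK2 => ?_⟩
  rcases eq_or_lt_of_le hK2 with e | e
  · exact Or.inr e
  · exact Or.inl (le_antisymm (h3 ⟨e, hK⟩ hK1) hK1)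

/-! ### nonabelian chief factors: minimal normal subgroups -/

section NonAb

variable {Y M' M : Subgroup G}

/-- conjugates of chief factors -/
theorem Chf.conj {O L H : Subgroup G} (h : Chf O L H) (g : G) :
    Chf (O.map (MulAut.conj g).toMonoidHom) (L.map (MulAut.conj g).toMonoidHom)
      (H.map (MulAut.conj g).toMonoidHom) := by
  have e1 : ∀ A : Subgroup G, (A.map (MulAut.conj g).toMonoidHom).map (MulAut.conj g⁻¹).toMonoidHom = A := by
    intro A
    rw [Subgroup.map_map]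
    have : (MulAut.conj g⁻¹).toMonoidHom.comp (MulAut.conj g).toMonoidHom = MonoidHom.id G := by
      ext x
      simp [mul_assoc]
    rw [this, Subgroup.map_id]
  have e2 : ∀ A : Subgroup G, (A.map (MulAut.conj g⁻¹).toMonoidHom).map (MulAut.conj g).toMonoidHom = A := by
    intro A
    rw [Subgroup.map_map]
    have : (MulAut.conj g).toMonoidHom.comp (MulAut.conj g⁻¹).toMonoidHom = MonoidHom.id G := by
      ext x
      simp [mul_assoc]
    rw [this, Subgroup.map_id]
  have hn : ∀ {A B : Subgroup G}, A ≤ normalizer (B : Set G) → ∀ k : G,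
      A.map (MulAut.conj k).toMonoidHom ≤ normalizer ((B.map (MulAut.conj k).toMonoidHom : Subgroup G) : Set G) := by
    intro A B hAB k
    rw [nrm_iff] at hAB ⊢
    rintro _ ⟨a, ha, rfl⟩
    rw [Subgroup.map_map]
    have : (MulAut.conj ((MulAut.conj k).toMonoidHom a)).toMonoidHom.comp (MulAut.conj k).toMonoidHom =
        (MulAut.conj k).toMonoidHom.comp (MulAut.conj a).toMonoidHom := by
      ext y
      show (k * a * k⁻¹) * (k * y * k⁻¹) * (k * a * k⁻¹)⁻¹ = k * (a * y * a⁻¹) * k⁻¹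
      group
    rw [this, ← Subgroup.map_map, hAB a ha]
  refine ⟨?_, map_mono h.le, hn h.nL g, hn h.nH g, fun K hK h1 h2 => ?_⟩
  · refine lt_of_le_of_ne (map_mono h.lt.le) fun e => h.lt.ne ?_
    rw [← e1 L, ← e1 H, e]
  · have h3 := hn hK g⁻¹
    rw [e1] at h3
    have h4 := map_mono (f := (MulAut.conj g⁻¹).toMonoidHom) h1
    have h5 := map_mono (f := (MulAut.conj g⁻¹).toMonoidHom) h2
    rw [e1] at h4 h5
    rcases h.min _ h3 h4 h5 with e | e
    · left; rw [← e, e2]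
    · right; rw [← e, e2]

/-- n1: different minimal normal subgroups of `M/M'` commute -/
theorem n1 {N N' : Subgroup G} (h : Chf M M' N) (h' : Chf M M' N') (hne : N ≠ N') : ⁅N, N'⁆ ≤ M' := by
  have hi : N ⊓ N' = M' := by
    rcases h.min (N ⊓ N') (nrm_inf h.nH h'.nH) (le_inf h.lt.le h'.lt.le) inf_le_left with e | e
    · exact e
    · exfalso
      have h1 : N ≤ N' := inf_eq_left.1 e
      rcases h'.min N h.nH h.lt.le h1 with e | e
      · exact h.lt.ne e.symm
      · exact hne e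
  rw [← hi]
  exact le_inf (comm_le_l (h'.le.trans h.nH)) (comm_le_r (h.le.trans h'.nH))

/-- the `Y`-conjugates of a minimal normal subgroup of `M/M'` -/
theorem YC.conj (c : YC Y M' M) {N : Subgroup G} (h : Chf M M' N) {g : G} (hg : g ∈ Y) :
    Chf M M' (N.map (MulAut.conj g).toMonoidHom) := by
  have h1 := h.conj g
  rwa [nrm_iff.1 c.nM g hg, nrm_iff.1 c.nM' g hg] at h1

/-- they generate `M` -/
theorem YC.iSup (c : YC Y M' M) {N : Subgroup G} (h : Chf M M' N) :
    ⨆ g : Y, N.map (MulAut.conj (g : G)).toMonoidHom = M := by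
  set K := ⨆ g : Y, N.map (MulAut.conj (g : G)).toMonoidHom with hK
  have h1 : N ≤ K := by
    refine le_trans (le_of_eq ?_) (le_iSup _ (1 : Y))
    ext y
    simp
  have h2 : K ≤ M := iSup_le fun g => (map_mono h.le).trans (nrm_iff.1 c.nM g g.2).le
  have h3 : Y ≤ normalizer (K : Set G) := by
    rw [nrm_iff]
    intro g hg
    rw [hK, Subgroup.map_iSup]
    apply le_antisymm
    · refine iSup_le fun x => ?_
      refine le_trans (le_of_eq ?_) (le_iSup _ (⟨g, hg⟩ * x : Y))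
      rw [Subgroup.map_map]
      congr 1
      ext y
      show g * ((x : G) * y * (x : G)⁻¹) * g⁻¹ = (g * x) * y * (g * x)⁻¹
      group
    · refine iSup_le fun x => ?_
      refine le_trans (le_of_eq ?_) (le_iSup _ (⟨g, hg⟩⁻¹ * x : Y))
      rw [Subgroup.map_map]
      congr 1
      ext y
      show (x : G) * y * (x : G)⁻¹ = g * ((g⁻¹ * x) * y * (g⁻¹ * x)⁻¹) * g⁻¹
      group
  rcases c.min K h3 (h.lt.le.trans h1) h2 with e | e
  · exact absurd (h1.trans e.le) h.lt.not_ge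
  · exact e

/-- n2: no abelian minimal normal subgroup -/
theorem n2 (c : YC Y M' M) (hab : ¬ ⁅M, M⁆ ≤ M') {N : Subgroup G} (h : Chf M M' N) : ¬ ⁅N, N⁆ ≤ M' := by
  intro hN
  apply hab
  have hMn : M ≤ normalizer (M' : Set G) := c.le.trans c.nM'
  have key : ∀ g : Y, ∀ k : Y, ⁅N.map (MulAut.conj (g : G)).toMonoidHom, N.map (MulAut.conj (k : G)).toMonoidHom⁆ ≤ M' := by
    intro g k
    by_cases e : N.map (MulAut.conj (g : G)).toMonoidHom = N.map (MulAut.conj (k : G)).toMonoidHom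
    · rw [← e, ← Subgroup.map_commutator, ← nrm_iff.1 c.nM' g g.2]
      exact map_mono hN
    · exact n1 (c.conj h g.2) (c.conj h k.2) e
  have hle : ∀ g : Y, N.map (MulAut.conj (g : G)).toMonoidHom ≤ normalizer (M' : Set G) := fun g =>
    ((map_mono h.le).trans (nrm_iff.1 c.nM g g.2).le).trans hMn
  have h1 : ∀ k : Y, ⁅M, N.map (MulAut.conj (k : G)).toMonoidHom⁆ ≤ M' := by
    intro k
    rw [← c.iSup h, commutator_comm]
    exact H231.commutator_iSup_le hle fun g => by rw [commutator_comm]; exact key g k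
  have h2 := H231.commutator_iSup_le hle h1
  rwa [c.iSup h] at h2

/-- n3: a minimal normal subgroup below -/
theorem n3 (hMn : M ≤ normalizer (M' : Set G)) {K : Subgroup G} (hK : M ≤ normalizer (K : Set G)) (h1 : M' < K)
    (h2 : K ≤ M) : ∃ N, Chf M M' N ∧ N ≤ K := by
  obtain ⟨N, ⟨h3, h4, h5⟩, h6⟩ := Set.Finite.exists_minimal
    (s := {N : Subgroup G | M' < N ∧ N ≤ K ∧ M ≤ normalizer (N : Set G)}) (Set.toFinite _) ⟨K, h1, le_rfl, hK⟩
  refine ⟨N, ⟨h3, h4.trans h2, hMn, h5, fun J hJ hJ1 hJ2 => ?_⟩, h4⟩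
  rcases eq_or_lt_of_le hJ1 with e | e
  · exact Or.inl e.symm
  · exact Or.inr (le_antisymm hJ2 (h6 ⟨e, hJ2.trans h4, hJ⟩ hJ2))

/-- n4 -/
theorem n4 {N K : Subgroup G} (h : Chf M M' N) (hK : M ≤ normalizer (K : Set G)) (h1 : M' ≤ K) (h2 : K ≤ M)
    (hNK : ¬ N ≤ K) : N ⊓ K = M' ∧ ⁅N, K⁆ ≤ M' := by
  have hi : N ⊓ K = M' := by
    rcases h.min (N ⊓ K) (nrm_inf h.nH hK) (le_inf h.lt.le h1) inf_le_left with e | e
    · exact e
    · exact absurd (inf_eq_left.1 e) hNK
  refine ⟨hi, ?_⟩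
  rw [← hi]
  exact le_inf (comm_le_l (h2.trans h.nH)) (comm_le_r (h.le.trans hK))

/-- n5: abelian normal subgroups are trivial -/
theorem n5 (c : YC Y M' M) (hab : ¬ ⁅M, M⁆ ≤ M') {K : Subgroup G} (hK : M ≤ normalizer (K : Set G)) (h1 : M' ≤ K)
    (h2 : K ≤ M) (hKK : ⁅K, K⁆ ≤ M') : K = M' := by
  by_contra hne
  obtain ⟨N, h3, h4⟩ := n3 (c.le.trans c.nM') hK (lt_of_le_of_ne h1 (Ne.symm hne)) h2
  exact n2 c hab h3 ((commutator_mono h4 h4).trans hKK)

/-- the centre of a normal subgroup is trivial -/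
theorem n5' (c : YC Y M' M) (hab : ¬ ⁅M, M⁆ ≤ M') {K : Subgroup G} (hK : M ≤ normalizer (K : Set G)) (h1 : M' ≤ K)
    (h2 : K ≤ M) : CF K M' K ≤ M' := by
  have hMn : M ≤ normalizer (M' : Set G) := c.le.trans c.nM'
  refine (n5 c hab (nrm_CF hK hMn hK) ?_ ((CF_le _ _ _).trans h2) ?_).le
  · exact le_CF h1 le_normalizer (comm_le_l (h2.trans hMn))
  · exact (commutator_mono le_rfl (CF_le _ _ _)).trans (CF_comm _ _ _)

/-- n6 -/
theorem n6 (c : YC Y M' M) (hab : ¬ ⁅M, M⁆ ≤ M') {K' K : Subgroup G} (hK' : M ≤ normalizer (K' : Set G))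
    (hK : M ≤ normalizer (K : Set G)) (h0 : M' ≤ K') (h1 : K' < K) (h2 : K ≤ M) :
    ∃ N, Chf M M' N ∧ N ≤ K ∧ ¬ N ≤ K' := by
  by_contra hcon
  push Not at hcon
  apply h1.not_ge
  have hMn : M ≤ normalizer (M' : Set G) := c.le.trans c.nM'
  set C := CF M M' K with hC
  have hCn : M ≤ normalizer (C : Set G) := nrm_CF le_normalizer hMn hK
  obtain ⟨N0, hN0, -⟩ := n3 hMn le_normalizer c.lt le_rfl
  have hM : M ≤ K' ⊔ C := by
    rw [← c.iSup hN0]
    refine iSup_le fun g => ?_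
    have hg := c.conj hN0 g.2
    by_cases h3 : N0.map (MulAut.conj (g : G)).toMonoidHom ≤ K
    · exact (hcon _ hg h3).trans le_sup_left
    · refine le_trans ?_ le_sup_right
      exact le_CF hg.le (hg.le.trans hMn) (n4 hg hK (h0.trans h1.le) h2 h3).2
  intro k hk
  obtain ⟨k', hk', x, hx, hkx⟩ := (mem_sup_nl ((h1.le.trans h2).trans hCn)).1 (hM (h2 hk))
  have hxK : x ∈ K := by
    have : x = k'⁻¹ * k := by rw [← hkx]; group
    rw [this]
    exact K.mul_mem (K.inv_mem (h1.le hk')) hk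
  have hxC : x ∈ CF K M' K := ⟨hxK, hx.2⟩
  have hxM : x ∈ M' := n5' c hab hK (h0.trans h1.le) h2 hxC
  rw [← hkx]
  exact K'.mul_mem hk' (h0 hxM)

end NonAb

/-! ### generalities -/

/-- coprimality of the index of a join -/
theorem coprime_iSup {ι : Type*} {M' M : Subgroup G} {K : ι → Subgroup G} {d : ℕ}
    (h0 : M ≤ normalizer (M' : Set G)) (h0' : M' ≤ M) (h1 : ∀ i, M' ≤ K i) (h2 : ∀ i, K i ≤ M)
    (h3 : ∀ i, M ≤ normalizer (K i : Set G)) (h4 : ∀ i, (M'.relIndex (K i)).Coprime d) (h5 : ⨆ i, K i = M) :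
    (M'.relIndex M).Coprime d := by
  obtain ⟨J, ⟨g1, g2, g3, g4⟩, g5⟩ := Set.Finite.exists_maximal
    (s := {K : Subgroup G | M' ≤ K ∧ K ≤ M ∧ M ≤ normalizer (K : Set G) ∧ (M'.relIndex K).Coprime d})
    (Set.toFinite _) ⟨M', le_rfl, h0', h0, by rw [relIndex_self]; exact Nat.coprime_one_left _⟩
  have hJ : J = M := by
    apply le_antisymm g2
    rw [← h5]
    refine iSup_le fun i => ?_
    have hcop : (M'.relIndex (K i ⊔ J)).Coprime d := by
      rw [← relIndex_mul_relIndex M' J (K i ⊔ J) g1 le_sup_right, relIndex_sup_nl ((h2 i).trans g3)]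
      exact Nat.Coprime.mul_left g4 (Nat.Coprime.coprime_dvd_left (relIndex_dvd_of_le_left (L := K i) g1) (h4 i))
    exact le_sup_left.trans (g5 ⟨g1.trans le_sup_right, sup_le (h2 i) g2, nrm_sup (h3 i) g3, hcop⟩ le_sup_right)
  rwa [← hJ]

/-- Cauchy in `H/L` -/
theorem exists_order {L H : Subgroup G} (hn : H ≤ normalizer (L : Set G)) {q : ℕ} (hq : q.Prime) (h : q ∣ L.relIndex H) :
    ∃ b ∈ H, b ∉ L ∧ b ^ q ∈ L := by
  have hnn : (L.subgroupOf H).Normal := normal_subgroupOf_of_le_normalizer hn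
  haveI := Fact.mk hq
  have h3 : q ∣ (L.subgroupOf H).index := h
  obtain ⟨x, hx⟩ := exists_prime_orderOf_dvd_card' (G := H ⧸ L.subgroupOf H) q (by rwa [← index_eq_card])
  obtain ⟨b, rfl⟩ := QuotientGroup.mk_surjective x
  refine ⟨b, b.2, ?_, ?_⟩
  · intro hb
    have : (QuotientGroup.mk b : H ⧸ L.subgroupOf H) = 1 := (QuotientGroup.eq_one_iff _).2 hb
    rw [this, orderOf_one] at hx
    exact hq.one_lt.ne hx
  · have h4 := pow_orderOf_eq_one (QuotientGroup.mk b : H ⧸ L.subgroupOf H)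
    rw [hx, ← QuotientGroup.mk_pow] at h4
    have h5 : b ^ q ∈ L.subgroupOf H := (QuotientGroup.eq_one_iff _).1 h4
    exact h5

theorem pw {L H : Subgroup G} (hn : H ≤ normalizer (L : Set G)) {q v : ℕ} (hq : q.Prime) (h : q ∣ L.relIndex H)
    (hv : q.Coprime v) (hall : ∀ b ∈ H, b ^ v ∈ L) : False := by
  obtain ⟨b, h1, h2, h3⟩ := exists_order hn hq h
  exact h2 (mem_of_pow_coprime hv h3 (hall b h1))

/-- a version of the factor `(L, H)` with `H` minimal -/
theorem exists_version {A' N2 C L H : Subgroup G} (hLH : Chf A' L H) (hC : C ≤ L) (hH : H ≤ N2) :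
    ∃ L' H', Chf A' L' H' ∧ C ≤ L' ∧ H' ≤ N2 ∧ wt A' L' H' = wt A' L H ∧ L'.relIndex H' = L.relIndex H ∧
      ∀ D : Subgroup G, A' ≤ normalizer (D : Set G) → C ≤ D → H' ≤ D ∨ H' ⊓ D ≤ L' := by
  obtain ⟨H', ⟨L', h1, h2, h3, h4, h5⟩, h6⟩ := Set.Finite.exists_minimal
    (s := {H' : Subgroup G | ∃ L', Chf A' L' H' ∧ C ≤ L' ∧ H' ≤ N2 ∧ wt A' L' H' = wt A' L H ∧
      L'.relIndex H' = L.relIndex H}) (Set.toFinite _) ⟨H, L, hLH, hC, hH, rfl, rfl⟩
  refine ⟨L', H', h1, h2, h3, h4, h5, fun D hD hCD => ?_⟩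
  rcases h1.alt hD with e | e
  · right
    exact (inf_le_inf_left _ le_sup_right).trans e.le
  · left
    have e1 := h1.iso_down hD e
    have := h6 ⟨L' ⊓ D, h1.down hD e, le_inf h2 hCD, inf_le_left.trans h3, by rw [← e1.wt, h4],
      by rw [← e1.relIndex, h5]⟩ inf_le_left
    exact this.trans inf_le_right

end Cfsg.Agent.R2.T3544
end

-- part: R2/T3544/LemE2
section
/-!
# S3544: Lemma E, main part
-/

set_option autoImplicit false
set_option linter.unusedSectionVars false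

namespace Cfsg.Agent.R2.T3544

open Subgroup
open scoped commutatorElement

variable {G : Type*} [Group G] [Finite G]

namespace ESet

variable {Y O X V P N1 A A' N2 : Subgroup G} {d1 d2 : ℕ}

theorem A'Y (h : ESet Y O X V P N1 A A' N2 d1 d2) : A' ≤ Y := h.A'V.trans h.VY

theorem N1Y (h : ESet Y O X V P N1 A A' N2 d1 d2) : N1 ≤ Y := h.N1O.trans h.OY

theorem AO (h : ESet Y O X V P N1 A A' N2 d1 d2) : A ≤ O := by rw [h.A_eq]; exact inf_le_left

theorem AX (h : ESet Y O X V P N1 A A' N2 d1 d2) : ⁅A, X⁆ = ⊥ := by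
  rw [commutator_eq_bot_iff_le_centralizer, h.A_eq]
  exact inf_le_right

theorem XA' (h : ESet Y O X V P N1 A A' N2 d1 d2) : ⁅X, A'⁆ = ⊥ := by
  rw [commutator_comm]
  exact commutator_eq_bot_iff_le_centralizer.2 h.A'X

theorem conjA' (h : ESet Y O X V P N1 A A' N2 d1 d2) {x a : G} (hx : x ∈ X) (ha : a ∈ A') : x * a * x⁻¹ = a := by
  have h1 := mem_centralizer_iff.1 (h.A'X ha) x hx
  rw [h1, mul_inv_cancel_right]

theorem conjA (h : ESet Y O X V P N1 A A' N2 d1 d2) {x a : G} (hx : x ∈ X) (ha : a ∈ A) : x * a * x⁻¹ = a := by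
  rw [h.A_eq] at ha
  have h1 := mem_centralizer_iff.1 ha.2 x hx
  rw [h1, mul_inv_cancel_right]

theorem OP (h : ESet Y O X V P N1 A A' N2 d1 d2) : O ≤ normalizer (P : Set G) := by
  rw [h.P_eq]
  exact normalizer_commutator_ge_left _ _

theorem A'P (h : ESet Y O X V P N1 A A' N2 d1 d2) : A' ≤ normalizer (P : Set G) := by
  rw [h.P_eq]
  refine nrm_comm (h.A'Y.trans h.nO) ?_
  exact h.A'X.trans (centralizer_le_normalizer _)

theorem PO (h : ESet Y O X V P N1 A A' N2 d1 d2) : P ≤ O := h.PN1.trans h.N1O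

theorem idx' (h : ESet Y O X V P N1 A A' N2 d1 d2) {M : Subgroup G} (hM : M ≤ O) (hn : O ≤ normalizer (M : Set G)) :
    A.relIndex M ∣ d1 := (relIndex_dvd_nr h.AO hM hn).trans h.idx

/-- the centraliser `C_{N2}(P)` is contained in the centralisers of sections of `P` -/
theorem C_le (h : ESet Y O X V P N1 A A' N2 d1 d2) {K' K : Subgroup G} (hK' : A' ≤ normalizer (K' : Set G))
    (hK : K ≤ P) : N2 ⊓ centralizer (P : Set G) ≤ CF A' K' K := by
  refine le_CF (inf_le_left.trans h.N2A') ((inf_le_left.trans h.N2A').trans hK') ?_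
  refine le_trans (commutator_mono inf_le_right hK) ?_
  rw [commutator_eq_bot_iff_le_centralizer.2 le_rfl]
  exact bot_le

end ESet

section Main

variable {Y O X V P N1 A A' N2 : Subgroup G} {d1 d2 : ℕ}

/-- (2): `X` acts nontrivially on `M/M'` -/
theorem e2 (h : ESet Y O X V P N1 A A' N2 d1 d2) {M' M : Subgroup G} (c : YC Y M' M) (hMN : M ≤ N1)
    (h1 : ¬ ⁅P ⊓ M, X⁆ ≤ M') : Act d1 M' M := by
  intro hc
  apply h1
  have hMO : M ≤ O := hMN.trans h.N1O
  have hOM : O ≤ normalizer (M : Set G) := h.OY.trans c.nM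
  have hle : (A ⊓ M) ⊔ M' ≤ M := sup_le inf_le_right c.lt.le
  have e1 : ((A ⊓ M) ⊔ M').relIndex M ∣ d1 := by
    refine (relIndex_dvd_of_le_left (L := M) (le_sup_left : A ⊓ M ≤ (A ⊓ M) ⊔ M')).trans ?_
    rw [inf_relIndex_right]
    exact h.idx' hMO hOM
  have e2 : ((A ⊓ M) ⊔ M').relIndex M ∣ M'.relIndex M := relIndex_dvd_of_le_left (L := M) le_sup_right
  have e3 := Nat.eq_one_of_dvd_coprimes hc e2 e1
  have e4 : M ≤ (A ⊓ M) ⊔ M' := relIndex_eq_one.1 e3
  refine (commutator_mono (inf_le_right.trans e4) le_rfl).trans ?_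
  refine H231.sup_commutator_le ((inf_le_right.trans c.le).trans c.nM') le_normalizer ?_
    (comm_le_l (h.XY.trans c.nM'))
  exact (commutator_mono inf_le_left le_rfl).trans (by rw [h.AX]; exact bot_le)

/-- exponents in the abelian case -/
theorem e2b (h : ESet Y O X V P N1 A A' N2 d1 d2) {M' M : Subgroup G} (c : YC Y M' M) (hMN : M ≤ N1)
    (h1 : ¬ ⁅P ⊓ M, X⁆ ≤ M') (hab : ⁅M, M⁆ ≤ M') {q : ℕ} (hq : q.Prime) (hqd : q ∣ d2) :
    ∃ v : ℕ, q.Coprime v ∧ ∀ m ∈ M, m ^ v ∈ M' := by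
  have hMO : M ≤ O := hMN.trans h.N1O
  have hOM : O ≤ normalizer (M : Set G) := h.OY.trans c.nM
  have hMn : M ≤ normalizer (M' : Set G) := c.le.trans c.nM'
  obtain ⟨a, v, hv, hn⟩ := Nat.exists_eq_pow_mul_and_not_dvd (relIndex_pos M' M).ne' q hq.ne_one
  have hqv : q.Coprime v := (Nat.Prime.coprime_iff_not_dvd hq).2 hv
  refine ⟨v, hqv, ?_⟩
  rcases c.min (powSub M' M hMn hab v) (nrm_powSub hMn hab v c.nM c.nM')
    (fun m hm => ⟨c.lt.le hm, M'.pow_mem hm v⟩) (fun m hm => hm.1) with e | e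
  · exfalso
    apply h1
    have hp : ∀ m ∈ M, m ^ (q ^ a) ∈ M' := by
      intro m hm
      rw [← e]
      refine ⟨M.pow_mem hm _, ?_⟩
      rw [← pow_mul, ← hn]
      exact pow_relIndex_mem hMn hm
    have e4 : M ≤ (A ⊓ M) ⊔ M' := by
      intro m hm
      have hM0 : M ≤ normalizer (((A ⊓ M) ⊔ M' : Subgroup G) : Set G) := by
        refine le_normalizer_iff_commutator_le_right.2 ?_
        exact ((commutator_mono le_rfl (sup_le inf_le_right c.lt.le)).trans hab).trans le_sup_right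
      have hd : ((A ⊓ M) ⊔ M').relIndex M ∣ d1 := by
        refine (relIndex_dvd_of_le_left (L := M) (le_sup_left : A ⊓ M ≤ (A ⊓ M) ⊔ M')).trans ?_
        rw [inf_relIndex_right]
        exact h.idx' hMO hOM
      have hcop : (((A ⊓ M) ⊔ M').relIndex M).Coprime (q ^ a) := by
        apply Nat.Coprime.pow_right
        exact (h.cop.coprime_dvd_left hd).coprime_dvd_right hqd
      exact mem_of_pow_coprime hcop (pow_relIndex_mem hM0 hm) (le_sup_right (a := A ⊓ M) (hp m hm))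
    refine (commutator_mono (inf_le_right.trans e4) le_rfl).trans ?_
    refine H231.sup_commutator_le ((inf_le_right.trans c.le).trans c.nM') le_normalizer ?_
      (comm_le_l (h.XY.trans c.nM'))
    exact (commutator_mono inf_le_left le_rfl).trans (by rw [h.AX]; exact bot_le)
  · intro m hm
    rw [← e] at hm
    exact hm.2

/-- the group `H` of a minimal version is not contained in the stabiliser of a chain `K ≥ K' ≥ M'` -/
theorem e34 (h : ESet Y O X V P N1 A A' N2 d1 d2) {M' M L H : Subgroup G} (c : YC Y M' M) (hMN : M ≤ N1)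
    (h1 : ¬ ⁅P ⊓ M, X⁆ ≤ M') (hLH : Chf A' L H) (hact : Act d2 L H)
    (dich : ∀ D : Subgroup G, A' ≤ normalizer (D : Set G) → N2 ⊓ centralizer (P : Set G) ≤ D → H ≤ D ∨ H ⊓ D ≤ L)
    {K' K : Subgroup G} (hK'M : K' ≤ M) (hM'K' : M' ≤ K') (hnK' : M ≤ normalizer (K' : Set G))
    (hKP : K ≤ P) (hKA : A' ≤ normalizer (K : Set G)) (hK'A : A' ≤ normalizer (K' : Set G))
    (hKn : K ≤ normalizer (K' : Set G)) (hKM' : K ≤ normalizer (M' : Set G))
    (h2 : ⁅H, K⁆ ≤ P ⊓ K') (h3 : ⁅H, P ⊓ K'⁆ ≤ M') : ⁅H, K⁆ ≤ M' := by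
  have hHA : H ≤ A' := hLH.le
  have hMn : M ≤ normalizer (M' : Set G) := c.le.trans c.nM'
  have hA'M' : A' ≤ normalizer (M' : Set G) := h.A'Y.trans c.nM'
  have hMP : M ≤ normalizer (P : Set G) := (hMN.trans h.N1O).trans h.OP
  by_cases hab : ⁅M, M⁆ ≤ M'
  · by_contra hcon
    set D := CF A' M' K with hD
    have hDn : A' ≤ normalizer (D : Set G) := nrm_CF le_normalizer hA'M' hKA
    have hHD : ¬ H ≤ D := fun h4 => hcon ((commutator_mono h4 le_rfl).trans (CF_comm _ _ _))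
    have hHDL : H ⊓ D ≤ L := (dich D hDn (h.C_le hA'M' hKP)).resolve_left hHD
    obtain ⟨q, hq, hq1, hq2⟩ := Nat.Prime.not_coprime_iff_dvd.1 hact
    obtain ⟨v, hv, hv2⟩ := e2b h c hMN h1 hab hq hq2
    refine pw (hLH.le.trans hLH.nL) hq hq1 hv fun b hb => hHDL ⟨H.pow_mem hb v, ?_⟩
    refine ⟨A'.pow_mem (hHA hb) v, A'.pow_mem (hHA hb) v |> fun h4 => hA'M' h4, fun n hn => ?_⟩
    have h5 := pow_comm (M' := M') (M := P ⊓ K') ((inf_le_right.trans hK'M).trans hMn) (b := b) (n := n)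
      (fun m hm => h3 (commutator_mem_commutator hb hm)) (h2 (commutator_mem_commutator hb hn))
      ((nrm_inf h.A'P hK'A) (hHA hb)) v
    have h6 := hv2 _ (hK'M (h2 (commutator_mem_commutator hb hn)).2)
    have h7 := M'.mul_mem h5.2 h6
    rwa [inv_mul_cancel_right] at h7
  · set Q := (P ⊓ K') ⊔ M' with hQ
    have hPK'M : P ⊓ K' ≤ M := inf_le_right.trans hK'M
    have hQM : Q ≤ M := sup_le hPK'M c.lt.le
    have hQn : M ≤ normalizer (Q : Set G) := nrm_sup (nrm_inf hMP hnK') hMn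
    refine le_trans (le_CF (h2.trans le_sup_left) (h2.trans (hPK'M.trans hMn)) ?_)
      (n5' c hab hQn le_sup_right hQM)
    have h2' : ⁅H, K⁆ ≤ M := h2.trans hPK'M
    refine H231.commutator_sup_le (hPK'M.trans hMn) le_normalizer ?_ (comm_le_r (h2'.trans hMn))
    refine H231.three_subgroups (P := M') (hHA.trans hA'M') hKM' (hPK'M.trans hMn) ?_ ?_
    · refine le_trans (commutator_mono (comm_le_r (nrm_inf (hKP.trans le_normalizer) hKn)) le_rfl) ?_
      rw [commutator_comm]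
      exact h3
    · rw [commutator_comm (P ⊓ K')]
      exact (commutator_mono h3 le_rfl).trans (comm_le_l hKM')

/-- the chief factor `(K', K)` of `V` -/
structure KK (Y X V P N1 H M' M K' K : Subgroup G) : Prop where
  c : YC Y M' M
  hMN : M ≤ N1
  hX : ¬ ⁅P ⊓ M, X⁆ ≤ M'
  hMV : M ≤ V ⊔ M'
  h1 : M' ≤ K'
  lt : K' < K
  h2 : K ≤ M
  nK' : V ≤ normalizer (K' : Set G)
  nK : V ≤ normalizer (K : Set G)
  min : ∀ J : Subgroup G, V ≤ normalizer (J : Set G) → K' ≤ J → J ≤ K → J = K' ∨ J = K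
  act : ¬ ⁅H, P ⊓ K⁆ ≤ K'

theorem exists_KK (h : ESet Y O X V P N1 A A' N2 d1 d2) {L H : Subgroup G}
    (hC : N2 ⊓ centralizer (P : Set G) ≤ L) (hLH : Chf A' L H) (hH : H ≤ N2) (hact : Act d2 L H)
    (dich : ∀ D : Subgroup G, A' ≤ normalizer (D : Set G) → N2 ⊓ centralizer (P : Set G) ≤ D → H ≤ D ∨ H ⊓ D ≤ L) :
    ∃ M' M K' K, KK Y X V P N1 H M' M K' K := by
  have hHA : H ≤ A' := hLH.le
  obtain ⟨M, ⟨hM1, hM2, hM3⟩, hM4⟩ := Set.Finite.exists_minimal
    (s := {M : Subgroup G | Y ≤ normalizer (M : Set G) ∧ M ≤ N1 ∧ ⁅H, P⁆ ≤ M}) (Set.toFinite _)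
    ⟨N1, h.nN1, le_rfl, (comm_le_r (hHA.trans h.A'P)).trans h.PN1⟩
  have hMb : M ≠ ⊥ := by
    rintro rfl
    apply hLH.lt.not_ge
    refine le_trans (le_inf hH ?_) hC
    rw [← commutator_eq_bot_iff_le_centralizer]
    exact le_bot_iff.1 hM3
  obtain ⟨M', c⟩ := exists_YC (hM2.trans h.N1Y) hM1 hMb
  have hHP : ¬ ⁅H, P⁆ ≤ M' := fun e => c.lt.not_ge (hM4 ⟨c.nM', c.lt.le.trans hM2, e⟩ c.lt.le)
  have hMO : M ≤ O := hM2.trans h.N1O
  have hMn : M ≤ normalizer (M' : Set G) := c.le.trans c.nM'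
  have hPM' : P ≤ normalizer (M' : Set G) := (h.PO.trans h.OY).trans c.nM'
  have hPM : P ≤ normalizer (M : Set G) := (h.PO.trans h.OY).trans c.nM
  have hA'M' : A' ≤ normalizer (M' : Set G) := h.A'Y.trans c.nM'
  have hA'M : A' ≤ normalizer (M : Set G) := h.A'Y.trans c.nM
  have hHPM : ⁅H, P⁆ ≤ P ⊓ M := le_inf (comm_le_r (hHA.trans h.A'P)) hM3
  -- `X` acts nontrivially
  have hX : ¬ ⁅P ⊓ M, X⁆ ≤ M' := by
    intro e
    apply hHP
    have h3 := H231.three_subgroups (P := M') (A := P) (B := X) (C := H) hPM' (h.XY.trans c.nM')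
      (hHA.trans hA'M') ?_ ?_
    · rw [h.PX] at h3
      rwa [commutator_comm]
    · have e1 : ⁅X, H⁆ = ⊥ := by
        rw [eq_bot_iff, ← h.XA']
        exact commutator_mono le_rfl hHA
      rw [e1, commutator_bot_left]
      exact bot_le
    · exact (commutator_mono hHPM le_rfl).trans e
  -- faithful on `P ⊓ M`
  have hf : ¬ ⁅H, P ⊓ M⁆ ≤ M' := fun e => hHP
    (e34 h c hM2 hX hLH hact dich le_rfl c.lt.le le_normalizer le_rfl h.A'P hA'M hPM hPM' hHPM e)
  have hMV : M ≤ V ⊔ M' := by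
    have hV : Y ≤ normalizer ((⁅M, V⁆ ⊔ M' : Subgroup G) : Set G) := nrm_sup (nrm_comm c.nM h.nV) c.nM'
    rcases c.min (⁅M, V⁆ ⊔ M') hV le_sup_right (sup_le (comm_le_l (h.VY.trans c.nM)) c.lt.le) with e | e
    · exfalso
      apply hf
      have e1 : ⁅M, V⁆ ≤ M' := by rw [← e]; exact le_sup_left
      refine le_trans ?_ e1
      rw [commutator_comm]
      exact commutator_mono inf_le_right (hHA.trans h.A'V)
    · rw [← e]
      exact sup_le_sup_right (comm_le_r (c.le.trans h.nV)) _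
  obtain ⟨K, ⟨hK1, hK2, hK3, hK4⟩, hK5⟩ := Set.Finite.exists_minimal
    (s := {K : Subgroup G | V ≤ normalizer (K : Set G) ∧ M' ≤ K ∧ K ≤ M ∧ ¬ ⁅H, P ⊓ K⁆ ≤ M'}) (Set.toFinite _)
    ⟨M, h.VY.trans c.nM, c.lt.le, le_rfl, hf⟩
  have hKM' : M' < K := by
    refine lt_of_le_of_ne hK2 fun e => hK4 ?_
    rw [← e]
    exact (commutator_mono le_rfl inf_le_right).trans (comm_le_r (hHA.trans hA'M'))
  obtain ⟨K', ⟨hK'1, hK'2, hK'3⟩, hK'4⟩ := Set.Finite.exists_maximal
    (s := {J : Subgroup G | V ≤ normalizer (J : Set G) ∧ M' ≤ J ∧ J < K}) (Set.toFinite _)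
    ⟨M', h.VY.trans c.nM', le_rfl, hKM'⟩
  have hHK' : ⁅H, P ⊓ K'⁆ ≤ M' := by
    by_contra e
    exact hK'3.not_ge (hK5 ⟨hK'1, hK'2, hK'3.le.trans hK3, e⟩ hK'3.le)
  have hMK' : M ≤ normalizer (K' : Set G) := hMV.trans (sup_le hK'1 (hK'2.trans le_normalizer))
  refine ⟨M', M, K', K, c, hM2, hX, hMV, hK'2, hK'3, hK3, hK'1, hK1, fun J hJ hJ1 hJ2 => ?_, fun e => hK4 ?_⟩
  · rcases eq_or_lt_of_le hJ2 with e | e
    · exact Or.inr e
    · exact Or.inl (le_antisymm (hK'4 ⟨hJ, hK'2.trans hJ1, e⟩ hJ1) hJ1)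
  · have hA'K : A' ≤ normalizer ((P ⊓ K : Subgroup G) : Set G) := nrm_inf h.A'P (h.A'V.trans hK1)
    refine e34 h c hM2 hX hLH hact dich (hK'3.le.trans hK3) hK'2 hMK' inf_le_left hA'K
      (h.A'V.trans hK'1) ((inf_le_right.trans hK3).trans hMK') ((inf_le_right.trans hK3).trans hMn) ?_ hHK'
    exact le_inf ((comm_le_r (hHA.trans hA'K)).trans inf_le_left) e

end Main

end Cfsg.Agent.R2.T3544
end

-- part: R2/T3544/LemE3
section
/-!
# S3544: Lemma E, the weights
-/

set_option autoImplicit false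
set_option linter.unusedSectionVars false

namespace Cfsg.Agent.R2.T3544

open Subgroup
open scoped commutatorElement

variable {G : Type*} [Group G] [Finite G]

section Main

variable {Y O X V P N1 A A' N2 : Subgroup G} {d1 d2 : ℕ} {L H M' M K' K : Subgroup G}

theorem KK.nMK' (k : KK Y X V P N1 H M' M K' K) : M ≤ normalizer (K' : Set G) :=
  k.hMV.trans (sup_le k.nK' (k.h1.trans le_normalizer))

theorem KK.nMK (k : KK Y X V P N1 H M' M K' K) : M ≤ normalizer (K : Set G) :=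
  k.hMV.trans (sup_le k.nK ((k.h1.trans k.lt.le).trans le_normalizer))

theorem KK.nKK' (k : KK Y X V P N1 H M' M K' K) : K ≤ normalizer (K' : Set G) := k.h2.trans k.nMK'

theorem KK.nMM' (k : KK Y X V P N1 H M' M K' K) : M ≤ normalizer (M' : Set G) := k.c.le.trans k.c.nM'

/-- (6): the factor `K/K'` is not coprime to `d1` -/
theorem e6 (h : ESet Y O X V P N1 A A' N2 d1 d2) (k : KK Y X V P N1 H M' M K' K) : Act d1 K' K := by
  have ha := e2 h k.c k.hMN k.hX
  have hMn := k.nMM'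
  intro hc
  by_cases hab : ⁅M, M⁆ ≤ M'
  · obtain ⟨p, hp, hp1, hp2⟩ := Nat.Prime.not_coprime_iff_dvd.1 ha
    obtain ⟨a, v, hv, hn⟩ := Nat.exists_eq_pow_mul_and_not_dvd (relIndex_pos M' M).ne' p hp.ne_one
    have hpv : p.Coprime v := (Nat.Prime.coprime_iff_not_dvd hp).2 hv
    rcases k.c.min (powSub M' M hMn hab v) (nrm_powSub hMn hab v k.c.nM k.c.nM')
      (fun m hm => ⟨k.c.lt.le hm, M'.pow_mem hm v⟩) (fun m hm => hm.1) with e | e
    · have hpow : ∀ m ∈ M, m ^ (p ^ a) ∈ M' := by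
        intro m hm
        rw [← e]
        refine ⟨M.pow_mem hm _, ?_⟩
        rw [← pow_mul, ← hn]
        exact pow_relIndex_mem hMn hm
      have h1 : K'.relIndex K ≠ 1 := fun h1 => k.lt.not_ge (relIndex_eq_one.1 h1)
      obtain ⟨q, hq, hq1⟩ := Nat.exists_prime_and_dvd h1
      have hqp : q.Coprime (p ^ a) := by
        apply Nat.Coprime.pow_right
        rw [Nat.coprime_primes hq hp]
        rintro rfl
        exact Nat.Prime.not_coprime_iff_dvd.2 ⟨q, hq, hq1, hp2⟩ hc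
      exact pw k.nKK' hq hq1 hqp fun b hb => k.h1 (hpow b (k.h2 hb))
    · exact pw hMn hp hp1 hpv fun b hb => by
        rw [← e] at hb
        exact hb.2
  · obtain ⟨N, hN, hNK, hNK'⟩ := n6 k.c hab k.nMK' k.nMK k.h1 k.lt k.h2
    have h4 := n4 hN k.nMK' k.h1 (k.lt.le.trans k.h2) hNK'
    have h5 : M'.relIndex N = K'.relIndex N := by
      rw [← inf_relIndex_right K' N, inf_comm, h4.1]
    have h6 : (M'.relIndex N).Coprime d1 := by
      rw [h5]
      exact Nat.Coprime.coprime_dvd_left (relIndex_dvd_nl hNK k.nKK') hc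
    apply ha
    refine coprime_iSup (K := fun g : Y => N.map (MulAut.conj (g : G)).toMonoidHom) hMn k.c.lt.le
      (fun g => (k.c.conj hN g.2).lt.le) (fun g => (k.c.conj hN g.2).le) (fun g => (k.c.conj hN g.2).nH) (fun g => ?_)
      (k.c.iSup hN)
    have e1 := card_rel (k.c.conj hN g.2).lt.le
    have e2 := card_rel hN.lt.le
    have e3 : Nat.card (N.map (MulAut.conj (g : G)).toMonoidHom) = Nat.card N :=
      card_map_of_injective (MulAut.conj (g : G)).injective
    have e4 : 0 < Nat.card M' := Nat.card_pos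
    have e5 : M'.relIndex (N.map (MulAut.conj (g : G)).toMonoidHom) = M'.relIndex N := by
      apply Nat.eq_of_mul_eq_mul_left e4
      rw [e1, e2, e3]
    rwa [e5]

/-- (5), first part -/
theorem e5a (h : ESet Y O X V P N1 A A' N2 d1 d2) (k : KK Y X V P N1 H M' M K' K) (hLH : Chf A' L H)
    (dich : ∀ D : Subgroup G, A' ≤ normalizer (D : Set G) → N2 ⊓ centralizer (P : Set G) ≤ D → H ≤ D ∨ H ⊓ D ≤ L) :
    H ⊓ CF A' K' K ≤ L := by
  have hA'K' : A' ≤ normalizer (K' : Set G) := h.A'V.trans k.nK'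
  have hA'K : A' ≤ normalizer (K : Set G) := h.A'V.trans k.nK
  have h1 := dich (CF A' K' (P ⊓ K)) (nrm_CF le_normalizer hA'K' (nrm_inf h.A'P hA'K)) (h.C_le hA'K' inf_le_left)
  rcases h1 with h1 | h1
  · exact absurd ((commutator_mono h1 le_rfl).trans (CF_comm _ _ _)) k.act
  · refine le_trans (inf_le_inf_left _ ?_) h1
    refine le_CF (CF_le _ _ _) ((CF_le _ _ _).trans hA'K') ?_
    exact (commutator_mono le_rfl inf_le_right).trans (CF_comm _ _ _)

/-- `K = (K ⊓ ⁅K, V⁆) K'` -/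
theorem KK.eq (h : ESet Y O X V P N1 A A' N2 d1 d2) (k : KK Y X V P N1 H M' M K' K) (hH : H ≤ A') :
    K ≤ ⁅K, V⁆ ⊔ K' := by
  have h1 : V ≤ normalizer ((⁅K, V⁆ ⊔ K' : Subgroup G) : Set G) := nrm_sup (nrm_comm k.nK le_normalizer) k.nK'
  rcases k.min _ h1 le_sup_right (sup_le (comm_le_l k.nK) k.lt.le) with e | e
  · exfalso
    apply k.act
    rw [commutator_comm]
    refine (commutator_mono inf_le_right (hH.trans h.A'V)).trans ?_
    rw [← e]
    exact le_sup_left
  · exact e.ge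

/-- X does not move -/
theorem e7a (h : ESet Y O X V P N1 A A' N2 d1 d2) (k : KK Y X V P N1 H M' M K' K) (hH : H ≤ A')
    (hV : V ≤ A' ⊔ CF V K' K) (hna : ¬ ⁅K, K⁆ ≤ K')
    (hX : ∀ N, Chf M M' N → X ≤ normalizer (N : Set G)) : False := by
  have hab : ¬ ⁅M, M⁆ ≤ M' := fun e => hna (((commutator_mono k.h2 k.h2).trans e).trans k.h1)
  have hMn := k.nMM'
  have hA'K' : A' ≤ normalizer (K' : Set G) := h.A'V.trans k.nK'
  have hA'K : A' ≤ normalizer (K : Set G) := h.A'V.trans k.nK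
  have hPY : P ≤ Y := h.PO.trans h.OY
  -- `P` normalises all
  have hP : ∀ N, Chf M M' N → P ≤ normalizer (N : Set G) := by
    intro N hN
    rw [← h.PX]
    rw [commutator_le]
    intro p hp x hx
    have h1 := k.c.conj hN (g := p⁻¹) (Y.inv_mem (hPY hp))
    have h2 := nrm_iff.1 (hX _ h1) x hx
    have h3 := nrm_iff.1 (hX _ hN) x⁻¹ (X.inv_mem hx)
    have h4 : N.map (MulAut.conj ⁅p, x⁆).toMonoidHom = N := by
      have e : (MulAut.conj ⁅p, x⁆).toMonoidHom = (MulAut.conj p).toMonoidHom.comp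
          ((MulAut.conj x).toMonoidHom.comp ((MulAut.conj p⁻¹).toMonoidHom.comp (MulAut.conj x⁻¹).toMonoidHom)) := by
        ext y
        show ⁅p, x⁆ * y * ⁅p, x⁆⁻¹ = p * (x * (p⁻¹ * (x⁻¹ * y * x⁻¹⁻¹) * p⁻¹⁻¹) * x⁻¹) * p⁻¹
        simp only [commutatorElement_def]
        group
      rw [e, ← Subgroup.map_map, ← Subgroup.map_map, ← Subgroup.map_map, h3, h2, Subgroup.map_map]
      have : (MulAut.conj p).toMonoidHom.comp (MulAut.conj p⁻¹).toMonoidHom = MonoidHom.id G := by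
        ext y
        simp [mul_assoc]
      rw [this, Subgroup.map_id]
    rw [mem_normalizer_iff]
    intro y
    constructor
    · intro hy
      rw [← h4]
      exact ⟨y, hy, rfl⟩
    · intro hy
      rw [← h4] at hy
      obtain ⟨z, hz, hzy⟩ := hy
      have : z = y := mul_left_cancel (mul_right_cancel (show ⁅p, x⁆ * z * ⁅p, x⁆⁻¹ = ⁅p, x⁆ * y * ⁅p, x⁆⁻¹ from hzy))
      rwa [← this]
  -- `K = (P ⊓ K) K'`
  have hVn : V ≤ normalizer (((P ⊓ K) ⊔ K' : Subgroup G) : Set G) := by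
    refine hV.trans (sup_le (nrm_sup (nrm_inf h.A'P hA'K) hA'K') ?_)
    rw [le_normalizer_iff_commutator_le_right]
    exact ((commutator_mono le_rfl (sup_le inf_le_right k.lt.le)).trans (CF_comm _ _ _)).trans le_sup_right
  have hKeq : K = (P ⊓ K) ⊔ K' := by
    rcases k.min _ hVn le_sup_right (sup_le inf_le_right k.lt.le) with e | e
    · exfalso
      apply k.act
      have e1 : P ⊓ K ≤ K' := by
        have : P ⊓ K ≤ (P ⊓ K) ⊔ K' := le_sup_left
        rwa [e] at this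
      exact (commutator_mono le_rfl e1).trans (comm_le_r (hH.trans hA'K'))
    · exact e.symm
  obtain ⟨N, hN, hNK, hNK'⟩ := n6 k.c hab k.nMK' k.nMK k.h1 k.lt k.h2
  have h4 := n4 hN k.nMK' k.h1 (k.lt.le.trans k.h2) hNK'
  have hNM' : N ≤ normalizer (M' : Set G) := hN.le.trans hMn
  have hNK'n : N ≤ normalizer (K' : Set G) := hN.le.trans k.nMK'
  -- `CF V K' K` normalises `N` and centralises it modulo `M'`
  have hKVn : CF V K' K ≤ normalizer (N : Set G) := by
    rw [nrm_iff]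
    intro g hg
    by_contra hne
    have hgY : g ∈ Y := h.VY hg.1
    have hNg := k.c.conj hN hgY
    have h5 := n1 hN hNg (Ne.symm hne)
    apply n2 k.c hab hN
    have h6 : N ≤ N.map (MulAut.conj g).toMonoidHom ⊔ K' := by
      intro n hn
      have h7 : ⁅g, n⁆ ∈ K' := hg.2.2 n (hNK hn)
      have h8 : n = (n * (⁅g, n⁆⁻¹ * ⁅g, n⁆) * n⁻¹) * n := by group
      have h9 : g * n * g⁻¹ ∈ N.map (MulAut.conj g).toMonoidHom := ⟨n, hn, rfl⟩
      have h10 : n = ⁅g, n⁆⁻¹ * (g * n * g⁻¹) := by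
        simp only [commutatorElement_def]
        group
      rw [h10]
      exact mul_mem (mem_sup_right (K'.inv_mem h7)) (mem_sup_left h9)
    refine (commutator_mono le_rfl h6).trans ?_
    refine H231.commutator_sup_le (((k.c.conj hN hgY).le).trans hMn) ((k.lt.le.trans k.h2).trans hMn) h5 h4.2
  have hKVc : ⁅CF V K' K, N⁆ ≤ M' := by
    rw [← h4.1]
    exact le_inf (comm_le_r hKVn) ((commutator_mono le_rfl hNK).trans (CF_comm _ _ _))
  -- the centraliser of `N / M'`
  set C := CF Y M' N with hC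
  have hM'C : M' ≤ C := le_CF (k.c.lt.le.trans k.c.le) le_normalizer (comm_le_l hNM')
  have hKVC : CF V K' K ≤ C := le_CF ((CF_le _ _ _).trans h.VY) (((CF_le _ _ _).trans h.VY).trans k.c.nM') hKVc
  have hCN : C ≤ normalizer (N : Set G) := by
    rw [le_normalizer_iff_commutator_le_right]
    exact (CF_comm _ _ _).trans hN.lt.le
  have hNC : N ≤ normalizer (C : Set G) :=
    nrm_CF ((hN.le.trans k.c.le).trans le_normalizer) hNM' le_normalizer
  have hXC : X ≤ normalizer (C : Set G) :=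
    nrm_CF (h.XY.trans le_normalizer) (h.XY.trans k.c.nM') (hX N hN)
  have hKVMn : A' ≤ normalizer ((CF V K' K ⊔ M' : Subgroup G) : Set G) :=
    nrm_sup (nrm_CF (h.A'V.trans le_normalizer) hA'K' hA'K) (h.A'Y.trans k.c.nM')
  have hNle : N ≤ A' ⊔ (CF V K' K ⊔ M') := by
    refine (hN.le.trans k.hMV).trans ?_
    refine sup_le (hV.trans (sup_le le_sup_left (le_sup_left.trans le_sup_right))) (le_sup_right.trans le_sup_right)
  have hXNC : ⁅N, X⁆ ≤ C := by
    rw [commutator_le]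
    intro n hn x hx
    obtain ⟨a, ha, c, hc, rfl⟩ := (mem_sup_nl hKVMn).1 (hNle hn)
    have hcC : c ∈ C := sup_le hKVC hM'C hc
    have haC : a ∈ normalizer (C : Set G) := by
      have h5 := (normalizer (C : Set G)).mul_mem (hNC hn) (inv_mem (le_normalizer hcC))
      rwa [mul_inv_cancel_right] at h5
    have h6 : ⁅c, x⁆ ∈ C := comm_le_l hXC (commutator_mem_commutator hcC hx)
    have h7 := (mem_normalizer_iff.1 haC _).1 h6
    have h8 := h.conjA' hx ha
    have e : ⁅a * c, x⁆ = a * ⁅c, x⁆ * a⁻¹ := by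
      have : ⁅a * c, x⁆ = a * ⁅c, x⁆ * (x * a * x⁻¹)⁻¹ := by
        simp only [commutatorElement_def]
        group
      rw [this, h8]
    rwa [e]
  have hXN : ⁅N, X⁆ ≤ M' := by
    refine le_trans ?_ (n5' k.c hab hN.nH hN.lt.le hN.le)
    have h5 : ⁅N, X⁆ ≤ N := comm_le_l (hX N hN)
    refine le_CF h5 (h5.trans hNM') ?_
    exact (commutator_mono hXNC le_rfl).trans (CF_comm _ _ _)
  have hPN : ⁅P, N⁆ ≤ M' := by
    have h3 := H231.three_subgroups (P := M') (A := P) (B := X) (C := N) (hPY.trans k.c.nM') (h.XY.trans k.c.nM')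
      hNM' ?_ ?_
    · rwa [h.PX] at h3
    · rw [commutator_comm X N]
      exact (commutator_mono hXN le_rfl).trans (comm_le_l (hPY.trans k.c.nM'))
    · exact (commutator_mono (comm_le_l (hP N hN)) le_rfl).trans hXN
  apply n2 k.c hab hN
  have hKM' : K ≤ normalizer (M' : Set G) := k.h2.trans hMn
  refine (commutator_mono (hNK.trans hKeq.le) le_rfl).trans ?_
  refine H231.sup_commutator_le (inf_le_right.trans hKM') (k.lt.le.trans hKM') ?_ ?_
  · exact (commutator_mono inf_le_left le_rfl).trans hPN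
  · rw [commutator_comm]
    exact h4.2

end Main

end Cfsg.Agent.R2.T3544
end

-- part: R2/T3544/LemE4
section
/-!
# S3544: Lemma E, end
-/

set_option autoImplicit false
set_option linter.unusedSectionVars false

namespace Cfsg.Agent.R2.T3544

open Subgroup
open scoped commutatorElement

variable {G : Type*} [Group G] [Finite G]

section Main

variable {Y O X V P N1 A A' N2 : Subgroup G} {d1 d2 : ℕ} {L H M' M K' K : Subgroup G}

/-- X moves a factor -/
theorem e7b (h : ESet Y O X V P N1 A A' N2 d1 d2) (k : KK Y X V P N1 H M' M K' K) (hLH : Chf A' L H)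
    (hact : Act d2 L H) (hDL : H ⊓ CF A' K' K ≤ L) (hS : CF A' L H ≤ CF V K' K)
    (hV : V ≤ A' ⊔ CF V K' K) (hna : ¬ ⁅K, K⁆ ≤ K')
    {N : Subgroup G} (hN : Chf M M' N) (hX : ¬ X ≤ normalizer (N : Set G)) : False := by
  have hMn := k.nMM'
  have hA'K' : A' ≤ normalizer (K' : Set G) := h.A'V.trans k.nK'
  have hA'K : A' ≤ normalizer (K : Set G) := h.A'V.trans k.nK
  obtain ⟨x, hxX, hx1⟩ : ∃ x ∈ X, N.map (MulAut.conj x).toMonoidHom ≠ N := by
    by_contra hcon
    push Not at hcon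
    exact hX (nrm_iff.2 hcon)
  have hNx := k.c.conj hN (h.XY hxX)
  have hMO : M ≤ O := k.hMN.trans h.N1O
  have hOM : O ≤ normalizer (M : Set G) := h.OY.trans k.c.nM
  have hAN : (A ⊓ M) ⊓ N ≤ M' := by
    have hle' : (A ⊓ M) ⊓ N ≤ N ⊓ N.map (MulAut.conj x).toMonoidHom := by
      rintro a ⟨⟨ha, ha2⟩, ha1⟩
      exact ⟨ha1, ⟨a, ha1, h.conjA hxX ha⟩⟩
    rcases hN.min (N ⊓ N.map (MulAut.conj x).toMonoidHom) (nrm_inf hN.nH hNx.nH) (le_inf hN.lt.le hNx.lt.le)
      inf_le_left with e | e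
    · exact hle'.trans e.le
    · exfalso
      apply hx1
      have h5 : N ≤ N.map (MulAut.conj x).toMonoidHom := inf_eq_left.1 e
      refine (eq_of_le_of_card_ge h5 ?_).symm
      rw [card_map_of_injective (MulAut.conj x).injective]
  have hd : M'.relIndex N ∣ d1 := by
    refine (relIndex_dvd_of_le_left (L := N) hAN).trans ?_
    rw [inf_relIndex_right]
    refine (relIndex_dvd_nr (O := M) inf_le_right hN.le hN.nH).trans ?_
    rw [inf_relIndex_right]
    exact h.idx' hMO hOM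
  have hcop : (M'.relIndex M).Coprime d2 := by
    refine coprime_iSup (K := fun g : Y => N.map (MulAut.conj (g : G)).toMonoidHom) hMn k.c.lt.le
      (fun g => (k.c.conj hN g.2).lt.le) (fun g => (k.c.conj hN g.2).le) (fun g => (k.c.conj hN g.2).nH) (fun g => ?_)
      (k.c.iSup hN)
    have e1 := card_rel (k.c.conj hN g.2).lt.le
    have e2 := card_rel hN.lt.le
    have e3 : Nat.card (N.map (MulAut.conj (g : G)).toMonoidHom) = Nat.card N :=
      card_map_of_injective (MulAut.conj (g : G)).injective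
    have e4 : 0 < Nat.card M' := Nat.card_pos
    have e5 : M'.relIndex (N.map (MulAut.conj (g : G)).toMonoidHom) = M'.relIndex N := by
      apply Nat.eq_of_mul_eq_mul_left e4
      rw [e1, e2, e3]
    rw [e5]
    exact h.cop.coprime_dvd_left hd
  have hcopK : (K'.relIndex K).Coprime d2 := by
    have e1 : K'.relIndex K ∣ M'.relIndex M := by
      rw [← relIndex_mul_relIndex M' K' M k.h1 (k.lt.le.trans k.h2),
        ← relIndex_mul_relIndex K' K M k.lt.le k.h2]
      exact ⟨M'.relIndex K' * K.relIndex M, by ring⟩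
    exact hcop.coprime_dvd_left e1
  -- now `|H/L|` divides `|K/K'|`
  set KV := CF V K' K with hKV
  have hKVn : V ≤ normalizer (KV : Set G) := nrm_CF le_normalizer k.nK' k.nK
  have hKVV : KV ≤ V := CF_le _ _ _
  set Kt := K ⊓ V with hKt
  have hKtn : V ≤ normalizer (Kt : Set G) := nrm_inf k.nK le_normalizer
  have hKle : K ≤ Kt ⊔ K' := by
    refine (k.eq h hLH.le).trans (sup_le_sup_right (le_inf (comm_le_l k.nK) (comm_le_r ?_)) _)
    exact (k.h2.trans k.c.le).trans h.nV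
  have hKtK' : Kt ≤ normalizer (K' : Set G) := inf_le_right.trans k.nK'
  set J := A' ⊓ (Kt ⊔ KV) with hJ
  have hJn : A' ≤ normalizer (J : Set G) :=
    nrm_inf le_normalizer (nrm_sup (h.A'V.trans hKtn) (h.A'V.trans hKVn))
  have hJA : J ≤ A' := inf_le_left
  have hAK : A' ⊔ KV = V := le_antisymm (sup_le h.A'V hKVV) hV
  have hJK : J ⊔ KV = Kt ⊔ KV := by
    have h6 := dede (H := A') (D := KV) (M := Kt ⊔ KV) (h.A'V.trans hKVn) le_sup_right
    rw [hAK, inf_eq_right.2 (sup_le inf_le_right hKVV)] at h6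
    exact h6.symm
  have hCF : CF A' K' K = A' ⊓ KV := CF_inf h.A'V
  rcases hLH.alt hJn with e | e
  · apply hna
    have h7 : J ≤ CF A' L H := by
      refine le_CF hJA (hJA.trans hLH.nL) ?_
      rw [← e]
      exact le_inf (comm_le_r (hJA.trans hLH.nH)) ((comm_le_l (hLH.le.trans hJn)).trans le_sup_right)
    have h8 : Kt ≤ KV := by
      have : Kt ≤ J ⊔ KV := by rw [hJK]; exact le_sup_left
      exact this.trans (sup_le (h7.trans hS) le_rfl)
    refine (commutator_mono hKle le_rfl).trans ?_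
    refine H231.sup_commutator_le hKtK' le_normalizer ?_ (comm_le_l k.nKK')
    exact (commutator_mono h8 le_rfl).trans (CF_comm _ _ _)
  · have h9 := (hLH.iso_down hJn e).relIndex
    have h10 : (L ⊓ J).relIndex (H ⊓ J) ∣ (CF A' K' K).relIndex (H ⊓ J) := by
      have : CF A' K' K ⊓ (H ⊓ J) ≤ L ⊓ J := by
        refine le_inf ?_ (inf_le_right.trans inf_le_right)
        exact (le_inf (inf_le_right.trans inf_le_left) inf_le_left).trans hDL
      have h11 := relIndex_dvd_of_le_left (L := H ⊓ J) this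
      rwa [inf_relIndex_right] at h11
    have h12 : (CF A' K' K).relIndex (H ⊓ J) ∣ (CF A' K' K).relIndex J :=
      relIndex_dvd_nl inf_le_right (hJA.trans (nrm_CF le_normalizer hA'K' hA'K))
    have h13 : (CF A' K' K).relIndex J = KV.relIndex J := by
      rw [hCF, ← inf_relIndex_right, ← inf_relIndex_right KV J]
      congr 1
      rw [inf_comm A', inf_assoc, inf_eq_right.2 hJA]
    have h14 : KV.relIndex J = KV.relIndex Kt := by
      rw [← relIndex_sup_nl ((hJA.trans h.A'V).trans hKVn), hJK, relIndex_sup_nl (inf_le_right.trans hKVn)]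
    have h15 : KV.relIndex Kt ∣ K'.relIndex Kt := by
      have h16 : K' ⊓ Kt ≤ KV := by
        refine le_CF (inf_le_right.trans inf_le_right) (inf_le_left.trans le_normalizer) ?_
        exact (commutator_mono inf_le_left le_rfl).trans (comm_le_l k.nKK')
      have h17 := relIndex_dvd_of_le_left (L := Kt) h16
      rwa [inf_relIndex_right] at h17
    have h18 : K'.relIndex Kt = K'.relIndex K := by
      rw [← relIndex_sup_nl hKtK']
      congr 1
      exact le_antisymm (sup_le inf_le_left k.lt.le) hKle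
    apply hact
    have h19 : L.relIndex H ∣ K'.relIndex K := by
      rw [h9]
      exact h10.trans (h12.trans (by rw [h13, h14]; exact h15.trans h18.dvd))
    exact hcopK.coprime_dvd_left h19

/-- `K/K'` as a chief factor of `V` inside `⁅N1, V⁆` -/
theorem KK.chf (h : ESet Y O X V P N1 A A' N2 d1 d2) (k : KK Y X V P N1 H M' M K' K) (hH : H ≤ A') :
    Chf V (K' ⊓ ⁅N1, V⁆) (K ⊓ ⁅N1, V⁆) ∧ (K' ⊓ ⁅N1, V⁆).relIndex (K ⊓ ⁅N1, V⁆) = K'.relIndex K ∧
      CF V (K' ⊓ ⁅N1, V⁆) (K ⊓ ⁅N1, V⁆) = CF V K' K ∧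
      (⁅K ⊓ ⁅N1, V⁆, K ⊓ ⁅N1, V⁆⁆ ≤ K' ⊓ ⁅N1, V⁆ ↔ ⁅K, K⁆ ≤ K') := by
  set Q := ⁅N1, V⁆ with hQ
  have hQV : Q ≤ V := comm_le_r (h.N1Y.trans h.nV)
  have hQn : V ≤ normalizer (Q : Set G) := nrm_comm (h.VY.trans h.nN1) le_normalizer
  have hKQ : K ≤ (K ⊓ Q) ⊔ K' := by
    refine (k.eq h hH).trans (sup_le_sup_right (le_inf (comm_le_l k.nK) ?_) _)
    exact commutator_mono (k.h2.trans k.hMN) le_rfl
  have hKQ' : (K ⊓ Q) ⊔ K' = K := le_antisymm (sup_le inf_le_left k.lt.le) hKQ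
  have hKQn : K ⊓ Q ≤ normalizer (K' : Set G) := (inf_le_right.trans hQV).trans k.nK'
  have hlt : K' ⊓ Q < K ⊓ Q := by
    refine lt_of_le_of_ne (inf_le_inf_right _ k.lt.le) fun e => k.lt.ne ?_
    rw [← hKQ', ← e]
    exact (sup_eq_right.2 inf_le_left).symm
  refine ⟨⟨hlt, inf_le_right.trans hQV, nrm_inf k.nK' hQn, nrm_inf k.nK hQn, fun J hJ hJ1 hJ2 => ?_⟩, ?_, ?_, ?_⟩
  · have hd := dede (H := J) (D := K') (M := Q)
    have hJQ : J ≤ Q := hJ2.trans inf_le_right
    have h1 := dede' (L := J) (D := K') (M := Q) ((hJQ.trans hQV).trans k.nK') hJQ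
    rw [sup_eq_left.2 hJ1] at h1
    rcases k.min (J ⊔ K') (nrm_sup hJ k.nK') le_sup_right (sup_le (hJ2.trans inf_le_left) k.lt.le) with e | e
    · left; rw [← h1, e]
    · right; rw [← h1, e]
  · have h1 : (K' ⊓ Q).relIndex (K ⊓ Q) = K'.relIndex (K ⊓ Q) := by
      rw [← inf_relIndex_right K' (K ⊓ Q), ← inf_assoc, inf_eq_left.2 k.lt.le]
    rw [h1, ← relIndex_sup_nl hKQn, hKQ']
  · apply le_antisymm
    · refine le_CF (CF_le _ _ _) ((CF_le _ _ _).trans k.nK') ?_
      refine (commutator_mono le_rfl hKQ).trans ?_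
      refine H231.commutator_sup_le hKQn le_normalizer ((CF_comm _ _ _).trans inf_le_left) ?_
      exact comm_le_r ((CF_le _ _ _).trans k.nK')
    · refine le_CF (CF_le _ _ _) ((CF_le _ _ _).trans (nrm_inf k.nK' hQn)) ?_
      refine le_inf ((commutator_mono le_rfl inf_le_left).trans (CF_comm _ _ _)) ?_
      exact (commutator_mono le_rfl inf_le_right).trans (comm_le_r ((CF_le _ _ _).trans hQn))
  · constructor
    · intro h1
      have h2 : ⁅K ⊓ Q, K ⊓ Q⁆ ≤ K' := h1.trans inf_le_left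
      have h3 : ⁅K ⊓ Q, K⁆ ≤ K' := by
        refine (commutator_mono le_rfl hKQ).trans ?_
        exact H231.commutator_sup_le hKQn le_normalizer h2 (comm_le_r hKQn)
      refine (commutator_mono hKQ le_rfl).trans ?_
      exact H231.sup_commutator_le hKQn le_normalizer h3 (comm_le_l k.nKK')
    · intro h1
      refine le_inf ((commutator_mono inf_le_left inf_le_left).trans h1) ?_
      exact (comm_le_r (le_normalizer)).trans inf_le_right

/-- **Lemma E** -/
theorem lemE (h : ESet Y O X V P N1 A A' N2 d1 d2) {L H : Subgroup G}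
    (hC : N2 ⊓ centralizer (P : Set G) ≤ L) (hLH : Chf A' L H) (hH : H ≤ N2) (hact : Act d2 L H) :
    ∃ M' M1, Chf V M' M1 ∧ M1 ≤ ⁅N1, V⁆ ∧ Act d1 M' M1 ∧ ¬ ⁅M1, V⁆ ≤ M' ∧ wt A' L H < wt V M' M1 := by
  obtain ⟨L', H', hLH', hC', hH', hw, hi, dich⟩ := exists_version hLH hC hH
  have hact' : Act d2 L' H' := by rw [Act, hi]; exact hact
  rw [← hw]
  clear hw hi hact hLH hC hH
  obtain ⟨M', M, K', K, k⟩ := exists_KK h hC' hLH' hH' hact' dich
  obtain ⟨c1, c2, c3, c4⟩ := k.chf h hLH'.le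
  have hnV : ¬ ⁅K ⊓ ⁅N1, V⁆, V⁆ ≤ K' ⊓ ⁅N1, V⁆ := by
    intro e
    have e1 : V ≤ CF V (K' ⊓ ⁅N1, V⁆) (K ⊓ ⁅N1, V⁆) := le_CF le_rfl c1.nL (by rwa [commutator_comm])
    rw [c3] at e1
    apply k.act
    exact (commutator_mono ((hLH'.le.trans h.A'V).trans e1) inf_le_right).trans (CF_comm _ _ _)
  refine ⟨K' ⊓ ⁅N1, V⁆, K ⊓ ⁅N1, V⁆, c1, inf_le_right, ?_, hnV, ?_⟩
  · rw [Act, c2]
    exact e6 h k
  have hDL := e5a h k hLH' dich
  have hA'K' : A' ≤ normalizer (K' : Set G) := h.A'V.trans k.nK'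
  have hA'K : A' ≤ normalizer (K : Set G) := h.A'V.trans k.nK
  have hSn : A' ≤ normalizer (CF A' K' K : Set G) := nrm_CF le_normalizer hA'K' hA'K
  have hS : CF A' K' K ≤ CF A' L' H' := by
    refine le_CF (CF_le _ _ _) ((CF_le _ _ _).trans hLH'.nL) ?_
    refine le_trans (le_inf ?_ ?_) hDL
    · exact comm_le_r ((CF_le _ _ _).trans hLH'.nH)
    · exact comm_le_l (hLH'.le.trans hSn)
  have hKVn : V ≤ normalizer (CF V K' K : Set G) := nrm_CF le_normalizer k.nK' k.nK
  have e1 : (CF A' L' H').relIndex A' ≤ (CF A' K' K).relIndex A' :=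
    Nat.le_of_dvd (relIndex_pos _ _) (relIndex_dvd_of_le_left (L := A') hS)
  have e2 : (CF A' K' K).relIndex A' = (CF V K' K).relIndex A' := by
    rw [CF_inf h.A'V, inf_relIndex_left]
  have e3 : (CF V K' K).relIndex A' ≤ (CF V K' K).relIndex V :=
    Nat.le_of_dvd (relIndex_pos _ _) (relIndex_dvd_nl h.A'V hKVn)
  have e4 := le_wt V (K' ⊓ ⁅N1, V⁆) (K ⊓ ⁅N1, V⁆)
  rw [c3] at e4
  by_cases hab : ⁅H', H'⁆ ≤ L'
  · rw [wt_of_comm hab]
    have h5 : CF A' K' K < CF A' L' H' := by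
      refine lt_of_le_of_ne hS fun e => ?_
      have h6 : H' ≤ CF A' L' H' := le_CF hLH'.le (hLH'.le.trans hLH'.nL) hab
      rw [← e] at h6
      exact hLH'.lt.not_ge ((le_inf le_rfl h6).trans hDL)
    have h7 := relIndex_lt_of_lt h5 (CF_le A' L' H')
    omega
  · rw [wt_of_not_comm hab]
    by_cases h8 : (CF A' L' H').relIndex A' < (CF V K' K).relIndex V
    · omega
    · by_cases hY : ⁅K, K⁆ ≤ K'
      · rw [wt_of_comm (c4.2 hY), c3]
        omega
      · exfalso
        have h9 : (CF V K' K).relIndex A' = (CF V K' K).relIndex V := by omega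
        have hV : V ≤ A' ⊔ CF V K' K := by
          have h1 := relIndex_mul_relIndex (CF V K' K) (A' ⊔ CF V K' K) V le_sup_right (sup_le h.A'V (CF_le _ _ _))
          rw [relIndex_sup_nl (h.A'V.trans hKVn), h9] at h1
          have h2 := relIndex_pos (CF V K' K) V
          have h3 : (A' ⊔ CF V K' K).relIndex V = 1 := by
            have : (CF V K' K).relIndex V * (A' ⊔ CF V K' K).relIndex V = (CF V K' K).relIndex V * 1 := by
              rw [h1, mul_one]
            exact Nat.eq_of_mul_eq_mul_left h2 this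
          exact relIndex_eq_one.1 h3
        have hS' : CF A' L' H' ≤ CF V K' K := by
          have h10 : (CF A' K' K).relIndex A' = (CF A' L' H').relIndex A' := by omega
          have h11 := relIndex_mul_relIndex _ _ A' hS (CF_le A' L' H')
          rw [h10] at h11
          have h12 := relIndex_pos (CF A' L' H') A'
          have h13 : (CF A' K' K).relIndex (CF A' L' H') = 1 := by
            have : (CF A' K' K).relIndex (CF A' L' H') * (CF A' L' H').relIndex A' =
                1 * (CF A' L' H').relIndex A' := by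
              rw [h11, one_mul]
            exact Nat.eq_of_mul_eq_mul_right h12 this
          refine (relIndex_eq_one.1 h13).trans ?_
          rw [CF_inf h.A'V]
          exact inf_le_right
        by_cases hX : ∀ N, Chf M M' N → X ≤ normalizer (N : Set G)
        · exact e7a h k hLH'.le hV hY hX
        · push Not at hX
          obtain ⟨N, hN, hX⟩ := hX
          exact e7b h k hLH' hact' hDL hS' hV hY hN hX

/-- three subgroups for a perfect group acting on a chain -/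
theorem perfect_chain {A' P B M' : Subgroup G} (hA' : ⁅A', A'⁆ = A') (hAM : A' ≤ normalizer (M' : Set G))
    (hPM : P ≤ normalizer (M' : Set G)) (h1 : ⁅A', P⁆ ≤ B) (h2 : ⁅A', B⁆ ≤ M') : ⁅A', P⁆ ≤ M' := by
  have h3 := H231.three_subgroups (P := M') (A := A') (B := A') (C := P) hAM hAM hPM ?_ ?_
  · rwa [hA'] at h3
  · exact (commutator_mono h1 le_rfl).trans (by rwa [commutator_comm])
  · rw [commutator_comm P]
    exact (commutator_mono h1 le_rfl).trans (by rwa [commutator_comm])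

/-- **Lemma E0** -/
theorem lemE0 (h : ESet Y O X V P N1 A A' N2 d1 d2) (hA' : ⁅A', A'⁆ = A')
    (hc : ∀ M' M1 : Subgroup G, Chf V M' M1 → M1 ≤ ⁅N1, V⁆ → Act d1 M' M1 → ⁅M1, V⁆ ≤ M') : ⁅A', P⁆ = ⊥ := by
  by_contra hne
  obtain ⟨M, ⟨hM1, hM2, hM3⟩, hM4⟩ := Set.Finite.exists_minimal
    (s := {M : Subgroup G | Y ≤ normalizer (M : Set G) ∧ M ≤ N1 ∧ ⁅A', P⁆ ≤ M}) (Set.toFinite _)
    ⟨N1, h.nN1, le_rfl, (comm_le_r h.A'P).trans h.PN1⟩
  have hMb : M ≠ ⊥ := by
    rintro rfl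
    exact hne (le_bot_iff.1 hM3)
  obtain ⟨M', c⟩ := exists_YC (hM2.trans h.N1Y) hM1 hMb
  have hHP : ¬ ⁅A', P⁆ ≤ M' := fun e => c.lt.not_ge (hM4 ⟨c.nM', c.lt.le.trans hM2, e⟩ c.lt.le)
  have hMn : M ≤ normalizer (M' : Set G) := c.le.trans c.nM'
  have hPM' : P ≤ normalizer (M' : Set G) := (h.PO.trans h.OY).trans c.nM'
  have hA'M' : A' ≤ normalizer (M' : Set G) := h.A'Y.trans c.nM'
  have hHPM : ⁅A', P⁆ ≤ P ⊓ M := le_inf (comm_le_r h.A'P) hM3
  have hX : ¬ ⁅P ⊓ M, X⁆ ≤ M' := by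
    intro e
    apply hHP
    have h3 := H231.three_subgroups (P := M') (A := P) (B := X) (C := A') hPM' (h.XY.trans c.nM') hA'M' ?_ ?_
    · rw [h.PX] at h3
      rwa [commutator_comm]
    · rw [h.XA', commutator_bot_left]
      exact bot_le
    · exact (commutator_mono hHPM le_rfl).trans e
  have hf : ¬ ⁅A', P ⊓ M⁆ ≤ M' := fun e => hHP (perfect_chain hA' hA'M' hPM' hHPM e)
  have hMV : M ≤ V ⊔ M' := by
    have hV : Y ≤ normalizer ((⁅M, V⁆ ⊔ M' : Subgroup G) : Set G) := nrm_sup (nrm_comm c.nM h.nV) c.nM'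
    rcases c.min (⁅M, V⁆ ⊔ M') hV le_sup_right (sup_le (comm_le_l (h.VY.trans c.nM)) c.lt.le) with e | e
    · exfalso
      apply hf
      have e1 : ⁅M, V⁆ ≤ M' := by rw [← e]; exact le_sup_left
      refine le_trans ?_ e1
      rw [commutator_comm]
      exact commutator_mono inf_le_right h.A'V
    · rw [← e]
      exact sup_le_sup_right (comm_le_r (c.le.trans h.nV)) _
  obtain ⟨K, ⟨hK1, hK2, hK3, hK4⟩, hK5⟩ := Set.Finite.exists_minimal
    (s := {K : Subgroup G | V ≤ normalizer (K : Set G) ∧ M' ≤ K ∧ K ≤ M ∧ ¬ ⁅A', P ⊓ K⁆ ≤ M'}) (Set.toFinite _)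
    ⟨M, h.VY.trans c.nM, c.lt.le, le_rfl, hf⟩
  have hKM' : M' < K := by
    refine lt_of_le_of_ne hK2 fun e => hK4 ?_
    rw [← e]
    exact (commutator_mono le_rfl inf_le_right).trans (comm_le_r hA'M')
  obtain ⟨K', ⟨hK'1, hK'2, hK'3⟩, hK'4⟩ := Set.Finite.exists_maximal
    (s := {J : Subgroup G | V ≤ normalizer (J : Set G) ∧ M' ≤ J ∧ J < K}) (Set.toFinite _)
    ⟨M', h.VY.trans c.nM', le_rfl, hKM'⟩
  have hHK' : ⁅A', P ⊓ K'⁆ ≤ M' := by
    by_contra e
    exact hK'3.not_ge (hK5 ⟨hK'1, hK'2, hK'3.le.trans hK3, e⟩ hK'3.le)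
  have k : KK Y X V P N1 A' M' M K' K := by
    refine ⟨c, hM2, hX, hMV, hK'2, hK'3, hK3, hK'1, hK1, fun J hJ hJ1 hJ2 => ?_, fun e => hK4 ?_⟩
    · rcases eq_or_lt_of_le hJ2 with e | e
      · exact Or.inr e
      · exact Or.inl (le_antisymm (hK'4 ⟨hJ, hK'2.trans hJ1, e⟩ hJ1) hJ1)
    · have hA'K : A' ≤ normalizer ((P ⊓ K : Subgroup G) : Set G) := nrm_inf h.A'P (h.A'V.trans hK1)
      refine perfect_chain hA' hA'M' (inf_le_left.trans hPM') (B := P ⊓ K') ?_ hHK'
      exact le_inf ((comm_le_r hA'K).trans inf_le_left) e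
  obtain ⟨c1, c2, c3, c4⟩ := k.chf h le_rfl
  apply k.act
  have e0 := hc _ _ c1 inf_le_right (by rw [Act, c2]; exact e6 h k)
  have e1 : V ≤ CF V (K' ⊓ ⁅N1, V⁆) (K ⊓ ⁅N1, V⁆) := le_CF le_rfl c1.nL (by rwa [commutator_comm])
  rw [c3] at e1
  exact (commutator_mono (h.A'V.trans e1) inf_le_right).trans (CF_comm _ _ _)

end Main

end Cfsg.Agent.R2.T3544
end

-- part: R2/T3544/NLf
section
/-!
# S3544, case NL with components: no active chief factor of `V x` in `[N_b(x), V x]` (part (f))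
-/

set_option autoImplicit false
set_option linter.unusedSectionVars false

namespace Cfsg.Agent.R2.T3544

open Subgroup Cfsg MulAction
open scoped commutatorElement

namespace VSys

variable {G : Type*} [Group G] [Finite G] {Ω : Type*} [MulAction G Ω] {p : ℕ} [Fact p.Prime]
  {ra rb : Ω → Ω → Prop} {da db : ℕ} {V : Ω → Subgroup G} {U : Ω → Ω → Subgroup G}

/-- `[N_b(x), V x] ≤ [N_b(x), U x y]` -/
theorem NN_le_comm (S : VSys G p ra rb V U) (h : NLS G p ra rb da db) {x y : Ω} (hxy : ra x y) :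
    ⁅Nf rb (Xf G p) (Of G p) x, V x⁆ ≤ ⁅Nf rb (Xf G p) (Of G p) x, U x y⁆ := by
  rw [commutator_le]
  intro n hn g hg
  obtain ⟨c, hc, v, hv, rfl⟩ := S.lossA hxy g hg
  have hcc : ∀ m ∈ Nf rb (Xf G p) (Of G p) x, m * c = c * m := fun m hm => mem_centralizer_iff.1 hc.2 m hm
  have hV : V x ≤ normalizer (Nf rb (Xf G p) (Of G p) x : Set G) := (S.FV.le x).trans (h.symm.FN.norm x)
  have h1 : ⁅n, v⁆ ∈ Nf rb (Xf G p) (Of G p) x :=
    comm_le_l hV (commutator_mem_commutator hn (S.le (Or.inl hxy) hv))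
  have h2 : ⁅n, c * v⁆ = ⁅n, v⁆ := by
    have e : ⁅n, c * v⁆ = n * c * v * n⁻¹ * v⁻¹ * c⁻¹ := by simp only [commutatorElement_def]; group
    have e2 : n * c * v * n⁻¹ * v⁻¹ * c⁻¹ = c * ⁅n, v⁆ * c⁻¹ := by
      rw [hcc n hn]; simp only [commutatorElement_def]; group
    rw [e, e2, ← hcc _ h1, mul_inv_cancel_right]
  rw [h2]
  exact commutator_mem_commutator hn hv

/-- `[N_b(x), V x] ≤ U x y` -/
theorem NN_le_U (S : VSys G p ra rb V U) (h : NLS G p ra rb da db) {x y : Ω} (hxy : ra x y) :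
    ⁅Nf rb (Xf G p) (Of G p) x, V x⁆ ≤ U x y := by
  refine (S.NN_le_comm h hxy).trans (comm_le_r ?_)
  refine le_trans ?_ (S.norm (Or.inl hxy))
  have h1 := h.symm.N_le_inf hxy
  exact le_inf ((h1.trans inf_le_left).trans (Of_fun.le x)) (h1.trans inf_le_right)

theorem NN_le_N (S : VSys G p ra rb V U) (h : NLS G p ra rb da db) (x : Ω) :
    ⁅Nf rb (Xf G p) (Of G p) x, V x⁆ ≤ Nf rb (Xf G p) (Of G p) x :=
  comm_le_l ((S.FV.le x).trans (h.symm.FN.norm x))

theorem NN_le_V (S : VSys G p ra rb V U) (h : NLS G p ra rb da db) (x : Ω) :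
    ⁅Nf rb (Xf G p) (Of G p) x, V x⁆ ≤ V x :=
  comm_le_r ((h.symm.FN.le x).trans (S.FV.norm x))

theorem NN_fun (S : VSys G p ra rb V U) (h : NLS G p ra rb da db) :
    Fun G (fun x => ⁅Nf rb (Xf G p) (Of G p) x, V x⁆) := Fun.commutator h.symm.FN S.FV

theorem V_norm_NN (S : VSys G p ra rb V U) (h : NLS G p ra rb da db) (x : Ω) :
    V x ≤ normalizer ((⁅Nf rb (Xf G p) (Of G p) x, V x⁆ : Subgroup G) : Set G) :=
  (S.FV.le x).trans ((S.NN_fun h).norm x)

/-- the covering -/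
theorem cover (S : VSys G p ra rb V U) (h : NLS G p ra rb da db) {x y : Ω} (hxy : ra x y) :
    ∀ g ∈ V x, ∃ a ∈ U x y, ∃ c ∈ V x ⊓ centralizer ((⁅Nf rb (Xf G p) (Of G p) x, V x⁆ : Subgroup G) : Set G),
      g = a * c := by
  intro g hg
  obtain ⟨c, hc, v, hv, e⟩ := S.lossA hxy g⁻¹ ((V x).inv_mem hg)
  refine ⟨v⁻¹, (U x y).inv_mem hv, c⁻¹, inv_mem ⟨hc.1, ?_⟩, ?_⟩
  · exact centralizer_le (S.NN_le_N h x) hc.2
  · rw [← inv_inv g, e, mul_inv_rev]

/-- the setting of Lemma E -/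
theorem eset (S : VSys G p ra rb V U) (h : NLS G p ra rb da db) {x y : Ω} (hxy : ra x y) :
    ESet (stabilizer G y) (Of G p y) (Xf G p x) (V y) ⁅Of G p y, Xf G p x⁆ (Nf ra (Xf G p) (Of G p) y)
      (Of G p y ⊓ centralizer (Xf G p x : Set G)) (U x y) ⁅Nf rb (Xf G p) (Of G p) x, V x⁆ da db where
  OY := Of_fun.le y
  nO := Of_fun.norm y
  VY := S.FV.le y
  nV := S.FV.norm y
  N1O := h.N_le_O y
  nN1 := h.FN.norm y
  XY := h.X_le (h.A.symm hxy)
  P_eq := rfl
  PX := h.comm_comm (h.A.symm hxy)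
  PN1 := le_Nf (h.A.symm hxy) 
  A_eq := rfl
  idx := h.idx (h.A.symm hxy)
  A'V := by
    rw [S.symm (Or.inl hxy)]
    exact S.le (Or.inl (h.A.symm hxy))
  A'X := S.cent (Or.inl hxy)
  N2A' := S.NN_le_U h hxy
  nN2 := (S.le (Or.inl hxy)).trans (S.V_norm_NN h x)
  cop := h.hab

/-- the measure step -/
theorem step (S : VSys G p ra rb V U) (h : NLS G p ra rb da db) {x y : Ω} (hxy : ra x y) {L H : Subgroup G}
    (hC : Chf (V x) L H)
    (hL : ⁅Nf rb (Xf G p) (Of G p) x, V x⁆ ⊓ centralizer ((⁅Of G p y, Xf G p x⁆ : Subgroup G) : Set G) ≤ L)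
    (hH : H ≤ ⁅Nf rb (Xf G p) (Of G p) x, V x⁆) (hact : Act db L H) :
    ∃ M' M1, Chf (V y) M' M1 ∧ M1 ≤ ⁅Nf ra (Xf G p) (Of G p) y, V y⁆ ∧ Act da M' M1 ∧ ¬ ⁅M1, V y⁆ ≤ M' ∧
      wt (V x) L H < wt (V y) M' M1 := by
  have hcov := S.cover h hxy
  have h1 : Chf (U x y) L H := (Resid.chf_iff (S.le (Or.inl hxy)) (S.NN_le_U h hxy) hcov hH).2 hC
  have h2 : wt (U x y) L H = wt (V x) L H := Resid.wt_eq (S.le (Or.inl hxy)) hcov hC.lt.le hH
  obtain ⟨M', M1, k1, k2, k3, k4, k5⟩ := lemE (S.eset h hxy) hL h1 hH hact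
  exact ⟨M', M1, k1, k2, k3, k4, h2 ▸ k5⟩

theorem false_of_max (S : VSys G p ra rb V U) (h : NLS G p ra rb da db)
    (hNL : ∀ z : Ω, Of G p z ≠ ⊥ ∨ ∃ J, UC p J (stabilizer G z)) {r : ℕ} {x : Ω} {L₀ H₀ : Subgroup G}
    (h₀ : Chf (V x) L₀ H₀) (h₀N : H₀ ≤ ⁅Nf rb (Xf G p) (Of G p) x, V x⁆) (h₀a : Act db L₀ H₀)
    (h₀w : wt (V x) L₀ H₀ = r)
    (hmax : ∀ (y : Ω) (L H : Subgroup G), Chf (V y) L H → H ≤ ⁅Nf ra (Xf G p) (Of G p) y, V y⁆ → Act da L H →
      ¬ ⁅H, V y⁆ ≤ L → wt (V y) L H ≤ r) : False := by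
  obtain ⟨y, hxy⟩ := h.A.ex x
  have hNV : ∀ z, ⁅Nf rb (Xf G p) (Of G p) z, V z⁆ ≤ V z := S.NN_le_V h
  have hn := S.V_norm_NN h
  have FR : Fun G (fun z => Resid.resW (V z) ⁅Nf rb (Xf G p) (Of G p) z, V z⁆ db r) := Fun.resW S.FV (S.NN_fun h) db r
  have hR1 : Resid.resW (V x) ⁅Nf rb (Xf G p) (Of G p) x, V x⁆ db r ≠ ⊥ :=
    Resid.resW_ne_bot (hNV x) (hn x) h₀ h₀N h₀a h₀w
  have hRN : Resid.resW (V x) ⁅Nf rb (Xf G p) (Of G p) x, V x⁆ db r ≤ ⁅Nf rb (Xf G p) (Of G p) x, V x⁆ :=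
    Resid.resW_le (hn x) db r
  have hVC : V x ≤ normalizer ((⁅Nf rb (Xf G p) (Of G p) x, V x⁆ ⊓
      centralizer ((⁅Of G p y, Xf G p x⁆ : Subgroup G) : Set G) : Subgroup G) : Set G) := by
    intro g hg
    obtain ⟨a, ha, c, hc, rfl⟩ := S.cover h hxy g hg
    refine mul_mem ?_ ?_
    · have hU : U x y ≤ normalizer ((⁅Nf rb (Xf G p) (Of G p) x, V x⁆ ⊓
          centralizer ((⁅Of G p y, Xf G p x⁆ : Subgroup G) : Set G) : Subgroup G) : Set G) := by
        refine nrm_inf ((S.le (Or.inl hxy)).trans (hn x)) (nrm_centralizer (nrm_comm ?_ ?_))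
        · have hUy : U x y ≤ V y := by
            rw [S.symm (Or.inl hxy)]
            exact S.le (Or.inl (h.A.symm hxy))
          exact (hUy.trans (S.FV.le y)).trans (Of_fun.norm y)
        · exact ((S.le (Or.inl hxy)).trans (S.FV.le x)).trans (Xf_fun.norm x)
      exact hU ha
    · exact cent_le_norm _ (centralizer_le (fun t ht => (mem_inf.1 ht).1) hc.2)
  have hRC : Resid.resW (V x) ⁅Nf rb (Xf G p) (Of G p) x, V x⁆ db r ≤ ⁅Nf rb (Xf G p) (Of G p) x, V x⁆ ⊓
      centralizer ((⁅Of G p y, Xf G p x⁆ : Subgroup G) : Set G) := by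
    by_contra hcon
    obtain ⟨L, H, k1, k2, k3, k4, k5⟩ := Resid.exists_of_not_le inf_le_left hVC hcon
    obtain ⟨M', M1, m1, m2, m3, m4, m5⟩ := S.step h hxy k1 k2 k3 k4
    have := hmax y M' M1 m1 m2 m3 m4
    omega
  refine endgame h.P h.A h.pa ucBasic balStmt commNormStmt coreCommStmt h.sch h.X1 hNL hxy FR hR1 ?_ ?_
  · exact commutator_eq_bot_iff_le_centralizer.2 (hRC.trans inf_le_right)
  · intro J hJ hJm
    exact (commutator_mono (hRN.trans (S.NN_le_U h hxy)) le_rfl).trans (S.comp (Or.inl hxy) J hJ hJm)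

end VSys

/-- **(f)**: every chief factor of `V x` inside `[N_b(x), V x]` of order not prime to `d_b` is central -/
theorem NLS.noFac {G : Type*} [Group G] [Finite G] {Ω : Type*} [MulAction G Ω] {p : ℕ} [Fact p.Prime]
    {ra rb : Ω → Ω → Prop} {da db : ℕ} {V : Ω → Subgroup G} {U : Ω → Ω → Subgroup G}
    (h : NLS G p ra rb da db) (S : VSys G p ra rb V U)
    (hNL : ∀ z : Ω, Of G p z ≠ ⊥ ∨ ∃ J, UC p J (stabilizer G z)) (x : Ω) (L H : Subgroup G)
    (hC : Chf (V x) L H) (hH : H ≤ ⁅Nf rb (Xf G p) (Of G p) x, V x⁆) (hact : Act db L H) : ⁅H, V x⁆ ≤ L := by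
  classical
  by_contra hnc
  let T : Set ℕ := {n | (∃ (x : Ω) (L H : Subgroup G), Chf (V x) L H ∧ H ≤ ⁅Nf ra (Xf G p) (Of G p) x, V x⁆ ∧
      Act da L H ∧ ¬ ⁅H, V x⁆ ≤ L ∧ wt (V x) L H = n) ∨
    ∃ (x : Ω) (L H : Subgroup G), Chf (V x) L H ∧ H ≤ ⁅Nf rb (Xf G p) (Of G p) x, V x⁆ ∧
      Act db L H ∧ ¬ ⁅H, V x⁆ ≤ L ∧ wt (V x) L H = n}
  have hne : T.Nonempty := ⟨_, Or.inr ⟨x, L, H, hC, hH, hact, hnc, rfl⟩⟩
  have hbd : BddAbove T := by
    refine ⟨2 * Nat.card G + 1, ?_⟩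
    rintro n (⟨x, L, H, -, -, -, -, rfl⟩ | ⟨x, L, H, -, -, -, -, rfl⟩) <;> exact wt_le _ _ _
  have hmem := Nat.sSup_mem hne hbd
  have hle : ∀ n ∈ T, n ≤ sSup T := fun n hn => le_csSup hbd hn
  rcases hmem with ⟨x, L, H, h1, h2, h3, -, h5⟩ | ⟨x, L, H, h1, h2, h3, -, h5⟩
  · exact S.swap.false_of_max h.symm hNL h1 h2 h3 h5 fun y L' H' k1 k2 k3 k4 =>
      hle _ (Or.inr ⟨y, L', H', k1, k2, k3, k4, rfl⟩)
  · exact S.false_of_max h hNL h1 h2 h3 h5 fun y L' H' k1 k2 k3 k4 =>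
      hle _ (Or.inl ⟨y, L', H', k1, k2, k3, k4, rfl⟩)

end Cfsg.Agent.R2.T3544
end
end

-- part: T44/Par
section
set_option linter.all false
open scoped Cfsg.Agent.FastGrp

/-!
# S3544, the groups of Lie type in the defining characteristic (helper36)

* `BT p Y` : the theorem of Borel and Tits without root data (as in `SB/Par/Bt.lean`);
* `Cfg.false_of_bt` : `Q` is the unipotent radical of a parabolic subgroup, so `M` contains a Borel subgroup;
* `boxPar`.
-/

set_option autoImplicit false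

namespace Cfsg.Agent.T44

open Subgroup Cfsg

/-! ### Models of `T` -/

section model

variable {G : Type*} [Group G] {T : Subgroup G} {Y : Type*} [Group Y]

/-- the embedding of a model of `T` -/
def emb (e : T ≃* Y) : Y →* G := T.subtype.comp e.symm.toMonoidHom

theorem emb_inj (e : T ≃* Y) : Function.Injective (emb e) := T.subtype_injective.comp e.symm.injective

theorem emb_mem (e : T ≃* Y) (y : Y) : emb e y ∈ T := (e.symm y).2

theorem emb_surj (e : T ≃* Y) {x : G} (hx : x ∈ T) : ∃ y, emb e y = x :=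
  ⟨e ⟨x, hx⟩, congrArg Subtype.val (e.symm_apply_apply _)⟩

theorem map_emb_le (e : T ≃* Y) (A : Subgroup Y) : A.map (emb e) ≤ T := by
  rintro _ ⟨y, -, rfl⟩
  exact emb_mem e y

theorem map_comap_emb (e : T ≃* Y) {A : Subgroup G} (hA : A ≤ T) : (A.comap (emb e)).map (emb e) = A := by
  refine le_antisymm (map_comap_le _ _) fun x hx => ?_
  obtain ⟨y, rfl⟩ := emb_surj e (hA hx)
  exact ⟨y, hx, rfl⟩

theorem map_top_emb (e : T ≃* Y) : (⊤ : Subgroup Y).map (emb e) = T := by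
  refine le_antisymm (map_emb_le e _) fun x hx => ?_
  obtain ⟨y, rfl⟩ := emb_surj e hx
  exact ⟨y, trivial, rfl⟩

theorem emb_mem_normalizer (e : T ≃* Y) {A : Subgroup Y} {y : Y} :
    emb e y ∈ normalizer (A.map (emb e) : Set G) ↔ y ∈ normalizer (A : Set Y) := by
  rw [← cj_eq_iff, ← cj_eq_iff]
  have h1 : cj (emb e y) (A.map (emb e)) = (cj y A).map (emb e) := by
    ext x
    constructor
    · rintro ⟨_, ⟨a, ha, rfl⟩, rfl⟩
      exact ⟨_, conj_mem_cj ha y, by simp⟩
    · rintro ⟨_, ⟨a, ha, rfl⟩, rfl⟩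
      exact ⟨_, ⟨a, ha, rfl⟩, by simp⟩
  rw [h1]
  exact ⟨fun h => map_injective (emb_inj e) h, fun h => by rw [h]⟩

theorem syl_map_emb [Finite Y] (e : T ≃* Y) {p : ℕ} [Fact p.Prime] (U : Sylow p Y) :
    Syl p ((U : Subgroup Y).map (emb e)) T := by
  refine ⟨map_emb_le e _, U.isPGroup'.map _, ?_⟩
  have h1 := relIndex_map_map_of_injective (f := emb e) (U : Subgroup Y) ⊤ (emb_inj e)
  rw [map_top_emb, relIndex_top_right] at h1
  rw [h1]
  exact U.not_dvd_index

end model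

/-- Borel–Tits -/
def BT (p : ℕ) (Y : Type*) [Group Y] : Prop :=
  ∀ K : Subgroup Y, IsPGroup p K → K ≠ ⊥ → ∃ V : Subgroup Y, IsPGroup p V ∧ K ≤ V ∧
    normalizer (K : Set Y) ≤ normalizer (V : Set Y) ∧
      ∃ U : Sylow p Y, normalizer ((U : Subgroup Y) : Set Y) ≤ normalizer (V : Set Y)

theorem le_of_inf_norm {G : Type*} [Group G] [Finite G] {p : ℕ} [Fact p.Prime] {K V : Subgroup G}
    (hV : IsPGroup p V) (hKV : K ≤ V) (h : V ⊓ normalizer (K : Set G) ≤ K) : K = V := by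
  have := hV.isNilpotent
  have h3 := normalizerCondition_iff_only_full_group_self_normalizing.1
    (Group.normalizerCondition_of_isNilpotent (G := V)) (K.subgroupOf V) (by
      rw [← subgroupOf_normalizer_eq hKV]
      exact le_antisymm (fun x hx => h ⟨x.2, hx⟩) fun x hx => le_normalizer hx)
  exact le_antisymm hKV (subgroupOf_eq_top.1 h3)

theorem Cfg.false_of_bt {G : Type*} [Group G] [Finite G] {T H Q : Subgroup G} {r : ℕ} {Ya Yb : Set G} {da db : ℕ}
    (h : Cfg T H Q r Ya Yb da db) {Y : Type*} [Group Y] (e : T ≃* Y) (hB : BT r Y) : False := by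
  have : Fact r.Prime := ⟨h.prime⟩
  have : Finite Y := Finite.of_equiv _ e.toEquiv
  have hQ := map_comap_emb e h.Q_le_T
  obtain ⟨V, hV, hKV, hN, U, hU⟩ := hB (Q.comap (emb e)) (h.isO.pg.comap_of_injective _ (emb_inj e)) fun e1 =>
    h.Q_ne (by rw [← hQ, e1, Subgroup.map_bot])
  have h1 : T ⊓ H ≤ normalizer (V.map (emb e) : Set G) := by
    intro x hx
    obtain ⟨y, rfl⟩ := emb_surj e hx.1
    refine (emb_mem_normalizer e).2 (hN ((emb_mem_normalizer e).1 ?_))
    rw [hQ]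
    exact h.H_norm_Q hx.2
  have h2 : Q = V.map (emb e) := by
    refine le_of_inf_norm (hV.map _) (hQ ▸ map_mono hKV) ?_
    rw [h.norm_Q]
    exact h.isO.max _ (inf_le_inf_right _ (map_emb_le e V)) ((hV.map _).to_inf_left)
      (norm_inf h1 (inf_le_right.trans le_normalizer))
  have h3 : T ⊓ normalizer (((U : Subgroup Y).map (emb e) : Subgroup G) : Set G) ≤ H := by
    intro x hx
    obtain ⟨y, rfl⟩ := emb_surj e hx.1
    rw [← h.norm_Q, h2]
    exact (emb_mem_normalizer e).2 (hU ((emb_mem_normalizer e).1 hx.2))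
  obtain ⟨n, hn1, hn2, hn3⟩ := h.exists_norm_syl ((syl_map_emb e U).of_le inf_le_left
    (le_inf (map_emb_le e _) ((le_inf (map_emb_le e _) le_normalizer).trans h3)))
  exact hn2 (h3 ⟨hn1, hn3⟩)

/-! ### Borel–Tits in the families -/

section filt

open CoxeterSystem Cfsg.Agent.Nodes.LeviDec Cfsg.Agent.Nodes.NormalForm Cfsg.Agent.KFacts.RgdAut
  Cfsg.Agent.KFacts.RgdCharP Cfsg.Agent.KFacts.RgdFilt

theorem bt_of_filt {p : ℕ} {Y : Type*} [Group Y] [Finite Y] [Fact p.Prime] (hF : HasFilt p Y) : BT p Y := by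
  obtain ⟨l, M, A, h, T, n, X, R, F, hW, hX, hF⟩ := hF
  intro K hK hK1
  obtain ⟨g, J, -, h1, h2⟩ := borel_tits_of_filt hF hX hK hK1
  have hG := KFacts.RgdFilt.GG_eq_top (T := T) hX
  let U : Sylow p Y := ⟨_, R.isPGroup_Upos, fun {_} hQ hle => eq_U_of_isPGroup R hQ hle (by rw [hG]; exact le_top)⟩
  refine ⟨_, (isPGroup_VJ R J).map _, h1, h2.trans ?_, g • U, ?_⟩
  · exact (cj_mono g (PJ_le_normalizer_VJ R J)).trans (cj_normalizer g _).le
  · refine (cj_normalizer g (U : Subgroup Y)).ge.trans ((cj_mono g ?_).trans (cj_normalizer g _).le)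
    exact (normalizer_U' R hG).le.trans (B_le_PJ.trans (PJ_le_normalizer_VJ R J))

end filt

theorem bt_of_ti {p : ℕ} {Y : Type*} [Group Y] [Fact p.Prime]
    (h : ∀ (P P' : Sylow p Y) (x : Y), x ∈ P → x ∈ P' → x ≠ 1 → P = P') : BT p Y := by
  intro K hK hK1
  obtain ⟨P, hP⟩ := hK.exists_le_sylow
  obtain ⟨x, hx, hx1⟩ := (K.bot_or_exists_ne_one).resolve_left hK1
  refine ⟨P, P.isPGroup', hP, fun g hg => ?_, P, le_rfl⟩
  refine Sylow.smul_eq_iff_mem_normalizer.1 (h _ _ (g * x * g⁻¹) (conj_mem_cj (hP hx) g)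
    (hP ((mem_normalizer_iff.1 hg x).1 hx)) fun e => hx1 ?_)
  simpa using e

theorem bt_of_od {Y : Type*} [Group Y] [Finite Y] (D : H564.EPF.OD Y) (P : Sylow 2 Y) (hP : (P : Subgroup Y) = D.U) :
    BT 2 Y := by
  have : Fact (Nat.Prime 2) := ⟨Nat.prime_two⟩
  intro K hK hK1
  obtain ⟨P', hP'⟩ := hK.exists_le_sylow
  obtain ⟨g₀, hg₀⟩ := MulAction.exists_smul_eq Y P P'
  have h1 : cj g₀ (P : Subgroup Y) = (P' : Subgroup Y) := by rw [← hg₀]; rfl
  obtain ⟨g, J, -, h3, h4⟩ := H564.EPF.OD.bt (D := D) (g₀ := g₀) hK1 (by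
    change K ≤ cj g₀ D.U
    rw [← hP, h1]
    exact hP')
  have h2 : IsPGroup 2 D.U := hP ▸ P.isPGroup'
  refine ⟨cj g (D.VV J), (h2.to_le (H564.EPF.OD.VV_le_U J)).map _, h3, h4.trans (cj_normalizer g _).le, g • P, ?_⟩
  refine (cj_normalizer g (P : Subgroup Y)).ge.trans ((cj_mono g ?_).trans (cj_normalizer g _).le)
  rw [hP, ← H564.EPF.OD.P_empty]
  exact H564.EPF.OD.P_mono (Set.empty_subset J)

open Cfsg.Agent.ChevalleyStructure.TwF4.TwistedFix in
theorem bt_2F4 {K : Type} [Field K] [Fintype K] {m : ℕ} (hm : 1 ≤ m) (hK : Fintype.card K = 2 ^ (2 * m + 1))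
    [Finite (Lie.twistedF4 K (2 ^ m))] : BT 2 (Lie.twistedF4 K (2 ^ m)) := by
  have : Fact (Nat.Prime 2) := ⟨Nat.prime_two⟩
  have : CharP K 2 := Cfsg.Agent.ChevalleyStructure.TwF4.Twisted.charP_two hK
  obtain ⟨φ, hφ⟩ := exists_rln hK
  have hF : ∃ c : Kˣ, c ≠ 1 := by
    classical
    have h1 : 1 < Fintype.card Kˣ := by
      rw [Fintype.card_units, hK]
      have h2 : 2 ^ 3 ≤ 2 ^ (2 * m + 1) := Nat.pow_le_pow_right (by norm_num) (by omega)
      omega
    have := Fintype.one_lt_card_iff_nontrivial.1 h1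
    exact exists_ne 1
  obtain ⟨P, hP⟩ := KFacts.TwF4.SylU.exists_sylow (KFacts.TwF4.Inst.full hK hφ) hF rfl
  exact bt_of_od (H564.EPF.ofFull _ (H564.EPF.opp hK hφ)) P hP

/-- **The defining characteristic.** -/
theorem boxPar : BoxPar := by
  intro _ G _ _ T H Q r Ya Yb da db h hT
  have : Fact r.Prime := ⟨h.prime⟩
  have filt : KFacts.RgdLieCharP.IsLieFilt r T → False := fun h1 =>
    h.toCfg.false_of_bt (MulEquiv.refl _) (bt_of_filt (KFacts.RgdLieCharP.hasFilt_of_lie h1))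
  rcases hT with h1 | h1 | h1 | h1 | h1 | h1 | h1 | h1 | ⟨rfl, h1⟩ | ⟨rfl, h1⟩ | ⟨rfl, h1⟩
  · exact filt (Or.inl h1)
  · exact filt (Or.inr (Or.inl h1))
  · exact filt (Or.inr (Or.inr (Or.inl h1)))
  · exact filt (Or.inr (Or.inr (Or.inr (Or.inl h1))))
  · exact filt (Or.inr (Or.inr (Or.inr (Or.inr (Or.inl h1)))))
  · exact filt (Or.inr (Or.inr (Or.inr (Or.inr (Or.inr (Or.inl h1))))))
  · exact filt (Or.inr (Or.inr (Or.inr (Or.inr (Or.inr (Or.inr (Or.inl h1)))))))
  · exact filt (Or.inr (Or.inr (Or.inr (Or.inr (Or.inr (Or.inr (Or.inr h1)))))))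
  · exact h.toCfg.false_of_bt (MulEquiv.refl _) (bt_of_ti fun _ _ _ h2 h3 h4 => OddCyclic.FFSz.sylow_ti h1 h2 h3 h4)
  · obtain ⟨K, _, _, m, hm, hK, ⟨e⟩⟩ := h1
    have : Finite (Lie.twistedF4 K (2 ^ m)) := Finite.of_equiv _ e.toEquiv
    exact h.toCfg.false_of_bt e (bt_2F4 hm hK)
  · obtain ⟨K, _, _, m, hm, hK, ⟨e⟩⟩ := h1
    refine h.toCfg.false_of_bt e (bt_of_ti fun P P' x h2 h3 h4 => ?_)
    by_contra hne
    have h5 : x ∈ (P : Subgroup _) ⊓ (P' : Subgroup _) := ⟨h2, h3⟩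
    rw [S1155.result hm hK P P' hne] at h5
    exact h4 h5

end Cfsg.Agent.T44
end

-- part: T44/Ex/W8
section
prune_inst 0xf51067447d220200001805903100182038000002014b040094600306034fd042254306014b200c1108028d001004006002dc0080400000000a000000080405218000120090480004060019800082000000000000000000000000000000041000200000000
set_option linter.all false
open scoped Cfsg.Agent.FastGrp

/-!
# S3544: subgroups of order 25 of the Weyl group of `E₈` (helper34)

* `W2` : a subgroup of order 25 fixes no nonzero vector of the root lattice;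
* `W1` : it centralizes every `2`-subgroup and every `3`-subgroup that it normalizes.
-/

set_option autoImplicit false
set_option linter.unusedSectionVars false
set_option linter.style.haveILetI false

namespace Cfsg.Agent.T44.Ex

open CoxeterSystem Cfsg Cfsg.Lie Matrix
open Cfsg.Agent.ChevalleyStructure.CoxeterGeom Cfsg.Agent.ChevalleyStructure.CoxeterGeomTypes Cfsg.Agent.Tits.Roots
open Cfsg.Agent.DS.Ex (hpE8)
open Cfsg.Agent.T44.Cl.W8

namespace W8

/-- the Cartan matrix -/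
def A8 : Matrix (Fin 8) (Fin 8) ℤ :=
  !![2, 0, -1, 0, 0, 0, 0, 0; 0, 2, 0, -1, 0, 0, 0, 0; -1, 0, 2, -1, 0, 0, 0, 0; 0, -1, -1, 2, -1, 0, 0, 0;
    0, 0, 0, -1, 2, -1, 0, 0; 0, 0, 0, 0, -1, 2, -1, 0; 0, 0, 0, 0, 0, -1, 2, -1; 0, 0, 0, 0, 0, 0, -1, 2]

/-- its inverse -/
def I8 : Matrix (Fin 8) (Fin 8) ℤ :=
  !![4, 5, 7, 10, 8, 6, 4, 2; 5, 8, 10, 15, 12, 9, 6, 3; 7, 10, 14, 20, 16, 12, 8, 4; 10, 15, 20, 30, 24, 18, 12, 6;
    8, 12, 16, 24, 20, 15, 10, 5; 6, 9, 12, 18, 15, 12, 8, 4; 4, 6, 8, 12, 10, 8, 6, 3; 2, 3, 4, 6, 5, 4, 3, 2]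

theorem A8_I8 : A8 * I8 = 1 := by decide +kernel

theorem A8_eq (i j : Fin 8) : cartanOf chevE8 8 i j = A8 i j := by
  have h : (List.finRange 8).all (fun i => (List.finRange 8).all fun j => cartanOf chevE8 8 i j == A8 i j) = true := by
    decide +kernel
  rw [List.all_eq_true] at h
  have h2 := h i (List.mem_finRange i)
  rw [List.all_eq_true] at h2
  exact beq_iff_eq.1 (h2 j (List.mem_finRange j))

theorem A8_symm (i j : Fin 8) : A8 i j = A8 j i := by
  have h : A8ᵀ = A8 := by decide +kernel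
  exact (congrFun (congrFun h i) j).symm

theorem A8_diag : ∀ i, A8 i i = 2 := by decide +kernel

/-- the form on the lattice -/
def fm : LinearMap.BilinForm ℤ (Fin 8 → ℤ) := Matrix.toBilin' A8

theorem fm_apply (x y : Fin 8 → ℤ) : fm x y = ∑ i, ∑ j, x i * A8 i j * y j := Matrix.toBilin'_apply _ _ _

theorem fm_symm (x y : Fin 8 → ℤ) : fm x y = fm y x := by
  rw [fm_apply, fm_apply, Finset.sum_comm]
  refine Finset.sum_congr rfl fun i _ => Finset.sum_congr rfl fun j _ => ?_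
  rw [A8_symm j i]; ring

theorem fm_sr (i : Fin 8) (y : Fin 8 → ℤ) : fm (sr i) y = pairing (cartanOf chevE8 8) i y := by
  rw [fm_apply, Finset.sum_eq_single i]
  · unfold pairing
    refine Finset.sum_congr rfl fun j _ => ?_
    rw [sr_self, one_mul, A8_eq]
  · intro j _ hj
    refine Finset.sum_eq_zero fun j' _ => ?_
    rw [sr_ne hj, zero_mul, zero_mul]
  · intro h
    exact absurd (Finset.mem_univ i) h

theorem fm_sr_sr (i : Fin 8) : fm (sr i) (sr i) = 2 := by
  rw [fm_sr]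
  unfold pairing
  rw [Finset.sum_eq_single i, sr_self, mul_one, A8_eq, A8_diag]
  · intro j _ hj
    rw [sr_ne hj, mul_zero]
  · intro h
    exact absurd (Finset.mem_univ i) h

theorem fm_self (x : Fin 8 → ℤ) : fm x x = 2 * (x 0 ^ 2 + x 1 ^ 2 + x 2 ^ 2 + x 3 ^ 2 + x 4 ^ 2 + x 5 ^ 2 + x 6 ^ 2 + x 7 ^ 2
    - x 0 * x 2 - x 1 * x 3 - x 2 * x 3 - x 3 * x 4 - x 4 * x 5 - x 5 * x 6 - x 6 * x 7) := by
  rw [fm_apply]
  simp only [Fin.sum_univ_succ, A8, _root_.Int.reduceNeg, _root_.Matrix.of_apply, _root_.Matrix.cons_val', _root_.Matrix.cons_val_fin_one, _root_.Fin.isValue, _root_.Matrix.cons_val_zero, _root_.Matrix.cons_val_succ, _root_.Fin.succ_zero_eq_one, _root_.Fin.succ_one_eq_two, _root_.Fin.reduceSucc, _root_.Finset.univ_unique, _root_.Fin.default_eq_zero, _root_.Finset.sum_singleton, _root_.MulZeroClass.mul_zero, _root_.MulZeroClass.zero_mul, _root_.mul_neg, _root_.mul_one, _root_.neg_mul, _root_.add_zero, _root_.zero_add]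
  ring

theorem fm_sq (x : Fin 8 → ℤ) : 4 * fm x x = (x 0 + 2 * x 1 - 2 * x 2) ^ 2 + (-x 0 + 2 * x 1 + 2 * x 2 - 2 * x 3) ^ 2 +
    (-x 0 + 2 * x 3 - 2 * x 4) ^ 2 + (-x 0 + 2 * x 4 - 2 * x 5) ^ 2 + (-x 0 + 2 * x 5 - 2 * x 6) ^ 2 +
    (-x 0 + 2 * x 6 - 2 * x 7) ^ 2 + (-x 0 + 2 * x 7) ^ 2 + x 0 ^ 2 := by
  rw [fm_self]; ring

private theorem sq8 {a b c d e f g h : ℤ} (H : 0 = a ^ 2 + b ^ 2 + c ^ 2 + d ^ 2 + e ^ 2 + f ^ 2 + g ^ 2 + h ^ 2) :
    a = 0 ∧ b = 0 ∧ c = 0 ∧ d = 0 ∧ e = 0 ∧ f = 0 ∧ g = 0 ∧ h = 0 := by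
  have k : ∀ {u v : ℤ}, 0 ≤ u → u + v ^ 2 = 0 → u = 0 ∧ v = 0 := fun {u v} hu h =>
    have h1 := (add_eq_zero_iff_of_nonneg hu (sq_nonneg v)).1 h
    ⟨h1.1, (pow_eq_zero_iff two_ne_zero).1 h1.2⟩
  have p1 := sq_nonneg a
  have p2 := add_nonneg p1 (sq_nonneg b)
  have p3 := add_nonneg p2 (sq_nonneg c)
  have p4 := add_nonneg p3 (sq_nonneg d)
  have p5 := add_nonneg p4 (sq_nonneg e)
  have p6 := add_nonneg p5 (sq_nonneg f)
  have p7 := add_nonneg p6 (sq_nonneg g)
  have q7 := k p7 H.symm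
  have q6 := k p6 q7.1
  have q5 := k p5 q6.1
  have q4 := k p4 q5.1
  have q3 := k p3 q4.1
  have q2 := k p2 q3.1
  have q1 := k p1 q2.1
  exact ⟨(pow_eq_zero_iff two_ne_zero).1 q1.1, q1.2, q2.2, q3.2, q4.2, q5.2, q6.2, q7.2⟩

theorem fm_nonneg (x : Fin 8 → ℤ) : 0 ≤ fm x x := by
  refine nonneg_of_mul_nonneg_right ?_ (by decide : (0 : ℤ) < 4)
  rw [fm_sq]
  exact add_nonneg (add_nonneg (add_nonneg (add_nonneg (add_nonneg (add_nonneg (add_nonneg (sq_nonneg _) (sq_nonneg _))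
    (sq_nonneg _)) (sq_nonneg _)) (sq_nonneg _)) (sq_nonneg _)) (sq_nonneg _)) (sq_nonneg _)

theorem fm_zero {x : Fin 8 → ℤ} (h : fm x x = 0) : x = 0 := by
  have e := fm_sq x
  rw [h, mul_zero] at e
  obtain ⟨b1, b2, b3, b4, b5, b6, b7, b8⟩ := sq8 e
  have c7 : x 7 = 0 := by clear * - b8 b7; omega
  have c6 : x 6 = 0 := by clear * - b8 b6 c7; omega
  have c5 : x 5 = 0 := by clear * - b8 b5 c6; omega
  have c4 : x 4 = 0 := by clear * - b8 b4 c5; omega
  have c3 : x 3 = 0 := by clear * - b8 b3 c4; omega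
  have c2 : x 2 = 0 := by clear * - b8 b1 b2 c3; omega
  have c1 : x 1 = 0 := by clear * - b8 b1 c2; omega
  funext i
  fin_cases i
  exacts [b8, c1, c2, c3, c4, c5, c6, c7]

theorem fm_even (x : Fin 8 → ℤ) : ∃ k, fm x x = 2 * k := ⟨_, fm_self x⟩

/-- the action on the lattice -/
abbrev rp : CoxeterMatrix.E₈.Group →* Module.End ℤ (Fin 8 → ℤ) := rep CoxeterMatrix.E₈.toCoxeterSystem hpE8.isCartan

theorem rp_simple (i : Fin 8) (x : Fin 8 → ℤ) :
    rp (CoxeterMatrix.E₈.toCoxeterSystem.simple i) x = x - fm (sr i) x • sr i := by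
  rw [fm_sr]; exact rep_simple_eq _ _ i x

theorem fm_rp (w : CoxeterMatrix.E₈.Group) (x y : Fin 8 → ℤ) : fm (rp w x) (rp w y) = fm x y := by
  obtain ⟨L, rfl⟩ := CoxeterMatrix.E₈.toCoxeterSystem.wordProd_surjective w
  induction L with
  | nil => rw [wordProd_nil, map_one, Module.End.one_apply, Module.End.one_apply]
  | cons i L ih =>
    rw [wordProd_cons, map_mul, Module.End.mul_apply, Module.End.mul_apply, rp_simple, rp_simple, ← ih]
    simp only [map_sub, map_smul, LinearMap.sub_apply, LinearMap.smul_apply, smul_eq_mul, fm_sr_sr]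
    rw [fm_symm _ (sr i)]
    ring

/-- an element congruent to `1` modulo `s ≥ 2` sends each simple root to itself or its negative -/
theorem sign_of_mod {s : ℕ} (hs : 2 ≤ s) {w : CoxeterMatrix.E₈.Group} (i : Fin 8) {x : Fin 8 → ℤ}
    (h : rp w (sr i) = sr i + (s : ℤ) • x) : rp w (sr i) = sr i ∨ rp w (sr i) = - sr i := by
  have h1 := fm_rp w (sr i) (sr i)
  rw [h, fm_sr_sr] at h1
  simp only [map_add, map_smul, LinearMap.add_apply, LinearMap.smul_apply, smul_eq_mul, fm_sr_sr] at h1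
  rw [fm_symm x (sr i)] at h1
  by_cases hx : x = 0
  · left; rw [h, hx, smul_zero, add_zero]
  right
  have h2 := fm_nonneg ((2 : ℤ) • sr i + (s : ℤ) • x)
  have h3 : fm ((2 : ℤ) • sr i + (s : ℤ) • x) ((2 : ℤ) • sr i + (s : ℤ) • x) = 8 - (s : ℤ) * (s * fm x x) := by
    simp only [map_add, map_smul, LinearMap.add_apply, LinearMap.smul_apply, smul_eq_mul, fm_sr_sr]
    rw [fm_symm x (sr i)]
    linarith
  obtain ⟨k, hk⟩ := fm_even x
  have h4 : fm x x ≠ 0 := fun h0 => hx (fm_zero h0)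
  have h5 := fm_nonneg x
  have h6 : (2 : ℤ) ≤ s := by exact_mod_cast hs
  have h7 : 2 ≤ fm x x := by omega
  have h8 : 8 ≤ (s : ℤ) * (s * fm x x) := by
    have a : (2 : ℤ) * 2 ≤ s * fm x x := mul_le_mul h6 h7 (by norm_num) (by omega)
    have b : (2 : ℤ) * (2 * 2) ≤ s * (s * fm x x) := mul_le_mul h6 a (by norm_num) (by omega)
    omega
  have h9 := fm_zero (x := (2 : ℤ) • sr i + (s : ℤ) • x) (by omega)
  rw [h, eq_neg_iff_add_eq_zero, ← h9, two_smul]
  abel

theorem eq_of_sr {w w' : CoxeterMatrix.E₈.Group} (h : ∀ i, rp w (sr i) = rp w' (sr i)) : w = w' := by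
  apply rep_injective CoxeterMatrix.E₈.toCoxeterSystem hpE8.isCartan
  apply LinearMap.pi_ext'
  intro i
  apply LinearMap.ext_ring
  exact h i

theorem central_of_sign {w : CoxeterMatrix.E₈.Group} (h : ∀ i, rp w (sr i) = sr i ∨ rp w (sr i) = - sr i)
    (v : CoxeterMatrix.E₈.Group) : w * v = v * w := by
  have key : ∀ i, w * CoxeterMatrix.E₈.toCoxeterSystem.simple i = CoxeterMatrix.E₈.toCoxeterSystem.simple i * w := by
    intro i
    apply eq_of_sr
    intro j
    rw [map_mul, map_mul, Module.End.mul_apply, Module.End.mul_apply, rp_simple, rp_simple, map_sub, map_smul,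
      ← fm_rp w (sr i) (sr j)]
    rcases h i with e | e <;> rw [e] <;> simp only [_root_.map_neg, _root_.LinearMap.neg_apply, _root_.smul_neg, _root_.neg_smul, _root_.zsmul_eq_mul, _root_.neg_neg]
  obtain ⟨L, rfl⟩ := CoxeterMatrix.E₈.toCoxeterSystem.wordProd_surjective v
  induction L with
  | nil => rw [wordProd_nil, mul_one, one_mul]
  | cons i L ih => rw [wordProd_cons, ← mul_assoc, key, mul_assoc, ih, mul_assoc]

theorem sq_of_sign {w : CoxeterMatrix.E₈.Group} (h : ∀ i, rp w (sr i) = sr i ∨ rp w (sr i) = - sr i) : w ^ 2 = 1 := by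
  apply eq_of_sr
  intro i
  rw [pow_two, map_mul, Module.End.mul_apply, map_one, Module.End.one_apply]
  rcases h i with e | e
  · rw [e, e]
  · rw [e, map_neg, e, neg_neg]

variable (s : ℕ) [hs : Fact s.Prime]

/-- reduction modulo `s` -/
def red (x : Fin 8 → ℤ) : Fin 8 → ZMod s := fun i => (x i : ZMod s)

theorem red_surj (v : Fin 8 → ZMod s) : ∃ x, red s x = v :=
  ⟨fun i => (ZMod.intCast_surjective (v i)).choose, funext fun i => (ZMod.intCast_surjective (v i)).choose_spec⟩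

/-- the action modulo `s` -/
noncomputable def rs : CoxeterMatrix.E₈.Group →* Module.End (ZMod s) (Fin 8 → ZMod s) :=
  (Matrix.toLinAlgEquiv' (R := ZMod s) (n := Fin 8)).toMonoidHom.comp
    (((Int.castRingHom (ZMod s)).mapMatrix (m := Fin 8)).toMonoidHom.comp
      ((LinearMap.toMatrixAlgEquiv' (R := ℤ) (n := Fin 8)).toMonoidHom.comp rp))

theorem rs_red (w : CoxeterMatrix.E₈.Group) (x : Fin 8 → ℤ) : rs s w (red s x) = red s (rp w x) := by
  funext i
  have h1 : rp w x = (LinearMap.toMatrixAlgEquiv' (rp w)) *ᵥ x := by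
    rw [← Matrix.toLinAlgEquiv'_apply, Matrix.toLinAlgEquiv'_toMatrixAlgEquiv']
  change (Matrix.toLinAlgEquiv' ((LinearMap.toMatrixAlgEquiv' (rp w)).map (Int.castRingHom (ZMod s))) (red s x)) i =
    Int.castRingHom (ZMod s) (rp w x i)
  rw [Matrix.toLinAlgEquiv'_apply, h1, RingHom.map_mulVec]
  rfl

/-- the form modulo `s` -/
def fs : LinearMap.BilinForm (ZMod s) (Fin 8 → ZMod s) := Matrix.toBilin' (A8.map (Int.castRingHom (ZMod s)))

theorem fs_red (x y : Fin 8 → ℤ) : fs s (red s x) (red s y) = (fm x y : ZMod s) := by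
  rw [fm_apply, fs, Matrix.toBilin'_apply]
  push_cast
  rfl

theorem fs_nondeg : (fs s).Nondegenerate := by
  apply LinearMap.BilinForm.nondegenerate_toBilin'_of_det_ne_zero'
  have h : A8.map (Int.castRingHom (ZMod s)) * I8.map (Int.castRingHom (ZMod s)) = 1 := by
    rw [← Matrix.map_mul, A8_I8, Matrix.map_one _ (map_zero _) (map_one _)]
  exact (Matrix.isUnit_det_of_right_inverse h).ne_zero

theorem sign_of_rs {w : CoxeterMatrix.E₈.Group} (h : ∀ v, rs s w v = v) (i : Fin 8) :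
    rp w (sr i) = sr i ∨ rp w (sr i) = - sr i := by
  have h1 := h (red s (sr i))
  rw [rs_red] at h1
  have h2 : ∀ j, (s : ℤ) ∣ rp w (sr i) j - sr i j := fun j =>
    (ZMod.intCast_eq_intCast_iff_dvd_sub _ _ s).1 (congrFun h1 j).symm
  refine sign_of_mod hs.out.two_le i (x := fun j => (h2 j).choose) (funext fun j => ?_)
  rw [Pi.add_apply, Pi.smul_apply, smul_eq_mul, ← (h2 j).choose_spec]
  ring

theorem faithful {P : Subgroup CoxeterMatrix.E₈.Group} (hP : Nat.card P = 25) :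
    ∀ g ∈ P, (∀ v, rs s g v = v) → g = 1 := by
  intro g hg h
  have h2 := sq_of_sign (sign_of_rs s h)
  have h25 : g ^ 25 = 1 := by
    have := pow_card_eq_one' (G := P) (x := ⟨g, hg⟩)
    rw [hP] at this
    exact congrArg Subtype.val this
  have := (pow_gcd_eq_one (a := g) (m := 2) (n := 25)).2 ⟨h2, h25⟩
  rwa [show Nat.gcd 2 25 = 1 by norm_num, pow_one] at this

end W8

open W8

/-- **A subgroup of order 25 of `W(E₈)` fixes no nonzero vector.** -/
theorem W2 {P : Subgroup CoxeterMatrix.E₈.Group} (hP : Nat.card P = 25) (v : Fin 8 → ℤ)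
    (hv : ∀ x ∈ P, rep CoxeterMatrix.E₈.toCoxeterSystem hpE8.isCartan x v = v) : v = 0 := by
  haveI : Fact (Nat.Prime 2) := ⟨Nat.prime_two⟩
  have hb := fix_eq_bot (Or.inl rfl) (by simp) (rs 2) hP (faithful 2 hP)
  obtain ⟨n, hn⟩ : ∃ n : ℕ, fm v v = n := ⟨(fm v v).toNat, (Int.toNat_of_nonneg (fm_nonneg v)).symm⟩
  induction n using Nat.strong_induction_on generalizing v with
  | _ n ih =>
    by_cases h0 : n = 0
    · exact fm_zero (by rw [hn, h0]; rfl)
    have h1 : red 2 v ∈ Fx (rs 2) P := fun g hg => by rw [rs_red, hv g hg]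
    rw [hb, Submodule.mem_bot] at h1
    have h2 : ∀ j, ((2 : ℕ) : ℤ) ∣ v j := fun j => (ZMod.intCast_zmod_eq_zero_iff_dvd _ 2).1 (congrFun h1 j)
    obtain ⟨u, hu⟩ : ∃ u : Fin 8 → ℤ, v = (2 : ℤ) • u :=
      ⟨fun j => (h2 j).choose, funext fun j => (h2 j).choose_spec⟩
    have h3 : fm v v = 4 * fm u u := by
      rw [hu]; simp only [map_smul, LinearMap.smul_apply, smul_eq_mul]; ring
    have h4 := fm_nonneg u
    have h5 := ih (fm u u).toNat (by omega) u (fun x hx => by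
      have := hv x hx
      rw [hu, map_smul] at this
      exact smul_right_injective _ two_ne_zero this) (Int.toNat_of_nonneg h4).symm
    rw [hu, h5, smul_zero]

/-- **A subgroup of order 25 of `W(E₈)` centralizes the `2`-subgroups and the `3`-subgroups that it normalizes**; they are
central in `W(E₈)`. -/
theorem W1' {P S : Subgroup CoxeterMatrix.E₈.Group} (hP : Nat.card P = 25) {s : ℕ} (h23 : s = 2 ∨ s = 3)
    (hS : IsPGroup s S) (hN : P ≤ Subgroup.normalizer (S : Set CoxeterMatrix.E₈.Group)) :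
    ∀ g ∈ S, g ^ 2 = 1 ∧ ∀ v, g * v = v * g := by
  haveI : Fact s.Prime := ⟨by rcases h23 with rfl | rfl <;> norm_num⟩
  have h := triv_of_norm h23 (by simp) (rs s) hP (faithful s hP) (fs s) (fs_nondeg s) (by
    intro x y
    obtain ⟨x, rfl⟩ := red_surj s x
    obtain ⟨y, rfl⟩ := red_surj s y
    rw [fs_red, fs_red, fm_symm]) (by
    intro g x y
    obtain ⟨x, rfl⟩ := red_surj s x
    obtain ⟨y, rfl⟩ := red_surj s y
    rw [rs_red, rs_red, fs_red, fs_red, fm_rp]) hS hN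
  exact fun g hg => ⟨sq_of_sign (sign_of_rs s (h g hg)), central_of_sign (sign_of_rs s (h g hg))⟩

end Cfsg.Agent.T44.Ex

private theorem dce_ff2a2d595b08 : _root_.True := by
  try have : _root_.True := by simp only [_root_.Cfsg.Agent.T44.Ex.W8.A8.eq_1]
  try have : _root_.True := by simp only [_root_.Cfsg.Agent.T44.Ex.W8.fs.eq_1]
  try have : _root_.True := by simp only [_root_.Cfsg.Agent.T44.Ex.W8.red.congr_simp]
  exact _root_.True.intro
end

-- part: T44/Ex/W8G
section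
set_option linter.all false

/-!
# S3544: `W1`, `W2` for a general Coxeter matrix of type `E₈` (helper34)
-/

set_option autoImplicit false

namespace Cfsg.Agent.T44.Ex

open Cfsg Cfsg.Lie Cfsg.Agent.ChevalleyStructure.CoxeterGeom Cfsg.Agent.Nodes.RGDChev

theorem W2g {M : CoxeterMatrix (Fin 8)} (hp : IsType chevE8 8 M) (P : Subgroup M.Group) (hP : Nat.card P = 25)
    (v : Fin 8 → ℤ) (hv : ∀ x ∈ P, rep M.toCoxeterSystem hp.isCartan x v = v) : v = 0 := by
  obtain rfl := DS.Nt.eqE8 hp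
  exact W2 hP v hv

theorem W1g' {M : CoxeterMatrix (Fin 8)} (hp : IsType chevE8 8 M) {P S : Subgroup M.Group} {s : ℕ} (hs : s = 2 ∨ s = 3)
    (hP : Nat.card P = 25) (hS : IsPGroup s S) (hn : P ≤ Subgroup.normalizer (S : Set M.Group)) :
    ∀ g ∈ S, g ^ 2 = 1 ∧ ∀ v, g * v = v * g := by
  obtain rfl := DS.Nt.eqE8 hp
  exact W1' hP hs hS hn

end Cfsg.Agent.T44.Ex
end
end
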